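import Cfsg.Agent.Lib.Spor.HSType.EndTable

/-!
# A finite group containing the Higman–Sims group with the centralizer of its central involution

`Setting G` records an embedding of the permutation group whose image contains the centralizer in `G` of the
central involution. This file sets up the centralizer `Y` of the second involution and shows that the
centralizer in `Y` of the first one is the common centralizer of order 64, which is a Sylow two-subgroup.
-/

set_option autoImplicit false
set_option maxRecDepth 100000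

namespace CfsgLib.Spor.HSType

open Subgroup EndData CfsgLib.Spor.HSPerm

/-- The first involution. -/
noncomputable def tE : ↥P := el tW

/-- The second involution. -/
noncomputable def uE : ↥P := el uW

/-- A group containing the Higman–Sims group and in it the centralizer of the central involution. -/
structure Setting (G : Type*) [Group G] where
  ι : ↥P →* G
  inj : Function.Injective ι
  hcard : Nat.card ↥(Subgroup.centralizer ({ι tE} : Set G)) = 7680
  hle : Subgroup.centralizer ({ι tE} : Set G) ≤ ι.range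

theorem keys_inj {i j : ℕ} (hi : i < 64) (hj : j < 64) (e : sE i = sE j) : i = j := by
  refine List.inj_on_of_nodup_map keys_check.1 (List.mem_range.2 hi) (List.mem_range.2 hj) ?_
  have hmap : ∀ b ∈ HSPerm.basePts, elN (sW.getD i []) b = elN (sW.getD j []) b := fun b hb =>
    (does_el (sW_ok hi)).congr_base (does_el (sW_ok hj)) e hb
  exact List.foldl_ext _ _ 0 fun acc b hb => by rw [hmap b hb]

theorem sE_zero : sE 0 = 1 :=
  eq_of_onBase (does_el (sW_ok (by norm_num))) does_one keys_check.2.1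

theorem marked : tE = sE 18 ∧ uE = sE 20 := by
  have h := keys_check.2.2
  simp only [Bool.and_eq_true] at h
  obtain ⟨⟨⟨h1, h2⟩, h3⟩, h4⟩ := h
  simp only [conjOK, Bool.and_eq_true] at h1 h2
  exact ⟨(eq_of_onBase (does_el h1.1.1.2) (does_el h1.1.1.1) h3).symm,
    (eq_of_onBase (does_el h2.1.1.2) (does_el h2.1.1.1) h4).symm⟩

theorem commI_spec {i j : ℕ} (hi : i < 64) (hj : j < 64) : commI i j = true ↔ sE i * sE j = sE j * sE i := by
  rw [sE_mul hi hj, sE_mul hj hi, commI, beq_iff_eq]
  exact ⟨fun h => by rw [h], fun h => keys_inj (mulI_lt i j) (mulI_lt j i) h⟩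

theorem sE_comm (i : ℕ) : sE i * tE = tE * sE i ∧ sE i * uE = uE * sE i := by
  by_cases hi : i < 64
  · have h := centre_check.2.2.2
    simp only [Bool.and_eq_true, List.all_eq_true, List.mem_range] at h
    rw [marked.1, marked.2]
    exact ⟨((commI_spec (by norm_num) hi).1 (h.1 i hi)).symm, ((commI_spec (by norm_num) hi).1 (h.2 i hi)).symm⟩
  · have : sE i = 1 := by
      rw [sE, List.getD_eq_default _ _ (by
        rw [show sW.length = 64 from by decide +kernel]; omega)]
      rfl
    rw [this]; simp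

namespace Setting

variable {G : Type*} [Group G] (A : Setting G)

/-- The centralizer of the second involution. -/
def Y : Subgroup G := Subgroup.centralizer ({A.ι uE} : Set G)

theorem mem_Y {g : G} : g ∈ A.Y ↔ g * A.ι uE = A.ι uE * g := mem_centralizer_singleton_iff

theorem image_mem_Y {g : ↥P} (h : g * uE = uE * g) : A.ι g ∈ A.Y :=
  A.mem_Y.2 (by rw [← map_mul, h, map_mul])

/-- An element of the permutation group commuting with the second involution, in `Y`. -/
noncomputable def lift (g : ↥P) (h : g * uE = uE * g) : ↥A.Y := ⟨A.ι g, A.image_mem_Y h⟩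

theorem lift_mul {g k : ↥P} (hg : g * uE = uE * g) (hk : k * uE = uE * k) (hgk : g * k * uE = uE * (g * k)) :
    A.lift g hg * A.lift k hk = A.lift (g * k) hgk := Subtype.ext (map_mul A.ι g k).symm

theorem lift_eq {g k : ↥P} (hg : g * uE = uE * g) (hk : k * uE = uE * k) (e : g = k) :
    A.lift g hg = A.lift k hk := Subtype.ext (congrArg A.ι e)

/-- An element of the common centralizer, in `Y`. -/
noncomputable def q (i : ℕ) : ↥A.Y := A.lift (sE i) (sE_comm i).2

theorem q_mul {i j : ℕ} (hi : i < 64) (hj : j < 64) : A.q i * A.q j = A.q (mulI i j) :=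
  Subtype.ext (show A.ι (sE i) * A.ι (sE j) = A.ι (sE (mulI i j)) by rw [← map_mul, sE_mul hi hj])

theorem q_zero : A.q 0 = 1 := Subtype.ext (show A.ι (sE 0) = 1 by rw [sE_zero, map_one])

theorem q_inj {i j : ℕ} (hi : i < 64) (hj : j < 64) (e : A.q i = A.q j) : i = j :=
  keys_inj hi hj (A.inj (congrArg Subtype.val e))

theorem q_comm {i j : ℕ} (hi : i < 64) (hj : j < 64) : A.q i * A.q j = A.q j * A.q i ↔ commI i j = true := by
  rw [A.q_mul hi hj, A.q_mul hj hi, commI, beq_iff_eq]
  exact ⟨fun h => A.q_inj (mulI_lt i j) (mulI_lt j i) h, fun h => by rw [h]⟩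

theorem q20_central (g : ↥A.Y) : g * A.q 20 = A.q 20 * g := Subtype.ext (by
  show g.1 * A.ι (sE 20) = A.ι (sE 20) * g.1
  rw [← marked.2]; exact A.mem_Y.1 g.2)

/-- A checked conjugation inside `Y`. -/
theorem lift_conj {k x y : List ℕ} (h : conjOK k x y = true) (hk : el k * uE = uE * el k)
    (hx : el x * uE = uE * el x) (hy : el y * uE = uE * el y) :
    A.lift (el k) hk * A.lift (el x) hx * (A.lift (el k) hk)⁻¹ = A.lift (el y) hy :=
  Subtype.ext (show A.ι (el k) * A.ι (el x) * (A.ι (el k))⁻¹ = A.ι (el y) by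
    rw [← map_inv, ← map_mul, ← map_mul, conj_of_check h])

/-- The group of the common centralizer. -/
noncomputable def S : Subgroup ↥A.Y where
  carrier := {g | ∃ i < 64, A.q i = g}
  one_mem' := ⟨0, by norm_num, A.q_zero⟩
  mul_mem' := by
    rintro _ _ ⟨i, hi, rfl⟩ ⟨j, hj, rfl⟩
    exact ⟨_, mulI_lt i j, (A.q_mul hi hj).symm⟩
  inv_mem' := by
    rintro _ ⟨i, hi, rfl⟩
    have hb : Function.Bijective fun j : Fin 64 => (⟨mulI i j.1, mulI_lt i j.1⟩ : Fin 64) := by
      refine Finite.injective_iff_bijective.1 fun a b e => ?_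
      have := A.q_mul hi a.2
      rw [show mulI i a.1 = mulI i b.1 from congrArg Fin.val e, ← A.q_mul hi b.2, mul_right_inj] at this
      exact Fin.ext (A.q_inj a.2 b.2 this)
    obtain ⟨j, hj⟩ := hb.2 ⟨0, by norm_num⟩
    refine ⟨j.1, j.2, eq_inv_of_mul_eq_one_right ?_⟩
    rw [A.q_mul hi j.2, show mulI i j.1 = 0 from congrArg Fin.val hj, A.q_zero]

theorem q_mem {i : ℕ} (hi : i < 64) : A.q i ∈ A.S := ⟨i, hi, rfl⟩

theorem card_S : Nat.card ↥A.S = 64 := by
  have hb : Function.Bijective fun i : Fin 64 => (⟨A.q i.1, A.q_mem i.2⟩ : ↥A.S) := by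
    refine ⟨fun i j e => Fin.ext (A.q_inj i.2 j.2 (congrArg Subtype.val e)), ?_⟩
    rintro ⟨_, i, hi, rfl⟩
    exact ⟨⟨i, hi⟩, rfl⟩
  rw [← Nat.card_congr (Equiv.ofBijective _ hb), Nat.card_fin]

variable [Finite G]

/-- The centralizer of the first involution in `Y` is the common centralizer. -/
theorem mem_S_of_comm {g : ↥A.Y} (hg : g * A.q 18 = A.q 18 * g) : g ∈ A.S := by
  classical
  set C := Subgroup.centralizer ({A.ι tE} : Set G) ⊓ A.Y with hC
  have ho := orbit_check
  simp only [List.all_eq_true, Bool.and_eq_true] at ho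
  obtain ⟨hall, hnd, hlen⟩ := ho
  let f : Fin orbW.length × ↥C → ↥(Subgroup.centralizer ({A.ι tE} : Set G)) := fun p =>
    ⟨A.ι (el (orbW.get p.1).1) * p.2.1, mul_mem (mem_centralizer_singleton_iff.2 (by
      rw [← map_mul, ← map_mul]
      exact congrArg A.ι (comm_of_check (hall _ (List.get_mem _ _)).1))) p.2.2.1⟩
  have hf : Function.Injective f := by
    rintro ⟨a, c⟩ ⟨b, d⟩ e
    have e' : A.ι (el (orbW.get a).1) * c.1 = A.ι (el (orbW.get b).1) * d.1 := congrArg Subtype.val e
    have key : ∀ k (x : ↥C), A.ι (el (orbW.get k).2) =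
        (A.ι (el (orbW.get k).1) * x.1) * A.ι uE * (A.ι (el (orbW.get k).1) * x.1)⁻¹ := fun k x => by
      have hx : x.1 * A.ι uE = A.ι uE * x.1 := A.mem_Y.1 x.2.2
      rw [← conj_of_check (hall _ (List.get_mem _ _)).2, map_mul, map_mul, map_inv, mul_inv_rev,
        mul_assoc (A.ι (el (orbW.get k).1)) x.1, hx]
      show A.ι (el (orbW.get k).1) * A.ι uE * _ = _
      group
    have hab : a = b := by
      have hy : el (orbW.get a).2 = el (orbW.get b).2 := A.inj (by rw [key a c, key b d, e'])
      have ok : ∀ k, elOK (orbW.get k).2 = true := fun k => by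
        have := (hall _ (List.get_mem orbW k)).2
        simp only [conjOK, Bool.and_eq_true] at this
        exact this.1.2
      refine Fin.ext ((List.Nodup.getElem_inj_iff hnd (i := a.1) (j := b.1) (hi := by simp) (hj := by simp)).1 ?_)
      simp only [List.getElem_map]
      exact List.foldl_ext _ _ 0 fun acc p hp =>
        congrArg (128 * acc + ·) ((does_el (ok a)).congr_base (does_el (ok b)) hy hp)
    subst hab
    exact Prod.ext rfl (Subtype.ext (mul_left_cancel e'))
  have hle := Nat.card_le_card_of_injective f hf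
  rw [Nat.card_prod, Nat.card_fin, hlen, A.hcard] at hle
  let i : ↥A.S → ↥C := fun x => ⟨x.1.1, mem_centralizer_singleton_iff.2 (by
    obtain ⟨_, j, hj, rfl⟩ := x
    show A.ι (sE j) * A.ι tE = A.ι tE * A.ι (sE j)
    rw [← map_mul, ← map_mul, (sE_comm j).1]), x.1.2⟩
  have hi : Function.Bijective i := by
    have hinj : Function.Injective i := fun x y e =>
      Subtype.ext (Subtype.ext (congrArg (fun z : ↥C => (z : G)) e))
    refine (Nat.bijective_iff_injective_and_card i).2 ⟨hinj, le_antisymm (Nat.card_le_card_of_injective i hinj) ?_⟩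
    rw [A.card_S]
    omega
  obtain ⟨x, hx⟩ := hi.2 ⟨g.1, mem_centralizer_singleton_iff.2 (by
    have := congrArg Subtype.val hg
    show g.1 * A.ι tE = A.ι tE * g.1
    rw [marked.1]; exact this), g.2⟩
  have : g = x.1 := Subtype.ext (congrArg Subtype.val hx).symm
  rw [this]; exact x.2

/-- The central involutions. -/
theorem central_cases {i : ℕ} (hi : i < 64) (h : ∀ j < 64, A.q i * A.q j = A.q j * A.q i) :
    i = 0 ∨ i = 20 ∨ i = 18 ∨ i = mulI 20 18 := by
  have hc := centre_check.1
  simp only [List.all_eq_true, List.mem_range, Bool.or_eq_true, Bool.not_eq_true', List.all_eq_false] at hc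
  rcases hc i hi with ⟨j, hj, hne⟩ | hm
  · exact absurd ((A.q_comm hi hj).1 (h j hj)) hne
  · simpa using hm

theorem isPGroup_S : IsPGroup 2 ↥A.S := IsPGroup.of_card (n := 6) (by rw [A.card_S]; norm_num)

/-- The common centralizer is a Sylow two-subgroup of `Y`. -/
theorem exists_sylow : ∃ Q : Sylow 2 ↥A.Y, (Q : Subgroup ↥A.Y) = A.S := by
  haveI : Fact (Nat.Prime 2) := ⟨Nat.prime_two⟩
  obtain ⟨Q, hQ⟩ := A.isPGroup_S.exists_le_sylow
  refine ⟨Q, le_antisymm ?_ hQ⟩
  by_contra hne
  have hlt : A.S.subgroupOf (Q : Subgroup ↥A.Y) < ⊤ :=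
    lt_top_iff_ne_top.2 fun h => hne (subgroupOf_eq_top.1 h)
  haveI : Group.IsNilpotent ↥(Q : Subgroup ↥A.Y) := Q.isPGroup'.isNilpotent
  have hn := Group.normalizerCondition_of_isNilpotent _ hlt
  obtain ⟨g, hgn, hgS⟩ := SetLike.exists_of_lt hn
  apply hgS
  have hnorm : ∀ j < 64, ∃ k < 64, A.q k = g.1 * A.q j * g.1⁻¹ := fun j hj =>
    (mem_normalizer_iff.1 hgn ⟨A.q j, hQ (A.q_mem hj)⟩).1 (A.q_mem hj)
  have hc := centre_check
  obtain ⟨hc1, hc2, hc3, hc4⟩ := hc
  simp only [List.any_eq_true, List.mem_range, beq_iff_eq] at hc3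
  obtain ⟨a, ha, b, hb, e⟩ := hc3
  obtain ⟨a', ha', ea⟩ := hnorm a ha
  obtain ⟨b', hb', eb⟩ := hnorm b hb
  obtain ⟨t', ht', et⟩ := hnorm 18 (by norm_num)
  have hcen : ∀ j < 64, A.q t' * A.q j = A.q j * A.q t' := by
    intro j hj
    have hb2 : Function.Surjective fun k : Fin 64 => (⟨(hnorm k.1 k.2).choose, (hnorm k.1 k.2).choose_spec.1⟩ : Fin 64) := by
      refine (Finite.injective_iff_bijective.1 fun x y e => Fin.ext (A.q_inj x.2 y.2 ?_)).2
      have h1 := (hnorm x.1 x.2).choose_spec.2
      rw [show (hnorm x.1 x.2).choose = (hnorm y.1 y.2).choose from congrArg Fin.val e,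
        (hnorm y.1 y.2).choose_spec.2] at h1
      exact mul_left_cancel (mul_right_cancel h1.symm)
    obtain ⟨k, hk⟩ := hb2 ⟨j, hj⟩
    have h1 := (hnorm k.1 k.2).choose_spec.2
    rw [show (hnorm k.1 k.2).choose = j from congrArg Fin.val hk] at h1
    simp only [Bool.and_eq_true, List.all_eq_true, List.mem_range] at hc4
    have hk18 := (A.q_comm (by norm_num) k.2).2 (hc4.1 k.1 k.2)
    rw [h1, et]
    calc g.1 * A.q 18 * g.1⁻¹ * (g.1 * A.q k.1 * g.1⁻¹) = g.1 * (A.q 18 * A.q k.1) * g.1⁻¹ := by group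
      _ = g.1 * (A.q k.1 * A.q 18) * g.1⁻¹ := by rw [hk18]
      _ = _ := by group
  have he : mulI (mulI b' a') t' = mulI a' b' := by
    refine A.q_inj (mulI_lt _ _) (mulI_lt _ _) ?_
    rw [← A.q_mul (mulI_lt _ _) ht', ← A.q_mul hb' ha', ← A.q_mul ha' hb', ea, eb, et]
    have h0 : A.q b * A.q a * A.q 18 = A.q a * A.q b := by
      rw [A.q_mul hb ha, A.q_mul (mulI_lt _ _) (by norm_num), A.q_mul ha hb, e]
    calc g.1 * A.q b * g.1⁻¹ * (g.1 * A.q a * g.1⁻¹) * (g.1 * A.q 18 * g.1⁻¹)
        = g.1 * (A.q b * A.q a * A.q 18) * g.1⁻¹ := by group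
      _ = g.1 * (A.q a * A.q b) * g.1⁻¹ := by rw [h0]
      _ = _ := by group
  simp only [List.all_eq_true, List.mem_range, Bool.or_eq_true, Bool.not_eq_true', List.all_eq_false,
    beq_iff_eq, beq_eq_false_iff_ne] at hc2
  have h18 : t' = 18 := by
    rcases hc2 t' ht' with ((⟨j, hj, hne'⟩ | h0) | h18) | hno
    · exact absurd ((A.q_comm ht' hj).1 (hcen j hj)) hne'
    · exfalso
      rw [h0, A.q_zero, eq_comm, mul_inv_eq_one, mul_eq_left] at et
      have := A.q_inj (by norm_num) (by norm_num) (et.trans A.q_zero.symm)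
      omega
    · exact h18
    · exact absurd he (hno a' ha' b' hb')
  rw [h18, eq_mul_inv_iff_mul_eq] at et
  exact A.mem_S_of_comm et.symm

end Setting

end CfsgLib.Spor.HSType
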