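import Cfsg.Agent.Lib.Spor.HSType.MBound
import Cfsg.Agent.Lib.Spor.HSType.Setting
import Cfsg.Agent.Lib.Spor.HSType.Cert.Top.All

/-!
# The generators in the Higman–Sims permutation group

Five elements of the permutation group satisfy the relators of the presentation.
-/

set_option autoImplicit false
set_option maxRecDepth 100000

namespace CfsgLib.Spor.HSType

open CfsgLib.Spor.TC CfsgLib.Spor.HSPerm EndData

/-- The words of the letters. -/
def letterW : ℕ → List ℕ
  | 0 => [174, 287, 270, 316, 438]
  | 1 => [249, 193, 6, 318, 265]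
  | 2 => [387, 286, 409, 357, 436]
  | 3 => [110, 452, 276, 357, 401]
  | 4 => [6, 6, 276, 402, 436]
  | 5 => [6, 6, 450, 402, 6]
  | 6 => [6, 6, 366, 402, 436]
  | 7 => [6, 6, 366, 402, 436]
  | 8 => [142, 187, 183, 267, 436]
  | 9 => [142, 187, 183, 267, 436]
  | _ => []

/-- The closing relator. -/
def closeRel : List ℕ := [3, 5, 9, 3, 5, 5, 8, 4, 4, 2, 8, 4, 2, 3, 7, 4, 2, 9, 3, 7, 4, 2, 7, 5]

/-- All relators. -/
def allRels : List (List ℕ) := mRels ++ hRels 0 0 0 ++ [closeRel]

/-- The first five letters in the permutation group. -/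
noncomputable def pz : ↥P := el (letterW 0)
noncomputable def pa : ↥P := el (letterW 2)
noncomputable def pb : ↥P := el (letterW 4)
noncomputable def pc : ↥P := el (letterW 6)
noncomputable def ph : ↥P := el (letterW 8)

theorem el_append (u v : List ℕ) : el (u ++ v) = el u * el v := by simp [el]

theorem letters_check : ((List.range 10).all fun x => elOK (letterW x) &&
      onBase (fun b => elN (letterW x) (elN (letterW (Nat.xor x 1)) b)) id) = true ∧
    (allRels.all fun r => r.all (fun x => Nat.blt x 10) && elOK (r.flatMap letterW) &&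
      onBase (elN (r.flatMap letterW)) id) = true ∧
    (elOK tW && onBase (fun b => elN (letterW 0) (elN (letterW 0) b)) (elN tW)) = true ∧
    onBase (elN (letterW 0)) id = false := by
  decide +kernel

theorem el_inv {x : ℕ} (hx : x < 10) : el (letterW x) = (el (letterW (Nat.xor x 1)))⁻¹ := by
  have h := letters_check.1
  simp only [List.all_eq_true, List.mem_range, Bool.and_eq_true] at h
  have hy : Nat.xor x 1 < 10 := by interval_cases x <;> decide
  exact eq_inv_of_mul_eq_one_left (eq_of_onBase ((does_el (h x hx).1).mul (does_el (h _ hy).1)) does_one (h x hx).2)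

theorem gv_el {x : ℕ} (hx : x < 10) : gvH pz pa pb pc ph x = el (letterW x) := by
  interval_cases x <;> first | rfl | exact (el_inv hx).symm

theorem ev_el : ∀ {r : List ℕ}, (∀ x ∈ r, x < 10) → ev (gvH pz pa pb pc ph) r = el (r.flatMap letterW)
  | [], _ => rfl
  | x :: r, h => by
    rw [ev_cons, List.flatMap_cons, el_append, gv_el (h x List.mem_cons_self),
      ev_el fun y hy => h y (List.mem_cons_of_mem _ hy)]

theorem letters_rels : ∀ r ∈ allRels, ev (gvH pz pa pb pc ph) r = 1 := by
  intro r hr
  have h := letters_check.2.1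
  simp only [List.all_eq_true, Bool.and_eq_true, Nat.blt_eq] at h
  obtain ⟨⟨hlt, hok⟩, hb⟩ := h r hr
  rw [ev_el hlt]
  exact eq_of_onBase (does_el hok) does_one hb

theorem pz_sq : pz * pz = tE := by
  have h := letters_check.2.2.1
  simp only [Bool.and_eq_true] at h
  have h0 : elOK (letterW 0) = true := by decide +kernel
  exact eq_of_onBase ((does_el h0).mul (does_el h0)) (does_el h.1) h.2

theorem pz_ne : pz ≠ 1 := by
  intro e
  have h := letters_check.2.2.2
  rw [onBase_of_eq (does_el (by decide +kernel)) does_one (show el (letterW 0) = 1 from e)] at h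
  exact Bool.noConfusion h

/-- The standard generators as words in the letters. -/
def genW : ℕ → List ℕ
  | 0 => [2, 0, 5, 3, 8, 3, 0, 3, 4, 8, 2, 2, 1, 6]
  | 1 => [1, 4, 3, 8, 2, 0, 8, 3, 3, 8, 2, 0, 2, 4, 8, 3]
  | 2 => [0, 3, 3, 0, 8, 3, 1, 3, 8, 2, 1, 2, 6, 2]
  | _ => [1, 4, 3, 8, 2, 0, 8, 2, 8, 3, 3, 1, 2, 6, 8, 3]

theorem gen_words_check : ((List.range 4).all fun k => (genW k).all (fun x => Nat.blt x 10) &&
    elOK ((genW k).flatMap letterW) && onBase (elN ((genW k).flatMap letterW)) (look eltRows k)) = true := by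
  decide +kernel

/-- The five letters generate. -/
theorem closure_letters : Subgroup.closure ({pz, pa, pb, pc, ph} : Set ↥P) = ⊤ := by
  rw [eq_top_iff, ← closure_gens, Subgroup.closure_le]
  rintro _ ⟨k, rfl⟩
  have h := gen_words_check
  simp only [List.all_eq_true, List.mem_range, Bool.and_eq_true, Nat.blt_eq] at h
  obtain ⟨⟨hlt, hok⟩, hb⟩ := h k.1 k.2
  have e : E k.1 = el ((genW k.1).flatMap letterW) :=
    (eq_of_onBase (does_el hok) (does_E (by omega)) hb).symm
  show E k.1 ∈ _
  rw [e, ← ev_el hlt]
  refine list_prod_mem fun g hg => ?_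
  obtain ⟨x, hx, rfl⟩ := List.mem_map.1 hg
  have := hlt x hx
  have hm : ∀ g ∈ ({pz, pa, pb, pc, ph} : Set ↥P), g ∈ Subgroup.closure ({pz, pa, pb, pc, ph} : Set ↥P) :=
    fun g hg => Subgroup.subset_closure hg
  interval_cases x <;> simp only [gvH] <;>
    first | (apply hm; simp; done) | (apply inv_mem; apply hm; simp; done)

end CfsgLib.Spor.HSType
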