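import Cfsg.Agent.Lib.Spor.HSType.Second
import Cfsg.Agent.Lib.Invol.Basic

/-!
# A group containing the Higman–Sims group and the centralizer of its central involution is that group

The two classes of involutions of the Higman–Sims group are not fused in the larger group and both
centralizers lie in the smaller one, so every conjugate of the central involution lies there, too.
-/

set_option autoImplicit false
set_option maxRecDepth 100000

namespace CfsgLib.Spor.HSType

open Subgroup EndData CfsgLib.Spor.HSPerm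

theorem tE_sq : tE * tE = 1 ∧ tE ≠ 1 := by
  rw [marked.1, sE_mul (by norm_num) (by norm_num), show mulI 18 18 = 0 by decide +kernel, sE_zero]
  refine ⟨rfl, fun e => ?_⟩
  rw [← sE_zero] at e
  have := keys_inj (by norm_num) (by norm_num) e
  omega

theorem uE_sq : uE * uE = 1 ∧ uE ≠ 1 := by
  rw [marked.2, sE_mul (by norm_num) (by norm_num), show mulI 20 20 = 0 by decide +kernel, sE_zero]
  refine ⟨rfl, fun e => ?_⟩
  rw [← sE_zero] at e
  have := keys_inj (by norm_num) (by norm_num) e
  omega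

/-- Every involution of the Higman–Sims group is conjugate to one of the two. -/
theorem invol_conj (x : ↥P) (hx : x * x = 1) (hx1 : x ≠ 1) :
    ∃ k : ↥P, k * x * k⁻¹ = tE ∨ k * x * k⁻¹ = uE := by
  haveI := finite_P
  haveI : Fact (Nat.Prime 2) := ⟨Nat.prime_two⟩
  have ho : orderOf x = 2 := orderOf_eq_prime (by rw [pow_two]; exact hx) hx1
  have hz : IsPGroup 2 ↥(Subgroup.zpowers x) :=
    IsPGroup.of_card (n := 1) (by rw [Nat.card_zpowers, ho, pow_one])
  obtain ⟨R, hR⟩ := hz.exists_le_sylow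
  have hcard : Nat.card ↥S2 = 2 ^ (Nat.card ↥P).factorization 2 := by
    rw [card_S2, card_P, multiplicities.1]; norm_num
  obtain ⟨a, ha⟩ := MulAction.exists_smul_eq ↥P R (Sylow.ofCard S2 hcard)
  have hax : a * x * a⁻¹ ∈ S2 := by
    have e := congrArg (fun S : Sylow 2 ↥P => (S : Subgroup ↥P)) ha
    simp only [Sylow.coe_subgroup_smul, Sylow.coe_ofCard] at e
    rw [← e]
    exact ⟨x, hR (Subgroup.mem_zpowers x), rfl⟩
  obtain ⟨q, hq, eq'⟩ := mem_S2 hax
  obtain ⟨h1, h2⟩ := syl_wit_check
  simp only [List.all_eq_true, List.mem_range, Bool.or_eq_true, List.any_eq_true, Bool.and_eq_true,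
    Bool.not_eq_true'] at h1 h2
  rcases h2 q hq with (⟨e, he, heq⟩ | h0) | hsq
  · obtain ⟨hlt, hc⟩ := h1 e he
    have := conj_of_check hc
    have hone : el [sylIdx.getD e.1 0] = Q q := by
      rw [Nat.eq_of_beq_eq_true heq]
      exact List.prod_singleton
    rw [hone, eq'] at this
    refine ⟨el e.2.2 * a, ?_⟩
    rw [show el e.2.2 * a * x * (el e.2.2 * a)⁻¹ = el e.2.2 * (a * x * a⁻¹) * (el e.2.2)⁻¹ by group, this]
    split_ifs
    · exact Or.inl rfl
    · exact Or.inr rfl
  · rw [Nat.eq_of_beq_eq_true h0, Q_zero] at eq'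
    exfalso
    apply hx1
    rw [eq_comm, mul_inv_eq_one, mul_eq_left] at eq'
    exact eq'
  · exfalso
    have hQ : Q q * Q q = 1 := by
      rw [eq', show a * x * a⁻¹ * (a * x * a⁻¹) = a * (x * x) * a⁻¹ by group, hx, mul_one, mul_inv_cancel]
    rw [onBase_of_eq ((does_Q hq).mul (does_Q hq)) does_one hQ] at hsq
    exact Bool.noConfusion hsq

namespace Setting

variable {G : Type*} [Group G] [Finite G] (A : Setting G)

/-- The two involutions are not conjugate in `G`. -/
theorem not_conj_t_u (g : G) : g * A.ι uE * g⁻¹ ≠ A.ι tE := by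
  intro e
  let f : ↥A.Y →* ↥(Subgroup.centralizer ({A.ι tE} : Set G)) :=
    MonoidHom.mk' (fun y => ⟨g * y.1 * g⁻¹, mem_centralizer_singleton_iff.2 (by
      rw [← e]
      have := A.mem_Y.1 y.2
      calc g * y.1 * g⁻¹ * (g * A.ι uE * g⁻¹) = g * (y.1 * A.ι uE) * g⁻¹ := by group
        _ = g * (A.ι uE * y.1) * g⁻¹ := by rw [this]
        _ = _ := by group)⟩) fun a b => Subtype.ext (by simp [mul_assoc])
  have hf : Function.Injective f := fun a b h => Subtype.ext (by
    have h' : g * a.1 * g⁻¹ = g * b.1 * g⁻¹ := congrArg Subtype.val h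
    exact mul_left_cancel (mul_right_cancel h'))
  have := Subgroup.card_dvd_of_injective f hf
  rw [A.card_Y, A.hcard] at this
  norm_num at this

/-- The centralizer of an involution of the subgroup lies in it. -/
theorem centralizer_le {w : G} (hw : w ∈ A.ι.range) (hw2 : w * w = 1) (hw1 : w ≠ 1) :
    Subgroup.centralizer ({w} : Set G) ≤ A.ι.range := by
  obtain ⟨x, rfl⟩ := hw
  have hx : x * x = 1 := A.inj (by rw [map_mul, hw2, map_one])
  obtain ⟨k, hk⟩ := invol_conj x hx fun h => hw1 (by rw [h, map_one])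
  intro y hy
  have hy' := mem_centralizer_singleton_iff.1 hy
  have key : ∀ z : ↥P, k * x * k⁻¹ = z → A.ι k * y * (A.ι k)⁻¹ ∈ Subgroup.centralizer ({A.ι z} : Set G) := by
    intro z hz
    refine mem_centralizer_singleton_iff.2 ?_
    rw [← hz, map_mul, map_mul, map_inv]
    calc A.ι k * y * (A.ι k)⁻¹ * (A.ι k * A.ι x * (A.ι k)⁻¹) = A.ι k * (y * A.ι x) * (A.ι k)⁻¹ := by group
      _ = A.ι k * (A.ι x * y) * (A.ι k)⁻¹ := by rw [hy']
      _ = _ := by group
  have hc : A.ι k * y * (A.ι k)⁻¹ ∈ A.ι.range := by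
    rcases hk with h | h
    · exact A.hle (key _ h)
    · exact A.Y_le_range (key _ h)
  have : y = (A.ι k)⁻¹ * (A.ι k * y * (A.ι k)⁻¹) * A.ι k := by group
  rw [this]
  exact mul_mem (mul_mem (inv_mem ⟨k, rfl⟩) hc) ⟨k, rfl⟩

/-- The subgroup is everything. -/
theorem range_eq_top : A.ι.range = ⊤ := by
  rw [eq_top_iff]
  intro g _
  have htA : orderOf (A.ι tE) = 2 := orderOf_eq_prime (by rw [pow_two, ← map_mul, tE_sq.1, map_one])
    fun h => tE_sq.2 (A.inj (h.trans (map_one _).symm))
  have huA : orderOf (A.ι uE) = 2 := orderOf_eq_prime (by rw [pow_two, ← map_mul, uE_sq.1, map_one])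
    fun h => uE_sq.2 (A.inj (h.trans (map_one _).symm))
  set t' := g * A.ι tE * g⁻¹ with ht'def
  have ht' : orderOf t' = 2 := CfsgLib.Invol.invol_conj htA g
  have ht'X : t' ∈ A.ι.range := by
    rcases Nat.even_or_odd (orderOf (t' * A.ι uE)) with heven | hodd
    · set w := (t' * A.ι uE) ^ (orderOf (t' * A.ι uE) / 2) with hwdef
      have hw : orderOf w = 2 := CfsgLib.Invol.orderOf_pow_half heven
      have hwt : Commute w t' := CfsgLib.Invol.commute_pow_half (CfsgLib.Invol.invol_conj_mul ht' huA) heven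
      have hwu : Commute w (A.ι uE) := by
        have h1 : Commute w (t' * A.ι uE) := (Commute.refl _).pow_left _
        have h2 := hwt.mul_right h1
        rwa [← mul_assoc, CfsgLib.Invol.invol_mul_self ht', one_mul] at h2
      have hwX : w ∈ A.ι.range := A.Y_le_range (A.mem_Y.2 hwu.eq)
      refine A.centralizer_le hwX (CfsgLib.Invol.invol_mul_self hw) (fun h => by
        rw [h, orderOf_one] at hw; norm_num at hw) ?_
      exact mem_centralizer_singleton_iff.2 hwt.eq.symm
    · obtain ⟨c, hc⟩ := isConj_iff.1 (CfsgLib.Invol.isConj_of_odd ht' huA hodd)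
      exfalso
      refine A.not_conj_t_u ((c * g)⁻¹) ?_
      rw [← hc, ht'def]
      group
  obtain ⟨x, hx⟩ := ht'X
  have hx2 : x * x = 1 := A.inj (by
    rw [map_mul, hx, map_one, ht'def]
    calc g * A.ι tE * g⁻¹ * (g * A.ι tE * g⁻¹) = g * A.ι (tE * tE) * g⁻¹ := by rw [map_mul]; group
      _ = 1 := by rw [tE_sq.1, map_one, mul_one, mul_inv_cancel])
  have hx1 : x ≠ 1 := by
    intro h
    rw [h, map_one] at hx
    rw [← hx, orderOf_one] at ht'
    norm_num at ht'
  obtain ⟨k, hk | hk⟩ := invol_conj x hx2 hx1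
  · have hmem : A.ι k * g ∈ Subgroup.centralizer ({A.ι tE} : Set G) := by
      refine mem_centralizer_singleton_iff.2 ?_
      have e : A.ι k * g * A.ι tE * (A.ι k * g)⁻¹ = A.ι tE := by
        have e1 := congrArg A.ι hk
        rw [map_mul, map_mul, map_inv, hx, ht'def] at e1
        refine Eq.trans ?_ e1
        group
      exact mul_inv_eq_iff_eq_mul.1 e
    have hr := A.hle hmem
    have : g = (A.ι k)⁻¹ * (A.ι k * g) := by group
    rw [this]
    exact mul_mem (inv_mem ⟨k, rfl⟩) hr
  · exfalso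
    refine A.not_conj_t_u (g⁻¹ * (A.ι k)⁻¹) ?_
    rw [← hk, map_mul, map_mul, map_inv, hx, ht'def]
    group

end Setting

end CfsgLib.Spor.HSType
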