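import Cfsg.Agent.Lib.Spor.HSType.Closing
import Cfsg.Agent.Lib.Spor.HSType.Letters
import Cfsg.Agent.Lib.Spor.HSType.Outside

/-!
# The identification with the Higman–Sims group

The pairs of generators of `G` and of the permutation group generate a subgroup of the product of order at most
that of the permutation group, so it is the graph of a homomorphism whose image contains the centralizer of `t`.
-/

set_option autoImplicit false
set_option maxRecDepth 100000

namespace CfsgLib.Spor.HSType

open CfsgLib.Spor.TC CfsgLib.Spor.HSPerm Subgroup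

theorem simple_P : IsSimpleGroup ↥HSPerm.P := by
  haveI := CfsgLib.Spor.Leech.Census32.simple_hs_base
  exact MulEquiv.isSimpleGroup HSPerm.equivP.symm

variable {G : Type*} [Group G] [Finite G] {t : G} {D : MData G t} (Q : Pres D)

namespace Pres

theorem allRels_ev (hcard : Nat.card ↥(Subgroup.centralizer ({t} : Set G)) = 7680) :
    ∀ r ∈ allRels, Q.val r = 1 := by
  intro r hr
  rcases List.mem_append.1 hr with h | h
  · exact Q.rel h
  · rw [List.mem_singleton] at h
    subst h
    have e : Q.val closeRel = Q.gy * Q.h * Q.gy⁻¹ * Q.y0⁻¹ := by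
      simp [closeRel, val, ev, gvH, gy, y0, MGens.s, mul_assoc]
    rw [e, Q.closing hcard, mul_inv_cancel]

/-- The paired generators. -/
noncomputable def pr (x : ℕ) : G × ↥HSPerm.P :=
  (gvH Q.z Q.a Q.b Q.c Q.h x, gvH pz pa pb pc ph x)

theorem pr_eq : Q.pr = gvH (Q.z, pz) (Q.a, pa) (Q.b, pb) (Q.c, pc) (Q.h, ph) := by
  funext x
  by_cases hx : x < 10
  · interval_cases x <;> rfl
  · obtain ⟨y, rfl⟩ : ∃ y, x = y + 10 := ⟨x - 10, by omega⟩
    simp [pr, gvH]

theorem ev_pr (r : List ℕ) : ev Q.pr r = (Q.val r, ev (gvH pz pa pb pc ph) r) := by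
  induction r with
  | nil => rfl
  | cons x r ih => rw [ev_cons, ih]; simp [pr, val, ev_cons]

/-- The subgroup generated by the pairs. -/
noncomputable def delta : Subgroup (G × ↥HSPerm.P) :=
  Subgroup.closure {(Q.z, pz), (Q.a, pa), (Q.b, pb), (Q.c, pc), (Q.h, ph)}

theorem delta_card (hcard : Nat.card ↥(Subgroup.centralizer ({t} : Set G)) = 7680) :
    Nat.card Q.delta ≤ 44352000 := by
  classical
  haveI := HSPerm.finite_P
  set S : Set (G × ↥HSPerm.P) := {(Q.z, pz), (Q.a, pa), (Q.b, pb), (Q.c, pc), (Q.h, ph)} with hS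
  have hmem : ∀ p ∈ S, p ∈ Q.delta := fun p hp => Subgroup.subset_closure hp
  let z' : Q.delta := ⟨(Q.z, pz), hmem _ (by simp [hS])⟩
  let a' : Q.delta := ⟨(Q.a, pa), hmem _ (by simp [hS])⟩
  let b' : Q.delta := ⟨(Q.b, pb), hmem _ (by simp [hS])⟩
  let c' : Q.delta := ⟨(Q.c, pc), hmem _ (by simp [hS])⟩
  let h' : Q.delta := ⟨(Q.h, ph), hmem _ (by simp [hS])⟩
  have hcoe : ∀ r : List ℕ, ((ev (gvH z' a' b' c' h') r : Q.delta) : G × ↥HSPerm.P) = ev Q.pr r := by
    intro r
    induction r with
    | nil => rfl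
    | cons x r ih =>
      rw [ev_cons, ev_cons, Subgroup.coe_mul, ih, Q.pr_eq]
      congr 1
      by_cases hx : x < 10
      · interval_cases x <;> rfl
      · obtain ⟨y, rfl⟩ : ∃ y, x = y + 10 := ⟨x - 10, by omega⟩
        simp [gvH]
  have hrels : ∀ r ∈ allRels, ev (gvH z' a' b' c' h') r = 1 := by
    intro r hr
    refine Subtype.ext ?_
    rw [hcoe, Q.ev_pr, Q.allRels_ev hcard r hr, letters_rels r hr]
    rfl
  have hgen : Subgroup.closure (gvH z' a' b' c' h' '' Set.Iio 10) = ⊤ := by
    refine top_le_iff.1 (le_trans (le_of_eq (Subgroup.closure_closure_coe_preimage (k := S)).symm)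
      (Subgroup.closure_mono ?_))
    intro p hp
    have hp' : (p : G × ↥HSPerm.P) ∈ S := hp
    rcases hp' with h | h | h | h | h
    exacts [⟨0, by norm_num, Subtype.ext h.symm⟩, ⟨2, by norm_num, Subtype.ext h.symm⟩,
      ⟨4, by norm_num, Subtype.ext h.symm⟩, ⟨6, by norm_num, Subtype.ext h.symm⟩,
      ⟨8, by norm_num, Subtype.ext h.symm⟩]
  set T : Set Q.delta := {z', a', b', c'} with hT
  set H := Subgroup.closure T
  have hlt : ∀ x < 10, invLetter 10 x < 10 := by decide +kernel
  obtain ⟨hne, hidx⟩ := Cert.Top.cert.index_le_signed Cert.Top.steps_ok Cert.Top.rows_ok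
    (by decide +kernel) (by norm_num) _ (gvH_inv z' a' b' c' h') rfl hlt hgen (fun r hr => hrels r hr) H (by
      intro r hr'
      simp only [Cert.Top.cert, Cert.Top.subs, List.mem_cons, List.not_mem_nil, or_false] at hr'
      rcases hr' with rfl | rfl | rfl | rfl <;> simp only [ev, List.map_cons, List.map_nil, List.prod_cons,
        List.prod_nil, mul_one, gvH] <;> exact Subgroup.subset_closure (by simp [hT]))
  let zH : H := ⟨z', Subgroup.subset_closure (by simp [hT])⟩
  let aH : H := ⟨a', Subgroup.subset_closure (by simp [hT])⟩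
  let bH : H := ⟨b', Subgroup.subset_closure (by simp [hT])⟩
  let cH : H := ⟨c', Subgroup.subset_closure (by simp [hT])⟩
  have hHgen : Subgroup.closure ({zH, aH, bH, cH} : Set H) = ⊤ := by
    refine top_le_iff.1 (le_trans (le_of_eq (Subgroup.closure_closure_coe_preimage (k := T)).symm)
      (Subgroup.closure_mono ?_))
    intro p hp
    have hp' : (p : Q.delta) ∈ T := hp
    rcases hp' with h | h | h | h
    exacts [Or.inl (Subtype.ext h), Or.inr (Or.inl (Subtype.ext h)), Or.inr (Or.inr (Or.inl (Subtype.ext h))),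
      Or.inr (Or.inr (Or.inr (Subtype.ext h)))]
  have hH : Nat.card H ≤ 10752 := by
    refine (card_le_mBound (fun r hr => Subtype.ext ?_) hHgen).2
    have hcoe' : ∀ r : List ℕ, (∀ x ∈ r, x < 8) →
        ((ev (gvM zH aH bH cH) r : H) : Q.delta) = ev (gvH z' a' b' c' h') r := by
      intro r hr
      induction r with
      | nil => rfl
      | cons x r ih =>
        rw [ev_cons, ev_cons, Subgroup.coe_mul, ih fun y hy => hr y (List.mem_cons_of_mem _ hy)]
        congr 1
        have := hr x List.mem_cons_self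
        interval_cases x <;> rfl
    have key : ∀ r ∈ mRels, ∀ x ∈ r, x < 8 := by decide +kernel
    rw [hcoe' r (key r hr), hrels r (List.mem_append_left _ (List.mem_append_left _ hr))]
    rfl
  rw [← H.index_mul_card]
  calc H.index * Nat.card H ≤ 4125 * 10752 := Nat.mul_le_mul hidx hH
    _ = 44352000 := by norm_num

theorem pr_generate :
    Subgroup.closure ({pz, pa, pb, pc, ph} : Set ↥HSPerm.P) = Q.delta.map (MonoidHom.snd G ↥HSPerm.P) := by
  rw [delta, MonoidHom.map_closure]
  simp [Set.image_insert_eq]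

/-- The image of `G` is isomorphic to the permutation group. -/
theorem exists_hom (hcard : Nat.card ↥(Subgroup.centralizer ({t} : Set G)) = 7680) :
    ∃ f : ↥HSPerm.P →* G, Function.Injective f ∧ f tE = t ∧ D.M ≤ f.range ∧ Q.h ∈ f.range := by
  classical
  haveI := HSPerm.finite_P
  let p : Q.delta →* ↥HSPerm.P := (MonoidHom.snd G ↥HSPerm.P).comp Q.delta.subtype
  have hsurj : Function.Surjective p := by
    have hrange : p.range = Q.delta.map (MonoidHom.snd G ↥HSPerm.P) := by
      rw [MonoidHom.range_comp, Subgroup.range_subtype]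
    have hP : Q.delta.map (MonoidHom.snd G ↥HSPerm.P) = ⊤ := by
      rw [← Q.pr_generate]
      exact closure_letters
    exact MonoidHom.range_eq_top.1 (hrange.trans hP)
  have hle := Q.delta_card hcard
  have hbij : Function.Bijective p :=
    (Nat.bijective_iff_surjective_and_card p).2 ⟨hsurj, le_antisymm (by rw [card_P]; exact hle)
      (Nat.card_le_card_of_surjective p hsurj)⟩
  let e := MulEquiv.ofBijective p hbij
  let f : ↥HSPerm.P →* G := ((MonoidHom.fst G ↥HSPerm.P).comp Q.delta.subtype).comp e.symm.toMonoidHom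
  have hval : ∀ (g : G) (x : ↥HSPerm.P), (g, x) ∈ Q.delta → f x = g := by
    intro g x h
    have e1 : e.symm x = ⟨(g, x), h⟩ := e.injective (by rw [e.apply_symm_apply]; rfl)
    show ((e.symm x : Q.delta) : G × ↥HSPerm.P).1 = g
    rw [e1]
  have hz : f pz = Q.z := hval _ _ (Subgroup.subset_closure (by simp))
  have ht : f tE = t := by
    rw [← pz_sq, map_mul, hz, ← pow_two]; exact Q.hz
  refine ⟨f, ?_, ht, ?_, ⟨ph, hval _ _ (Subgroup.subset_closure (by simp))⟩⟩
  · haveI := simple_P
    rw [← MonoidHom.ker_eq_bot_iff]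
    refine f.normal_ker.eq_bot_or_eq_top.resolve_right fun h => D.ht1 ?_
    rw [← ht]
    exact MonoidHom.mem_ker.1 (h ▸ Subgroup.mem_top tE)
  · rw [← Q.gen, Subgroup.closure_le]
    rintro g (rfl | rfl | rfl | rfl)
    exacts [⟨pz, hz⟩, ⟨pa, hval _ _ (Subgroup.subset_closure (by simp))⟩,
      ⟨pb, hval _ _ (Subgroup.subset_closure (by simp))⟩, ⟨pc, hval _ _ (Subgroup.subset_closure (by simp))⟩]

include Q in
/-- The group is the permutation group. -/
theorem equiv_P (hcard : Nat.card ↥(Subgroup.centralizer ({t} : Set G)) = 7680) :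
    Nonempty (G ≃* ↥HSPerm.P) := by
  obtain ⟨f, hinj, ht, hM, hh⟩ := Q.exists_hom hcard
  have hle : Subgroup.centralizer ({t} : Set G) ≤ f.range := by
    intro g hg
    rcases Q.cover hcard (mem_centralizer_singleton_iff.1 hg) with h | ⟨m, hm, -, i, j, rfl⟩
    · exact hM h
    · exact mul_mem (mul_mem (hM hm) hh) (hM (D.hAM (Q.memA _)))
  let A : Setting G :=
    { ι := f, inj := hinj, hcard := (congrArg (fun x : G => Nat.card ↥(Subgroup.centralizer ({x} : Set G))) ht).trans hcard,
      hle := (le_of_eq (congrArg (fun x : G => Subgroup.centralizer ({x} : Set G)) ht)).trans hle }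
  exact ⟨((MonoidHom.ofInjective hinj).trans
    ((MulEquiv.subgroupCongr A.range_eq_top).trans Subgroup.topEquiv)).symm⟩

end Pres

end CfsgLib.Spor.HSType
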