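import Cfsg.Agent.Lib.Spor.HSType.Pres
import Cfsg.Agent.Lib.Spor.HSType.Cert.YT.All
import Cfsg.Agent.Lib.Spor.HSType.Cert.YH.All
import Cfsg.Agent.Lib.Spor.HSType.Cert.YA0.All
import Cfsg.Agent.Lib.Spor.HSType.Cert.YB0.All
import Cfsg.Agent.Lib.Spor.HSType.Cert.YA1.All
import Cfsg.Agent.Lib.Spor.HSType.Cert.YB1.All
import Cfsg.Agent.Lib.Spor.HSType.Cert.YA2.All
import Cfsg.Agent.Lib.Spor.HSType.Cert.YB2.All
import Cfsg.Agent.Lib.Spor.HSType.Cert.Y1.All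
import Cfsg.Agent.Lib.Spor.HSType.Cert.Y2.All
import Cfsg.Agent.Lib.Spor.HSType.Cert.Y3.All
import Cfsg.Agent.Lib.Spor.HSType.Cert.Y4.All
import Cfsg.Agent.Lib.Spor.HSType.Cert.Y5.All
import Cfsg.Agent.Lib.Spor.HSType.Cert.Y6.All
import Cfsg.Agent.Lib.Spor.HSType.Cert.Y7.All
import Cfsg.Agent.Lib.Spor.HSType.Cert.Y8.All
import Cfsg.Agent.Lib.Spor.HSType.Cert.Y9.All
import Cfsg.Agent.Lib.Spor.HSType.Cert.Y10.All
import Cfsg.Agent.Lib.Spor.HSType.Cert.Y11.All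
import Cfsg.Agent.Lib.Spor.HSType.Cert.Y12.All
import Cfsg.Agent.Lib.Spor.HSType.Cert.Y13.All
import Cfsg.Agent.Lib.Spor.HSType.Cert.Y14.All
import Cfsg.Agent.Lib.Spor.HSType.Cert.Y15.All

/-!
# The closing relation

The centralizer is covered by five cosets of its intersection with the two-local subgroup, so the conjugate of
`h` mapping into it is one of sixteen words; certificates exclude fifteen of them.
-/

set_option autoImplicit false
set_option maxRecDepth 100000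

namespace CfsgLib.Spor.HSType

open CfsgLib.Spor.TC Subgroup

variable {G : Type*} [Group G] {t : G} {D : MData G t}

namespace Pres

variable (Q : Pres D)

/-- The value of a word. -/
def val (w : List ℕ) : G := ev (gvH Q.z Q.a Q.b Q.c Q.h) w

theorem rel {r : List ℕ} (hr : r ∈ mRels ++ hRels 0 0 0) : Q.val r = 1 := Q.hrels r hr

theorem h_sq : Q.h * Q.h = 1 := by
  have := Q.rel (r := [8, 8]) (by decide)
  simpa [val, ev, gvH] using this

theorem h_inv : Q.h⁻¹ = Q.h := inv_eq_of_mul_eq_one_right Q.h_sq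

theorem h_z : Q.h * Q.z * Q.h⁻¹ = Q.z⁻¹ := by
  have := Q.rel (r := [8, 0, 9, 0]) (by decide)
  simp only [val, ev, gvH, List.map_cons, List.map_nil, List.prod_cons, List.prod_nil, mul_one] at this
  rw [← mul_assoc, ← mul_assoc] at this
  exact eq_inv_of_mul_eq_one_left this

theorem h_c : Q.h * Q.c * Q.h⁻¹ = Q.c := by
  have := Q.rel (r := [8, 6, 8, 6]) (by decide)
  simp only [val, ev, gvH, List.map_cons, List.map_nil, List.prod_cons, List.prod_nil, mul_one] at this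
  rw [← mul_assoc, ← mul_assoc] at this
  rw [Q.h_inv, eq_inv_of_mul_eq_one_left this]
  exact inv_eq_of_mul_eq_one_right Q.sq_c

theorem h_b : Q.h * Q.b = Q.b * Q.h := by
  have := Q.rel (r := [8, 4, 9, 5]) (by decide)
  simp only [val, ev, gvH, List.map_cons, List.map_nil, List.prod_cons, List.prod_nil, mul_one] at this
  rw [← mul_assoc, ← mul_assoc, mul_inv_eq_one] at this
  exact mul_inv_eq_iff_eq_mul.1 this

theorem mu_half : Q.mu (((0, 0, 0) : V4), true, true) = Q.s * Q.s1 := by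
  simp only [MGens.mu, cond_true]
  rw [show Q.vec ((0, 0, 0) : V4) = 1 from Q.vec_zero, one_mul]

theorem mu_s : Q.mu (((0, 0, 0) : V4), true, false) = Q.s := by
  simp only [MGens.mu, cond_true, cond_false, mul_one]
  rw [show Q.vec ((0, 0, 0) : V4) = 1 from Q.vec_zero, one_mul]

theorem h_v0 : Q.h * Q.vec (0, 2, 0) * Q.h⁻¹ = Q.mu (((0, 0, 0) : V4), true, true) := by
  rw [Q.mu_half]
  have := Q.rel (r := [8, 2, 0, 0, 3, 9] ++ (phWords 0).1) (by decide)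
  have e : Q.vec (0, 2, 0) = Q.a * (Q.z * Q.z) * Q.a⁻¹ := by
    simp [Gens.vec, Gens.z1, show (2 : ZMod 4).val = 2 from rfl, pow_two, mul_assoc]
  rw [e, ← mul_inv_eq_one, ← this]
  simp [val, ev, gvH, phWords, MGens.s, MGens.s1, mul_assoc]

theorem h_v1 : Q.h * Q.vec (0, 0, 2) * Q.h⁻¹ = Q.s := by
  have e : Q.b * Q.vec (0, 2, 0) * Q.b⁻¹ = Q.vec (0, 0, 2) := (Q.b_vec _).trans (congrArg _ (by decide))
  calc Q.h * Q.vec (0, 0, 2) * Q.h⁻¹ = (Q.h * Q.b) * Q.vec (0, 2, 0) * (Q.h * Q.b)⁻¹ := by rw [← e]; group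
    _ = Q.b * (Q.h * Q.vec (0, 2, 0) * Q.h⁻¹) * Q.b⁻¹ := by rw [Q.h_b]; group
    _ = _ := by
      rw [Q.h_v0, Q.mu_cb Q.sq_c Q.ac_one, ← Q.mu_s]
      exact congrArg Q.mu (by decide +kernel)

theorem h_v01 : Q.h * Q.mu (((0, 0, 0) : V4), true, true) * Q.h⁻¹ = Q.vec (0, 2, 0) := by
  rw [← Q.h_v0]
  calc Q.h * (Q.h * Q.vec (0, 2, 0) * Q.h⁻¹) * Q.h⁻¹ = (Q.h * Q.h) * Q.vec (0, 2, 0) * (Q.h * Q.h)⁻¹ := by group
    _ = _ := by rw [Q.h_sq]; group

theorem h_s : Q.h * Q.s * Q.h⁻¹ = Q.vec (0, 0, 2) := by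
  rw [← Q.h_v1]
  calc Q.h * (Q.h * Q.vec (0, 0, 2) * Q.h⁻¹) * Q.h⁻¹ = (Q.h * Q.h) * Q.vec (0, 0, 2) * (Q.h * Q.h)⁻¹ := by group
    _ = _ := by rw [Q.h_sq]; group

/-- The images under `h` of the vectors with even second and third coordinate. -/
def phiA (e : V4) : R4 :=
  R4.mul (R4.mul (R4.zpw (-e.1)) (cond (e.2.1 == 2) (((0, 0, 0) : V4), true, true) R4.one))
    (cond (e.2.2 == 2) (((0, 0, 0) : V4), true, false) R4.one)

theorem mu_zpw (k : ZMod 4) : Q.mu (R4.zpw k) = Q.z ^ k.val := by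
  rw [R4.zpw, Q.mu_vec]; simp [Gens.vec]

theorem h_vec {e : V4} (he : evV e = true) : Q.h * Q.vec e * Q.h⁻¹ = Q.mu (phiA e) := by
  have hmul := Q.mu_mul Q.sq_c Q.ac_one
  have key : ∀ e : V4, evV e = true → R4.mul (R4.mul (R4.zpw e.1)
      (cond (e.2.1 == 2) (((0, 2, 0) : V4), false, false) R4.one))
      (cond (e.2.2 == 2) (((0, 0, 2) : V4), false, false) R4.one) = (e, false, false) := by decide +kernel
  have hcond : ∀ (p : Bool) (g g' : R4), Q.h * Q.mu g * Q.h⁻¹ = Q.mu g' →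
      Q.h * Q.mu (cond p g R4.one) * Q.h⁻¹ = Q.mu (cond p g' R4.one) := by
    intro p g g' hg
    cases p
    · simp [R4.one, Q.mu_one]
    · exact hg
  have hz : ∀ k : ZMod 4, Q.h * Q.mu (R4.zpw k) * Q.h⁻¹ = Q.mu (R4.zpw (-k)) := by
    intro k
    have hn : ∀ k : ZMod 4, (3 * k.val) % 4 = (-k).val := by decide +kernel
    rw [Q.mu_zpw, Q.mu_zpw, ← conj_pow, Q.h_z, ← hn, ← pow_eq_pow_mod _ Q.z4,
      inv_eq_of_mul_eq_one_right (show Q.z * Q.z ^ 3 = 1 by rw [← pow_succ']; exact Q.z4), ← pow_mul]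
  rw [phiA, hmul, hmul, ← hz, ← hcond _ (((0, 2, 0) : V4), false, false) (((0, 0, 0) : V4), true, true) (by rw [Q.mu_vec]; exact Q.h_v0),
    ← hcond _ (((0, 0, 2) : V4), false, false) (((0, 0, 0) : V4), true, false) (by rw [Q.mu_vec, Q.mu_s]; exact Q.h_v1), ← Q.mu_vec, ← key e he,
    hmul, hmul]
  group

/-- Conjugates of elements of `A` by `h` outside the core leave the two-local subgroup. -/
theorem h_vec_not_mem {d : V4} (hd : evV d = false) : Q.h * Q.vec d * Q.h⁻¹ ∉ D.M := by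
  intro hm
  have hmul := Q.mu_mul Q.sq_c Q.ac_one
  have step : ∀ (v : V4) (P : R4), v + v = 0 → Q.h * Q.mu P * Q.h⁻¹ = Q.vec v →
      Q.h * Q.vec v * Q.h⁻¹ = Q.mu P → evV (d - actK P.2 d) = true →
      ∃ u : V4, u + u = 0 ∧ R4.mul (phiA (d - actK P.2 d)) (v, false, false) = (u, false, false) := by
    intro v P hv hPv hvP hev
    have hV : Q.vec v ∈ D.V := ⟨Q.memA v, by rw [pow_two, ← Q.vec_add, hv, Q.vec_zero]⟩
    have h1 := D.V_conj hm hV
    have e1 : Q.vec d * Q.mu P * (Q.vec d)⁻¹ = Q.vec (d - actK P.2 d) * Q.mu P := by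
      have h3 : (Q.vec d)⁻¹ = Q.vec (-d) :=
        inv_eq_of_mul_eq_one_right (by rw [← Q.vec_add, add_neg_cancel, Q.vec_zero])
      have hpm : ∀ (P : R4) (d : V4), R4.mul (R4.mul (d, false, false) P) (-d, false, false) =
          R4.mul (d - actK P.2 d, false, false) P := by decide +kernel
      rw [h3, ← Q.mu_vec, ← Q.mu_vec, ← Q.mu_vec, ← hmul, ← hmul, ← hmul, hpm]
    have e2 : Q.h * Q.vec d * Q.h⁻¹ * Q.vec v * (Q.h * Q.vec d * Q.h⁻¹)⁻¹ =
        Q.mu (R4.mul (phiA (d - actK P.2 d)) (v, false, false)) := by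
      calc Q.h * Q.vec d * Q.h⁻¹ * Q.vec v * (Q.h * Q.vec d * Q.h⁻¹)⁻¹ =
          Q.h * (Q.vec d * (Q.h⁻¹ * Q.vec v * Q.h) * (Q.vec d)⁻¹) * Q.h⁻¹ := by group
        _ = Q.h * (Q.vec d * Q.mu P * (Q.vec d)⁻¹) * Q.h⁻¹ := by
            rw [Q.h_inv, show Q.h * Q.vec v * Q.h = Q.mu P by rw [← hvP, Q.h_inv]]
        _ = Q.h * Q.vec (d - actK P.2 d) * Q.h⁻¹ * (Q.h * Q.mu P * Q.h⁻¹) := by rw [e1]; group
        _ = _ := by rw [Q.h_vec hev, hPv, hmul, Q.mu_vec]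
    rw [e2] at h1
    obtain ⟨u, hu⟩ := Q.surj _ h1.1
    refine ⟨u, Q.inj ?_, Q.mu_inj Q.sq_c Q.ac_one (by rw [Q.mu_vec, hu])⟩
    rw [Q.vec_add, hu, ← pow_two, h1.2, Q.vec_zero]
  have key : ∀ d : V4, evV d = false →
      evV (d - actK (true, true) d) = true ∧ evV (d - actK (true, false) d) = true ∧
      (((R4.mul (phiA (d - actK (true, true) d)) ((0, 2, 0), false, false)).2 ≠ (false, false) ∨
          (R4.mul (phiA (d - actK (true, true) d)) ((0, 2, 0), false, false)).1 +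
            (R4.mul (phiA (d - actK (true, true) d)) ((0, 2, 0), false, false)).1 ≠ 0) ∨
        ((R4.mul (phiA (d - actK (true, false) d)) ((0, 0, 2), false, false)).2 ≠ (false, false) ∨
          (R4.mul (phiA (d - actK (true, false) d)) ((0, 0, 2), false, false)).1 +
            (R4.mul (phiA (d - actK (true, false) d)) ((0, 0, 2), false, false)).1 ≠ 0)) := by decide +kernel
  obtain ⟨h1, h2, h3⟩ := key d hd
  obtain ⟨u, hu, eu⟩ := step (0, 2, 0) (((0, 0, 0) : V4), true, true) (by decide) Q.h_v01 Q.h_v0 h1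
  obtain ⟨w, hw, ew⟩ := step (0, 0, 2) (((0, 0, 0) : V4), true, false) (by decide)
    (by rw [Q.mu_s]; exact Q.h_s) (by rw [Q.mu_s]; exact Q.h_v1) h2
  rcases h3 with (h | h) | (h | h)
  · exact h (by rw [eu])
  · exact h (by rw [eu]; exact hu)
  · exact h (by rw [ew])
  · exact h (by rw [ew]; exact hw)

theorem s_not_mem_A : Q.s ∉ D.A := by
  intro h
  rw [← Q.mu_s] at h
  exact absurd (Q.mu_mem_A h) (by decide)

theorem h_not_mem : Q.h ∉ D.M := by
  intro hm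
  have hV : Q.vec (0, 0, 2) ∈ D.V :=
    ⟨Q.memA _, by rw [pow_two, ← Q.vec_add, show ((0, 0, 2) : V4) + (0, 0, 2) = 0 by decide, Q.vec_zero]⟩
  have := (D.V_conj hm hV).1
  rw [Q.h_v1] at this
  exact Q.s_not_mem_A this

theorem vec_comm_t (v : V4) : Q.vec v * t = t * Q.vec v := D.hcomm _ (Q.memA v) _ D.ht

variable [Finite G]

/-- The centralizer is covered by five cosets. -/
theorem cover (hcard : Nat.card ↥(Subgroup.centralizer ({t} : Set G)) = 7680) {g : G} (hg : g * t = t * g) :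
    g ∈ D.M ∨ ∃ m ∈ D.M, m * t = t * m ∧ ∃ i j : Bool,
      g = m * Q.h * Q.vec (0, cond i 1 0, cond j 1 0) := by
  classical
  set H := Subgroup.centralizer ({t} : Set G)
  have hmem : ∀ {x}, x ∈ H ↔ x * t = t * x := fun {x} => mem_centralizer_singleton_iff
  let MH : Subgroup G := D.M ⊓ H
  have hMH : 1536 ≤ Nat.card MH := by
    let S := MH.subgroupOf D.M
    have hS : Nat.card S = Nat.card MH :=
      Nat.card_congr (Subgroup.subgroupOfEquivOfLe (inf_le_left : MH ≤ D.M)).toEquiv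
    let f : ↥D.M ⧸ S → {x : D.V // x ≠ 1} := fun q =>
      ⟨⟨(q.out : G) * t * (q.out : G)⁻¹, D.V_conj q.out.2 ⟨D.ht, D.ht2⟩⟩, fun e => D.ht1 (by
        have e' : (q.out : G) * t * (q.out : G)⁻¹ = 1 := congrArg Subtype.val e
        calc t = (q.out : G)⁻¹ * ((q.out : G) * t * (q.out : G)⁻¹) * (q.out : G) := by group
          _ = 1 := by rw [e']; group)⟩
    have hf : Function.Injective f := by
      intro q q' e
      have e' : (q.out : G) * t * (q.out : G)⁻¹ = (q'.out : G) * t * (q'.out : G)⁻¹ :=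
        congrArg (fun x : {x : D.V // x ≠ 1} => ((x.1 : D.V) : G)) e
      rw [← q.out_eq, ← q'.out_eq]
      refine (QuotientGroup.eq.2 (Subgroup.mem_subgroupOf.2 ⟨(q.out⁻¹ * q'.out).2, hmem.2 ?_⟩))
      show ((q.out : G)⁻¹ * q'.out) * t = t * ((q.out : G)⁻¹ * q'.out)
      calc ((q.out : G)⁻¹ * q'.out) * t = (q.out : G)⁻¹ * ((q'.out : G) * t * (q'.out : G)⁻¹) * q'.out := by group
        _ = (q.out : G)⁻¹ * ((q.out : G) * t * (q.out : G)⁻¹) * q'.out := by rw [e']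
        _ = _ := by group
    have h7 : Nat.card {x : D.V // x ≠ 1} ≤ 7 := by
      have hsum : Nat.card {x : D.V // x ≠ 1} < Nat.card D.V :=
        Finite.card_subtype_lt (p := fun x : D.V => x ≠ 1) (x := 1) (by simp)
      rw [D.card_V] at hsum
      omega
    have hmul := Subgroup.card_eq_card_quotient_mul_card_subgroup S
    rw [D.hMcard, hS] at hmul
    have hle := (Nat.card_le_card_of_injective f hf).trans h7
    have := Nat.mul_le_mul_right (Nat.card MH) hle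
    omega
  have hhH : Q.h ∈ H := hmem.2 Q.hH
  have hvH : ∀ v, Q.vec v ∈ H := fun v => hmem.2 (Q.vec_comm_t v)
  let F : Option (Bool × Bool) × MH → H := fun p => match p.1 with
    | none => ⟨p.2.1, p.2.2.2⟩
    | some (i, j) => ⟨p.2.1 * Q.h * Q.vec (0, cond i 1 0, cond j 1 0),
        mul_mem (mul_mem p.2.2.2 hhH) (hvH _)⟩
  have hh2 : ∀ x : G, Q.h * x * Q.h ∈ D.M ↔ Q.h * x * Q.h⁻¹ ∈ D.M := fun x => by rw [Q.h_inv]
  have hev : ∀ i j i' j' : Bool, (i, j) ≠ (i', j') →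
      evV (((0, cond i 1 0, cond j 1 0) : V4) - (0, cond i' 1 0, cond j' 1 0)) = false := by decide
  have hF : Function.Injective F := by
    rintro ⟨o, m⟩ ⟨o', m'⟩ e
    have e' : ((F (o, m)) : G) = F (o', m') := congrArg Subtype.val e
    rcases o with _ | ⟨i, j⟩ <;> rcases o' with _ | ⟨i', j'⟩ <;> simp only [F] at e'
    · exact Prod.ext rfl (Subtype.ext e')
    · exfalso
      apply Q.h_not_mem
      have : Q.h = m'.1⁻¹ * m.1 * (Q.vec (0, cond i' 1 0, cond j' 1 0))⁻¹ := by rw [e']; group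
      rw [this]
      exact mul_mem (mul_mem (inv_mem m'.2.1) m.2.1) (inv_mem (D.hAM (Q.memA _)))
    · exfalso
      apply Q.h_not_mem
      have : Q.h = m.1⁻¹ * m'.1 * (Q.vec (0, cond i 1 0, cond j 1 0))⁻¹ := by rw [← e']; group
      rw [this]
      exact mul_mem (mul_mem (inv_mem m.2.1) m'.2.1) (inv_mem (D.hAM (Q.memA _)))
    · by_cases hij : (i, j) = (i', j')
      · obtain ⟨rfl, rfl⟩ := Prod.mk.inj hij
        exact Prod.ext rfl (Subtype.ext (mul_right_cancel (mul_right_cancel e')))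
      · exfalso
        refine Q.h_vec_not_mem (hev i j i' j' hij) ?_
        have hsub : Q.vec (((0, cond i 1 0, cond j 1 0) : V4) - (0, cond i' 1 0, cond j' 1 0)) =
            Q.vec (0, cond i 1 0, cond j 1 0) * (Q.vec (0, cond i' 1 0, cond j' 1 0))⁻¹ := by
          rw [eq_mul_inv_iff_mul_eq, ← Q.vec_add, sub_add_cancel]
        rw [hsub]
        have : Q.h * (Q.vec (0, cond i 1 0, cond j 1 0) * (Q.vec (0, cond i' 1 0, cond j' 1 0))⁻¹) * Q.h⁻¹ =
            m.1⁻¹ * m'.1 := by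
          calc Q.h * (Q.vec (0, cond i 1 0, cond j 1 0) * (Q.vec (0, cond i' 1 0, cond j' 1 0))⁻¹) * Q.h⁻¹ =
              m.1⁻¹ * (m.1 * Q.h * Q.vec (0, cond i 1 0, cond j 1 0)) *
                (Q.vec (0, cond i' 1 0, cond j' 1 0))⁻¹ * Q.h⁻¹ := by group
            _ = _ := by rw [e']; group
        rw [this]
        exact mul_mem (inv_mem m.2.1) m'.2.1
  have h5 : Nat.card (Option (Bool × Bool) × MH) = 5 * Nat.card MH := by
    rw [Nat.card_prod]; congr 1; rw [Nat.card_eq_fintype_card]; rfl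
  have hle := Nat.card_le_card_of_injective F hF
  rw [hcard, h5] at hle
  have hbij := (Nat.bijective_iff_injective_and_card F).2 ⟨hF, by rw [hcard, h5]; omega⟩
  obtain ⟨⟨o, m⟩, hm⟩ := hbij.2 ⟨g, hmem.2 hg⟩
  have hm' : ((F (o, m)) : G) = g := congrArg Subtype.val hm
  rcases o with _ | ⟨i, j⟩ <;> simp only [F] at hm'
  · exact Or.inl (hm' ▸ m.2.1)
  · exact Or.inr ⟨m.1, m.2.1, hmem.1 m.2.2, i, j, hm'.symm⟩

/-- The element conjugating the second involution to `t`. -/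
def gy : G := Q.a⁻¹ * Q.b⁻¹ * Q.h⁻¹ * Q.a⁻¹ * Q.b⁻¹ * Q.b⁻¹

/-- The expected value of the conjugate of `h`. -/
def y0 : G := Q.b * Q.c * Q.s * Q.h * Q.s

theorem cert_rel {C : Cert} (hC : C.rels = mRels ++ hRels 0 0 0) : ∀ r ∈ C.rels, Q.val r = 1 :=
  fun r hr => Q.rel (hC ▸ hr)

theorem gy_c : Q.gy * Q.c * Q.gy⁻¹ = t := by
  have h := Cert.YT.cert.mem_of_sTrace Cert.YT.steps_ok Cert.YT.trace _ (gvH_inv _ _ _ _ _) rfl
    (Q.cert_rel rfl) ⊥ (by intro r hr; exact absurd hr List.not_mem_nil)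
  rw [Subgroup.mem_bot] at h
  refine Eq.trans ?_ Q.hz
  rw [← mul_inv_eq_one, ← h]
  simp [Cert.YT.target, ev, gvH, gy, pow_two, mul_assoc]

theorem y0_t : Q.y0 * t = t * Q.y0 := by
  have h := Cert.YH.cert.mem_of_sTrace Cert.YH.steps_ok Cert.YH.trace _ (gvH_inv _ _ _ _ _) rfl
    (Q.cert_rel rfl) ⊥ (by intro r hr; exact absurd hr List.not_mem_nil)
  rw [Subgroup.mem_bot] at h
  have e : Q.y0 * Q.z ^ 2 * Q.y0⁻¹ = Q.z ^ 2 := by
    rw [← mul_inv_eq_one, ← h]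
    simp [Cert.YH.target, ev, gvH, y0, MGens.s, pow_two, mul_assoc]
  exact mul_inv_eq_iff_eq_mul.1 ((congrArg (Q.y0 * · * Q.y0⁻¹) Q.hz.symm).trans (e.trans Q.hz))

/-- The quotient of the two conjugations commutes with the elements mapped from the centralizer of `c`. -/
theorem commutes_of {x X : G} (hA : Q.gy * x * Q.gy⁻¹ = X)
    (hB : Q.gy * (Q.h * x * Q.h⁻¹) * Q.gy⁻¹ = Q.y0 * X * Q.y0⁻¹) :
    (Q.y0⁻¹ * (Q.gy * Q.h * Q.gy⁻¹)) * X = X * (Q.y0⁻¹ * (Q.gy * Q.h * Q.gy⁻¹)) := by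
  set Y := Q.gy * Q.h * Q.gy⁻¹ with hY
  have e : Y * X * Y⁻¹ = Q.y0 * X * Q.y0⁻¹ := by rw [← hB, ← hA, hY]; group
  calc Q.y0⁻¹ * Y * X = Q.y0⁻¹ * (Y * X * Y⁻¹) * Y := by group
    _ = _ := by rw [e]; group

theorem vec_u : Q.vec (0, 0, 2) = Q.a * Q.a * Q.z * Q.z * Q.a⁻¹ * Q.a⁻¹ := by
  simp [Gens.vec, Gens.z2, Gens.z1, show (2 : ZMod 4).val = 2 from rfl, pow_two, mul_assoc]

theorem ext_rel {X : G} {e : List ℕ} (hX : Q.gy * Q.h * Q.gy⁻¹ = Q.y0 * Q.val e) (hval : X = Q.val e) :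
    Q.gy * Q.h * Q.gy⁻¹ = Q.y0 * X := by rw [hval]; exact hX

theorem closing (hcard : Nat.card ↥(Subgroup.centralizer ({t} : Set G)) = 7680) :
    Q.gy * Q.h * Q.gy⁻¹ = Q.y0 := by
  classical
  set Y := Q.gy * Q.h * Q.gy⁻¹ with hY
  have hYt : Y * t = t * Y := by
    rw [← Q.gy_c, hY]
    calc Q.gy * Q.h * Q.gy⁻¹ * (Q.gy * Q.c * Q.gy⁻¹) = Q.gy * (Q.h * Q.c * Q.h⁻¹) * Q.h * Q.gy⁻¹ := by group
      _ = _ := by rw [Q.h_c]; group
  set e := Q.y0⁻¹ * Y with he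
  have het : e * t = t * e := by
    calc e * t = Q.y0⁻¹ * (Y * t) := by rw [he]; group
      _ = Q.y0⁻¹ * (t * Q.y0) * (Q.y0⁻¹ * Y) := by rw [hYt]; group
      _ = t * e := by rw [← Q.y0_t, he]; group
  -- the three further elements centralised by `e`
  have hs := fun (C : Cert) (nE code : ℕ) (w : List ℕ) (h1 : C.SStepsOK 0 nE) (h2 : C.sTraceOK nE w code = true)
      (hk : C.k = 10) (hR : C.rels = mRels ++ hRels 0 0 0) (hS : C.subs = []) =>
    Subgroup.mem_bot.1 (C.mem_of_sTrace h1 h2 (gvH Q.z Q.a Q.b Q.c Q.h) (by rw [hk]; exact gvH_inv _ _ _ _ _)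
      (by rw [hk]; rfl) (Q.cert_rel hR) ⊥ (by rw [hS]; intro r hr; exact absurd hr List.not_mem_nil))
  have cu : e * Q.vec (0, 0, 2) = Q.vec (0, 0, 2) * e := by
    refine Q.commutes_of (x := Q.a * Q.z * Q.z * Q.a⁻¹ * Q.c * (Q.a * Q.z * Q.z * Q.a⁻¹)) ?_ ?_
    · rw [← mul_inv_eq_one, ← hs _ _ _ _ Cert.YA0.steps_ok Cert.YA0.trace rfl rfl rfl, vec_u]
      simp [Cert.YA0.target, ev, gvH, gy, mul_assoc]
    · rw [← mul_inv_eq_one, ← hs _ _ _ _ Cert.YB0.steps_ok Cert.YB0.trace rfl rfl rfl, vec_u]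
      simp [Cert.YB0.target, ev, gvH, gy, y0, MGens.s, mul_assoc]
  have cs : e * Q.s = Q.s * e := by
    refine Q.commutes_of (x := Q.s * Q.c * Q.s) ?_ ?_
    · rw [← mul_inv_eq_one, ← hs _ _ _ _ Cert.YA1.steps_ok Cert.YA1.trace rfl rfl rfl]
      simp [Cert.YA1.target, ev, gvH, gy, MGens.s, mul_assoc]
    · rw [← mul_inv_eq_one, ← hs _ _ _ _ Cert.YB1.steps_ok Cert.YB1.trace rfl rfl rfl]
      simp [Cert.YB1.target, ev, gvH, gy, y0, MGens.s, mul_assoc]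
  set wE := Q.z * Q.z * Q.vec (0, 0, 2) * Q.s * Q.b * Q.c with hwE
  have cw : e * wE = wE * e := by
    refine Q.commutes_of (x := Q.z * Q.z) ?_ ?_
    · rw [← mul_inv_eq_one, ← hs _ _ _ _ Cert.YA2.steps_ok Cert.YA2.trace rfl rfl rfl, hwE, vec_u]
      simp [Cert.YA2.target, ev, gvH, gy, MGens.s, mul_assoc]
    · rw [← mul_inv_eq_one, ← hs _ _ _ _ Cert.YB2.steps_ok Cert.YB2.trace rfl rfl rfl, hwE, vec_u]
      simp [Cert.YB2.target, ev, gvH, gy, y0, MGens.s, mul_assoc]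
  -- `e` lies in the two-local subgroup
  have heM : e ∈ D.M := by
    refine (Q.cover hcard het).resolve_right ?_
    rintro ⟨m, hm, -, i, j, hme⟩
    apply Q.s_not_mem_A
    have hV : Q.vec (0, 0, 2) ∈ D.V :=
      ⟨Q.memA _, by rw [pow_two, ← Q.vec_add, show ((0, 0, 2) : V4) + (0, 0, 2) = 0 by decide, Q.vec_zero]⟩
    have h1 := (D.V_conj (inv_mem hm) hV).1
    have e2 : m⁻¹ * Q.vec (0, 0, 2) * m⁻¹⁻¹ = Q.h * Q.vec (0, 0, 2) * Q.h⁻¹ := by
      set x := Q.vec (0, cond i 1 0, cond j 1 0)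
      set u := Q.vec (0, 0, 2)
      have hxu : x * u * x⁻¹ = u := Q.comm_vec (Q.memA _) _
      have e3 : e * u * e⁻¹ = u := by rw [cu, mul_inv_cancel_right]
      calc m⁻¹ * u * m⁻¹⁻¹ = m⁻¹ * (e * u * e⁻¹) * m := by rw [e3]; group
        _ = Q.h * (x * u * x⁻¹) * Q.h⁻¹ := by rw [hme]; group
        _ = _ := by rw [hxu]
    rwa [e2, Q.h_v1] at h1
  -- the action of `e` on the involutions
  set BC := Q.b * Q.c with hBC
  have bc_vec : ∀ v, BC * Q.vec v * BC⁻¹ = Q.vec (actB (actC v)) := fun v => by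
    rw [← Q.b_vec, ← Q.c_vec, hBC]; group
  have bc_s : BC * Q.s = Q.s * BC := by
    refine mul_inv_eq_iff_eq_mul.1 ?_
    calc BC * Q.s * BC⁻¹ = Q.b * (Q.c * Q.s * Q.c⁻¹) * Q.b⁻¹ := by rw [hBC]; group
      _ = _ := by
        rw [Q.c_s_eq Q.sq_c Q.ac_one]
        calc Q.b * (Q.s * Q.s1) * Q.b⁻¹ = Q.s1 * (Q.b * Q.s1 * Q.b⁻¹) := by rw [MGens.s1]; group
          _ = Q.s1 * Q.s1 * Q.s := by rw [Q.b_s1 Q.sq_c Q.ac_one, Q.s_s1 Q.sq_c Q.ac_one, mul_assoc]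
          _ = _ := by rw [Q.s1_sq Q.sq_c Q.ac_one, one_mul]
  have hBCM : BC ∈ D.M := mul_mem Q.bM Q.cM
  obtain ⟨u3, hu3V, hu3⟩ : ∃ v : V4, v + v = 0 ∧ e * Q.vec (0, 2, 0) * e⁻¹ = Q.vec v := by
    obtain ⟨v, hv⟩ := Q.surj _ (D.hnorm e heM _ (Q.memA (0, 2, 0)))
    refine ⟨v, Q.inj ?_, hv.symm⟩
    rw [Q.vec_add, hv, Q.vec_zero]
    calc e * Q.vec (0, 2, 0) * e⁻¹ * (e * Q.vec (0, 2, 0) * e⁻¹) =
        e * (Q.vec (0, 2, 0) * Q.vec (0, 2, 0)) * e⁻¹ := by group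
      _ = 1 := by rw [← Q.vec_add, show ((0, 2, 0) : V4) + (0, 2, 0) = 0 by decide, Q.vec_zero]; group
  have ht2 : Q.vec (2, 0, 0) = t := by rw [← Q.z_sq_vec, Q.hz]
  have hfixT : e * Q.vec (2, 0, 0) * e⁻¹ = Q.vec (2, 0, 0) := by rw [ht2, het, mul_inv_cancel_right]
  have hfixU : e * Q.vec (0, 0, 2) * e⁻¹ = Q.vec (0, 0, 2) := by rw [cu, mul_inv_cancel_right]
  obtain ⟨p, i, j, hep⟩ : ∃ (p : V4) (i j : Bool), e = Q.vec p * (cond i Q.s 1 * cond j BC 1) := by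
    have hsel : ∃ p : Bool × Bool, cond p.1 (actS (cond p.2 (actB (actC (0, 2, 0))) (0, 2, 0)))
        (cond p.2 (actB (actC (0, 2, 0))) (0, 2, 0)) = u3 := by
      have hinj : ∀ v, e * Q.vec v * e⁻¹ = Q.vec v → u3 = v → v = (0, 2, 0) := by
        intro v hv huv
        rw [huv, ← hv] at hu3
        exact (Q.inj (mul_left_cancel (mul_right_cancel hu3))).symm
      have key : ∀ v : V4, v + v = 0 → v ≠ (0, 0, 0) → v ≠ (2, 0, 0) → v ≠ (0, 0, 2) → v ≠ (2, 0, 2) →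
          ∃ p : Bool × Bool, cond p.1 (actS (cond p.2 (actB (actC (0, 2, 0))) (0, 2, 0)))
            (cond p.2 (actB (actC (0, 2, 0))) (0, 2, 0)) = v := by decide +kernel
      refine key u3 hu3V (fun h => ?_) (fun h => ?_) (fun h => ?_) (fun h => ?_)
      · exact absurd (hinj _ (by rw [show Q.vec ((0, 0, 0) : V4) = 1 from Q.vec_zero]; group) h) (by decide)
      · exact absurd (hinj _ hfixT h) (by decide)
      · exact absurd (hinj _ hfixU h) (by decide)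
      · refine absurd (hinj _ ?_ h) (by decide)
        rw [show ((2, 0, 2) : V4) = (2, 0, 0) + (0, 0, 2) by decide, Q.vec_add]
        calc e * (Q.vec (2, 0, 0) * Q.vec (0, 0, 2)) * e⁻¹ =
            (e * Q.vec (2, 0, 0) * e⁻¹) * (e * Q.vec (0, 0, 2) * e⁻¹) := by group
          _ = _ := by rw [hfixT, hfixU]
    obtain ⟨⟨i, j⟩, hp⟩ := hsel
    set l := cond i Q.s 1 * cond j BC 1 with hl
    have hlact : ∀ v, l * Q.vec v * l⁻¹ = Q.vec (cond i (actS (cond j (actB (actC v)) v)) (cond j (actB (actC v)) v)) := by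
      intro v
      cases i <;> cases j <;> simp only [hl, cond_true, cond_false, one_mul, mul_one, inv_one]
      · exact bc_vec v
      · exact Q.s_vec v
      · rw [← Q.s_vec, ← bc_vec]; group
    have hA : l⁻¹ * e ∈ D.A := by
      have hlM : l ∈ D.M := by
        refine mul_mem ?_ ?_
        · cases i
          · exact one_mem _
          · exact Q.sM
        · cases j
          · exact one_mem _
          · exact hBCM
      refine D.hfaith _ (mul_mem (inv_mem hlM) heM) fun x hx hx2 => mul_inv_eq_iff_eq_mul.1 ?_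
      obtain ⟨v, rfl⟩ := Q.surj x hx
      have hv : v + v = 0 := Q.inj (by rw [Q.vec_add, ← pow_two, hx2, Q.vec_zero])
      have base : ∀ v w, e * Q.vec v * e⁻¹ = Q.vec w → l * Q.vec v * l⁻¹ = Q.vec w →
          l⁻¹ * e * Q.vec v * (l⁻¹ * e)⁻¹ = Q.vec v := by
        intro v w h1 h2
        calc l⁻¹ * e * Q.vec v * (l⁻¹ * e)⁻¹ = l⁻¹ * (e * Q.vec v * e⁻¹) * l := by group
          _ = l⁻¹ * (l * Q.vec v * l⁻¹) * l := by rw [h1, h2]
          _ = _ := by group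
      have hadd : ∀ v w, l⁻¹ * e * Q.vec v * (l⁻¹ * e)⁻¹ = Q.vec v → l⁻¹ * e * Q.vec w * (l⁻¹ * e)⁻¹ = Q.vec w →
          l⁻¹ * e * Q.vec (v + w) * (l⁻¹ * e)⁻¹ = Q.vec (v + w) := by
        intro v w h1 h2
        rw [Q.vec_add]
        calc l⁻¹ * e * (Q.vec v * Q.vec w) * (l⁻¹ * e)⁻¹ =
            (l⁻¹ * e * Q.vec v * (l⁻¹ * e)⁻¹) * (l⁻¹ * e * Q.vec w * (l⁻¹ * e)⁻¹) := by group
          _ = _ := by rw [h1, h2]
      have f0 : ∀ i j : Bool, cond i (actS (cond j (actB (actC (2, 0, 0))) (2, 0, 0)))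
            (cond j (actB (actC (2, 0, 0))) (2, 0, 0)) = ((2, 0, 0) : V4) ∧
          cond i (actS (cond j (actB (actC (0, 0, 2))) (0, 0, 2)))
            (cond j (actB (actC (0, 0, 2))) (0, 0, 2)) = ((0, 0, 2) : V4) := by decide +kernel
      have b0 := base _ _ hfixT (by rw [hlact, (f0 i j).1])
      have b2 := base _ _ hfixU (by rw [hlact, (f0 i j).2])
      have b1 := base (0, 2, 0) _ hu3 (by rw [hlact, hp])
      rcases Frame.two_cases v hv with rfl | rfl | rfl | rfl | rfl | rfl | rfl | rfl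
      · rw [show Q.vec ((0, 0, 0) : V4) = 1 from Q.vec_zero]; group
      · exact b2
      · exact b1
      · exact hadd (0, 2, 0) (0, 0, 2) b1 b2
      · exact b0
      · exact hadd (2, 0, 0) (0, 0, 2) b0 b2
      · exact hadd (2, 0, 0) (0, 2, 0) b0 b1
      · exact hadd (2, 2, 0) (0, 0, 2) (hadd (2, 0, 0) (0, 2, 0) b0 b1) b2
    obtain ⟨w, hw⟩ := Q.surj _ hA
    refine ⟨cond i (actS (cond j (actB (actC w)) w)) (cond j (actB (actC w)) w), i, j, ?_⟩
    rw [← hlact, hw, ← hl]; group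
  set l := cond i Q.s 1 * cond j BC 1 with hl
  have hls : l * Q.s = Q.s * l := by
    cases i <;> cases j <;> simp only [hl, cond_true, cond_false, one_mul, mul_one]
    · exact bc_s
    · rw [mul_assoc, bc_s]
  have hlbc : l * BC = BC * l := by
    cases i <;> cases j <;> simp only [hl, cond_true, cond_false, one_mul, mul_one]
    · exact bc_s.symm
    · rw [← mul_assoc BC, bc_s]
  have hlu : l * Q.vec (2, 0, 2) = Q.vec (2, 0, 2) * l := by
    have h1 : Q.s * Q.vec (2, 0, 2) = Q.vec (2, 0, 2) * Q.s :=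
      mul_inv_eq_iff_eq_mul.1 ((Q.s_vec _).trans (congrArg _ (by decide)))
    have h2 : BC * Q.vec (2, 0, 2) = Q.vec (2, 0, 2) * BC :=
      mul_inv_eq_iff_eq_mul.1 ((bc_vec _).trans (congrArg _ (by decide)))
    cases i <;> cases j <;> simp only [hl, cond_true, cond_false, one_mul, mul_one]
    exacts [h2, h1, by rw [mul_assoc, h2, ← mul_assoc, h1, mul_assoc]]
  have hSp : actS p = p := by
    refine Q.inj ((Q.s_vec p).symm.trans ?_)
    have h := cs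
    rw [hep] at h
    calc Q.s * Q.vec p * Q.s⁻¹ = (Q.s * (Q.vec p * l)) * l⁻¹ * Q.s⁻¹ := by group
      _ = Q.vec p * (l * Q.s) * l⁻¹ * Q.s⁻¹ := by rw [← h]; group
      _ = _ := by rw [hls]; group
  have hwE' : wE = Q.vec (2, 0, 2) * Q.s * BC := by
    have e : Q.z * Q.z = Q.vec (2, 0, 0) := by rw [← pow_two, Q.z_sq_vec]
    rw [hwE, hBC, e, ← Q.vec_add, show ((2, 0, 0) : V4) + (0, 0, 2) = (2, 0, 2) by decide]
    group
  have hBp : actS (actB (actC p)) = p := by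
    have hw := cw
    rw [hep, hwE'] at hw
    have hl2 : l * (Q.vec (2, 0, 2) * Q.s * BC) = Q.vec (2, 0, 2) * Q.s * BC * l := by
      calc l * (Q.vec (2, 0, 2) * Q.s * BC) = (l * Q.vec (2, 0, 2)) * Q.s * BC := by group
        _ = Q.vec (2, 0, 2) * (l * Q.s) * BC := by rw [hlu]; group
        _ = Q.vec (2, 0, 2) * Q.s * (l * BC) := by rw [hls]; group
        _ = _ := by rw [hlbc]; group
    set L := Q.vec (2, 0, 2) * Q.s * BC with hL
    have h3 : L * Q.vec p * L⁻¹ = Q.vec p := by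
      calc L * Q.vec p * L⁻¹ = L * (Q.vec p * l) * l⁻¹ * L⁻¹ := by group
        _ = Q.vec p * (l * L) * l⁻¹ * L⁻¹ := by rw [← hw]; group
        _ = _ := by rw [hl2]; group
    refine Q.inj ?_
    calc Q.vec (actS (actB (actC p))) = Q.s * (BC * Q.vec p * BC⁻¹) * Q.s⁻¹ := by rw [bc_vec, Q.s_vec]
      _ = (Q.vec (2, 0, 2))⁻¹ * (L * Q.vec p * L⁻¹) * Q.vec (2, 0, 2) := by rw [hL]; group
      _ = (Q.vec (2, 0, 2))⁻¹ * (Q.vec p * Q.vec (2, 0, 2)) := by rw [h3]; group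
      _ = _ := by rw [← Q.vec_add, add_comm p, Q.vec_add]; group
  have hp4 : ∀ p : V4, actS p = p → actS (actB (actC p)) = p →
      ∃ a b : Bool, p = (cond a 2 0, 0, cond b 2 0) := by decide +kernel
  obtain ⟨a, b, rfl⟩ := hp4 p hSp hBp
  -- the word of `e`
  have heq : Y = Q.y0 * Q.val (cond a [0, 0] [] ++ cond b [2, 2, 0, 0, 3, 3] [] ++ cond i [3, 5, 6, 2] [] ++
      cond j [4, 6] []) := by
    have hv : Q.val (cond a [0, 0] [] ++ cond b [2, 2, 0, 0, 3, 3] [] ++ cond i [3, 5, 6, 2] [] ++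
        cond j [4, 6] []) = e := by
      rw [hep, hl, hBC]
      cases a <;> cases b <;> cases i <;> cases j <;>
        simp [val, ev, gvH, MGens.s, Gens.vec, Gens.z2, Gens.z1, show (2 : ZMod 4).val = 2 from rfl, pow_two,
          mul_assoc]
    rw [hv, he, mul_inv_cancel_left]
  by_cases h0 : a = false ∧ b = false ∧ i = false ∧ j = false
  · obtain ⟨rfl, rfl, rfl, rfl⟩ := h0
    simpa [val, ev] using heq
  exfalso
  have hsubs : ∀ r ∈ ([[0], [2], [4], [6]] : List (List ℕ)), Q.val r ∈ D.M := by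
    intro r hr
    simp only [List.mem_cons, List.not_mem_nil, or_false] at hr
    rcases hr with rfl | rfl | rfl | rfl <;> simp [val, ev, gvH, Q.zM, Q.aM, Q.bM, Q.cM]
  have kill : ∀ (C : Cert) (nE code : ℕ) (e : List ℕ) (_h1 : C.SStepsOK 0 nE) (_h2 : C.sTraceOK nE [8] code = true)
      (_hk : C.k = 10) (_hS : C.subs = [[0], [2], [4], [6]])
      (_hR : C.rels = mRels ++ hRels 0 0 0 ++ [[3, 5, 9, 3, 5, 5, 8, 4, 4, 2, 8, 4, 2] ++ e ++
        [3, 7, 4, 2, 9, 3, 7, 4, 2, 7, 5]]),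
      Q.val [3, 5, 9, 3, 5, 5, 8, 4, 4, 2, 8, 4, 2] * Q.val e * Q.val [3, 7, 4, 2, 9, 3, 7, 4, 2, 7, 5] = 1 →
      False := by
    intro C nE code e h1 h2 hk hS hR he
    have hmem := C.mem_of_sTrace h1 h2 (gvH Q.z Q.a Q.b Q.c Q.h) (by rw [hk]; exact gvH_inv _ _ _ _ _)
      (by rw [hk]; rfl) (fun r hr => by
        rw [hR, List.mem_append] at hr
        rcases hr with hr | hr
        · exact Q.rel hr
        · rw [List.mem_singleton] at hr
          subst hr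
          rw [ev_append, ev_append]; exact he) D.M (by rw [hS]; exact hsubs)
    exact Q.h_not_mem (by simpa [ev, gvH] using hmem)
  have hrel : Q.val [3, 5, 9, 3, 5, 5, 8, 4, 4, 2, 8, 4, 2] *
      (Q.val (cond a [0, 0] [] ++ cond b [2, 2, 0, 0, 3, 3] [] ++ cond i [3, 5, 6, 2] [] ++ cond j [4, 6] []))⁻¹ *
        Q.val [3, 7, 4, 2, 9, 3, 7, 4, 2, 7, 5] = 1 := by
    have e1 : Q.val [3, 5, 9, 3, 5, 5, 8, 4, 4, 2, 8, 4, 2] = Y := by
      simp [val, ev, gvH, hY, gy, mul_assoc]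
    have e2 : Q.val [3, 7, 4, 2, 9, 3, 7, 4, 2, 7, 5] = Q.y0⁻¹ := by
      simp [val, ev, gvH, y0, MGens.s, mul_assoc]
    rw [e1, e2, heq]; group
  cases a <;> cases b <;> cases i <;> cases j
  · simp at h0
  · refine kill Cert.Y8.cert _ _ [7, 5] Cert.Y8.steps_ok Cert.Y8.trace rfl rfl rfl ?_
    rw [← hrel]; simp [val, ev, gvH, mul_assoc]
  · refine kill Cert.Y4.cert _ _ [3, 7, 4, 2] Cert.Y4.steps_ok Cert.Y4.trace rfl rfl rfl ?_
    rw [← hrel]; simp [val, ev, gvH, mul_assoc]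
  · refine kill Cert.Y12.cert _ _ [7, 5, 3, 7, 4, 2] Cert.Y12.steps_ok Cert.Y12.trace rfl rfl rfl ?_
    rw [← hrel]; simp [val, ev, gvH, mul_assoc]
  · refine kill Cert.Y2.cert _ _ [2, 2, 1, 1, 3, 3] Cert.Y2.steps_ok Cert.Y2.trace rfl rfl rfl ?_
    rw [← hrel]; simp [val, ev, gvH, mul_assoc]
  · refine kill Cert.Y10.cert _ _ [7, 5, 2, 2, 1, 1, 3, 3] Cert.Y10.steps_ok Cert.Y10.trace rfl rfl rfl ?_
    rw [← hrel]; simp [val, ev, gvH, mul_assoc]
  · refine kill Cert.Y6.cert _ _ [3, 7, 4, 2, 2, 2, 1, 1, 3, 3] Cert.Y6.steps_ok Cert.Y6.trace rfl rfl rfl ?_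
    rw [← hrel]; simp [val, ev, gvH, mul_assoc]
  · refine kill Cert.Y14.cert _ _ [7, 5, 3, 7, 4, 2, 2, 2, 1, 1, 3, 3] Cert.Y14.steps_ok Cert.Y14.trace rfl rfl rfl ?_
    rw [← hrel]; simp [val, ev, gvH, mul_assoc]
  · refine kill Cert.Y1.cert _ _ [1, 1] Cert.Y1.steps_ok Cert.Y1.trace rfl rfl rfl ?_
    rw [← hrel]; simp [val, ev, gvH, mul_assoc]
  · refine kill Cert.Y9.cert _ _ [7, 5, 1, 1] Cert.Y9.steps_ok Cert.Y9.trace rfl rfl rfl ?_
    rw [← hrel]; simp [val, ev, gvH, mul_assoc]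
  · refine kill Cert.Y5.cert _ _ [3, 7, 4, 2, 1, 1] Cert.Y5.steps_ok Cert.Y5.trace rfl rfl rfl ?_
    rw [← hrel]; simp [val, ev, gvH, mul_assoc]
  · refine kill Cert.Y13.cert _ _ [7, 5, 3, 7, 4, 2, 1, 1] Cert.Y13.steps_ok Cert.Y13.trace rfl rfl rfl ?_
    rw [← hrel]; simp [val, ev, gvH, mul_assoc]
  · refine kill Cert.Y3.cert _ _ [2, 2, 1, 1, 3, 3, 1, 1] Cert.Y3.steps_ok Cert.Y3.trace rfl rfl rfl ?_
    rw [← hrel]; simp [val, ev, gvH, mul_assoc]
  · refine kill Cert.Y11.cert _ _ [7, 5, 2, 2, 1, 1, 3, 3, 1, 1] Cert.Y11.steps_ok Cert.Y11.trace rfl rfl rfl ?_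
    rw [← hrel]; simp [val, ev, gvH, mul_assoc]
  · refine kill Cert.Y7.cert _ _ [3, 7, 4, 2, 2, 2, 1, 1, 3, 3, 1, 1] Cert.Y7.steps_ok Cert.Y7.trace rfl rfl rfl ?_
    rw [← hrel]; simp [val, ev, gvH, mul_assoc]
  · refine kill Cert.Y15.cert _ _ [7, 5, 3, 7, 4, 2, 2, 2, 1, 1, 3, 3, 1, 1] Cert.Y15.steps_ok Cert.Y15.trace rfl rfl rfl ?_
    rw [← hrel]; simp [val, ev, gvH, mul_assoc]

end Pres

end CfsgLib.Spor.HSType
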