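import Cfsg.Agent.Lib.Spor.HSType.MSplit
import Cfsg.Agent.Lib.Spor.HSType.Cert.K0Com.All
import Cfsg.Agent.Lib.Spor.HSType.Cert.K0Norm.All
import Cfsg.Agent.Lib.Spor.HSType.Cert.K0Prod.All

/-!
# The lifts of the transvections with given centre and a model of the group they generate with `A`

In the case `(a c)³ = 1` the element `s` and its conjugate under `b` generate a four-group and `A` extended by it
is described by triples of a vector and two bits.
-/

set_option autoImplicit false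
set_option maxRecDepth 100000

namespace CfsgLib.Spor.HSType

open CfsgLib.Spor.TC

/-- The action of `s`. -/
def actS (v : V4) : V4 := app4 (1, 0, 0) (1, 3, 2) (0, 0, 3) v

/-- The action of the conjugate of `s` by `b`. -/
def actS1 (v : V4) : V4 := app4 (1, 0, 0) (3, 1, 2) (1, 2, 1) v

/-- A vector with even second and third coordinate. -/
def evV (v : V4) : Bool := (v.2.1 == 0 || v.2.1 == 2) && (v.2.2 == 0 || v.2.2 == 2)

/-- An element of the model. -/
abbrev R4 : Type := V4 × Bool × Bool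

/-- The action of the bits. -/
def actK (p : Bool × Bool) (v : V4) : V4 := cond p.1 (actS (cond p.2 (actS1 v) v)) (cond p.2 (actS1 v) v)

namespace R4

/-- The product in the model. -/
def mul (x y : R4) : R4 := (x.1 + actK x.2 y.1, xor x.2.1 y.2.1, xor x.2.2 y.2.2)

/-- The inverse in the model. -/
def inv (x : R4) : R4 := (-actK x.2 x.1, x.2)

/-- Conjugation by `b`. -/
def cb (x : R4) : R4 := (actB x.1, x.2.2, xor x.2.1 x.2.2)

/-- Conjugation by `c`. -/
def cc (x : R4) : R4 := (actC x.1, x.2.1, xor x.2.1 x.2.2)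

/-- Conjugation by the second basis vector. -/
def cz1 (x : R4) : R4 := mul (mul ((0, 1, 0), false, false) x) ((0, 3, 0), false, false)

end R4

variable {G : Type*} [Group G] {t : G} {D : MData G t} (F : MGens D)

namespace MGens

/-- The conjugate of the transvection lift by `b`. -/
def s1 : G := F.b * F.s * F.b⁻¹

/-- The value of an element of the model. -/
def mu (x : R4) : G := F.vec x.1 * cond x.2.1 F.s 1 * cond x.2.2 F.s1 1

theorem a_inv_vec (v : V4) : F.a⁻¹ * F.vec v * F.a = F.vec (app4 (1, 2, 1) (1, 0, 0) (0, 1, 0) v) := by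
  have h : ∀ v, actA (app4 (1, 2, 1) (1, 0, 0) (0, 1, 0) v) = v := by decide +kernel
  conv_lhs => rw [← h v, ← F.a_vec]
  group

theorem b_inv_vec (v : V4) : F.b⁻¹ * F.vec v * F.b = F.vec (app4 (1, 0, 0) (2, 3, 3) (0, 1, 0) v) := by
  have h : ∀ v, actB (app4 (1, 0, 0) (2, 3, 3) (0, 1, 0) v) = v := by decide +kernel
  conv_lhs => rw [← h v, ← F.b_vec]
  group

theorem s_vec (v : V4) : F.s * F.vec v * F.s⁻¹ = F.vec (actS v) := by
  have h : ∀ v, app4 (1, 2, 1) (1, 0, 0) (0, 1, 0) (app4 (1, 0, 0) (2, 3, 3) (0, 1, 0) (actC (actA v))) =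
      actS v := by decide +kernel
  rw [← h, ← F.a_inv_vec, ← F.b_inv_vec, ← F.c_vec, ← F.a_vec, s]
  group

theorem s1_vec (v : V4) : F.s1 * F.vec v * F.s1⁻¹ = F.vec (actS1 v) := by
  have h : ∀ v, actB (actS (app4 (1, 0, 0) (2, 3, 3) (0, 1, 0) v)) = actS1 v := by decide +kernel
  rw [← h, ← F.b_vec, ← F.s_vec, ← F.b_inv_vec, s1]
  group

theorem s1M : F.s1 ∈ D.M := mul_mem (mul_mem F.bM F.sM) (inv_mem F.bM)

theorem mu_mem (x : R4) : F.mu x ∈ D.M := by
  obtain ⟨v, i, j⟩ := x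
  refine mul_mem (mul_mem (D.hAM (F.memA v)) ?_) ?_
  · cases i
    · exact one_mem _
    · exact F.sM
  · cases j
    · exact one_mem _
    · exact F.s1M

theorem bitsK_vec (p : Bool × Bool) (w : V4) :
    cond p.1 F.s 1 * cond p.2 F.s1 1 * F.vec w * (cond p.1 F.s 1 * cond p.2 F.s1 1)⁻¹ = F.vec (actK p w) := by
  obtain ⟨i, j⟩ := p
  cases i <;> cases j <;> simp only [cond_true, cond_false, actK, one_mul, mul_one, inv_one]
  · exact F.s1_vec w
  · exact F.s_vec w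
  · rw [← F.s_vec, ← F.s1_vec]; group

/-- An element of the model acting trivially on the involutions is in `A`. -/
theorem mu_mem_A {x : R4} (h : F.mu x ∈ D.A) : x.2 = (false, false) := by
  have key : ∀ p : Bool × Bool, actK p (0, 2, 0) = (0, 2, 0) → actK p (0, 0, 2) = (0, 0, 2) →
      p = (false, false) := by decide +kernel
  obtain ⟨v, p⟩ := x
  have h' : cond p.1 F.s 1 * cond p.2 F.s1 1 ∈ D.A := by
    have := mul_mem (inv_mem (F.memA v)) h
    simp only [mu] at this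
    rwa [mul_assoc (F.vec v), inv_mul_cancel_left] at this
  exact key p (F.inj (by rw [← F.bitsK_vec, F.comm_vec h']))
    (F.inj (by rw [← F.bitsK_vec, F.comm_vec h']))

theorem mu_one : F.mu ((0, 0, 0), false, false) = 1 := by
  simp only [mu, cond_false, mul_one]
  exact F.vec_zero

theorem mu_vec (v : V4) : F.mu (v, false, false) = F.vec v := by simp [mu]

theorem b_mu_bits : ∀ i j : Bool, F.b * (cond i F.s 1 * cond j F.s1 1) * F.b⁻¹ =
    cond i F.s1 1 * cond j (F.b * F.s1 * F.b⁻¹) 1 := by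
  intro i j
  cases i <;> cases j <;> simp [s1, mul_assoc]

section Split

variable (hc : F.c * F.c = 1) (hk : (F.a * F.c) ^ 3 = 1)
include hc hk

theorem rels_k0 : ∀ r ∈ [[0, 0, 0, 0], [2, 2, 2, 2, 2, 2, 2], [4, 4, 4], [4, 2, 5, 3, 3], [4, 0, 5, 1],
      [0, 2, 0, 3, 1, 2, 1, 3], [0, 2, 2, 0, 3, 3, 1, 2, 2, 1, 3, 3],
      [2, 0, 3, 2, 2, 0, 3, 3, 2, 1, 3, 2, 2, 1, 3, 3],
      [2, 2, 2, 0, 3, 3, 3, 2, 2, 1, 3, 3, 2, 2, 1, 3, 3, 2, 1, 3, 2, 1, 3, 2, 1, 3, 1],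
      [6, 4, 7, 4], [6, 0, 7, 0], [6, 2, 0, 3, 7, 2, 2, 1, 3, 3], [6, 6], [2, 6, 2, 6, 2, 6]],
      ev (gvM F.z F.a F.b F.c) r = 1 :=
  F.eval_rels (sq := [6, 6]) (w := [2, 6, 2, 6, 2, 6]) (by simp [ev, gvM, hc])
    ((F.eval_ac (k := 0) (by rw [pow_zero]; exact hk)).1 rfl)

theorem s_s1 : F.s * F.s1 = F.s1 * F.s := by
  have h := Cert.K0Com.cert.mem_of_sTrace Cert.K0Com.steps_ok Cert.K0Com.trace _ (gvM_inv _ _ _ _) rfl
    (F.rels_k0 hc hk) ⊥ (by intro r hr; exact absurd hr List.not_mem_nil)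
  rw [Subgroup.mem_bot] at h
  have e : ev (gvM F.z F.a F.b F.c) Cert.K0Com.target = (F.s1 * F.s)⁻¹ * (F.s * F.s1) := by
    simp [Cert.K0Com.target, ev, gvM, s, s1, mul_assoc]
  rw [e] at h
  exact (inv_mul_eq_one.1 h).symm

theorem c_s : F.c * F.s * F.c⁻¹ = F.b * F.s1 * F.b⁻¹ := by
  have h := Cert.K0Norm.cert.mem_of_sTrace Cert.K0Norm.steps_ok Cert.K0Norm.trace _ (gvM_inv _ _ _ _) rfl
    (F.rels_k0 hc hk) ⊥ (by intro r hr; exact absurd hr List.not_mem_nil)
  rw [Subgroup.mem_bot] at h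
  have e : ev (gvM F.z F.a F.b F.c) Cert.K0Norm.target = (F.b * F.s1 * F.b⁻¹)⁻¹ * (F.c * F.s * F.c⁻¹) := by
    simp [Cert.K0Norm.target, ev, gvM, s, s1, mul_assoc]
  rw [e] at h
  exact (inv_mul_eq_one.1 h).symm

theorem c_b : F.c * F.b = F.b⁻¹ * F.c := by rw [← F.cbc]; group

theorem s_sq : F.s * F.s = 1 := by
  have h : F.c * F.b⁻¹ * F.c = F.b := by
    calc F.c * F.b⁻¹ * F.c = (F.c * F.b * F.c⁻¹)⁻¹ * (F.c * F.c) := by group
      _ = F.b := by rw [F.cbc, hc, inv_inv, mul_one]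
  calc F.s * F.s = F.a⁻¹ * (F.b⁻¹ * (F.c * F.b⁻¹ * F.c)) * F.a := by rw [s]; group
    _ = 1 := by rw [h]; group

theorem s1_sq : F.s1 * F.s1 = 1 := by
  calc F.s1 * F.s1 = F.b * (F.s * F.s) * F.b⁻¹ := by rw [s1]; group
    _ = 1 := by rw [F.s_sq hc hk]; group

theorem b_s1 : F.b * F.s1 * F.b⁻¹ = F.s * F.s1 := by
  have h := Cert.K0Prod.cert.mem_of_sTrace Cert.K0Prod.steps_ok Cert.K0Prod.trace _ (gvM_inv _ _ _ _) rfl
    (F.rels_k0 hc hk) ⊥ (by intro r hr; exact absurd hr List.not_mem_nil)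
  rw [Subgroup.mem_bot] at h
  have e : ev (gvM F.z F.a F.b F.c) Cert.K0Prod.target = (F.b * F.s1 * F.b⁻¹)⁻¹ * (F.s * F.s1) := by
    simp [Cert.K0Prod.target, ev, gvM, s, s1, mul_assoc]
  rw [e] at h
  exact inv_mul_eq_one.1 h

theorem c_s_eq : F.c * F.s * F.c⁻¹ = F.s * F.s1 := by rw [F.c_s hc hk, F.b_s1 hc hk]

theorem c_s1 : F.c * F.s1 * F.c⁻¹ = F.s1 := by
  calc F.c * F.s1 * F.c⁻¹ = (F.c * F.b) * F.s * (F.c * F.b)⁻¹ := by rw [s1]; group
    _ = F.b⁻¹ * (F.c * F.s * F.c⁻¹) * F.b := by rw [F.c_b hc hk]; group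
    _ = F.s1 := by rw [F.c_s hc hk]; group

theorem mu_mul (x y : R4) : F.mu (R4.mul x y) = F.mu x * F.mu y := by
  obtain ⟨u, i, j⟩ := x
  obtain ⟨v, i', j'⟩ := y
  have hK : cond (xor i i') F.s 1 * cond (xor j j') F.s1 1 =
      cond i F.s 1 * cond j F.s1 1 * (cond i' F.s 1 * cond j' F.s1 1) := by
    have e1 : ∀ p q : Bool, cond (xor p q) F.s 1 = cond p F.s 1 * cond q F.s 1 := by
      intro p q; cases p <;> cases q <;> simp [F.s_sq hc hk]
    have e2 : ∀ p q : Bool, cond (xor p q) F.s1 1 = cond p F.s1 1 * cond q F.s1 1 := by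
      intro p q; cases p <;> cases q <;> simp [F.s1_sq hc hk]
    have e3 : Commute (cond i' F.s 1) (cond j F.s1 1) := by
      cases i' <;> cases j <;> simp [Commute, SemiconjBy, F.s_s1 hc hk]
    rw [e1, e2, mul_assoc (cond i F.s 1), ← mul_assoc (cond i' F.s 1), e3.eq]
    group
  simp only [mu, R4.mul, F.vec_add]
  rw [mul_assoc, hK, ← F.bitsK_vec (i, j) v]
  group

theorem mu_inv (x : R4) : F.mu (R4.inv x) = (F.mu x)⁻¹ := by
  refine eq_inv_of_mul_eq_one_left ?_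
  rw [← F.mu_mul hc hk]
  have key : ∀ x : R4, R4.mul (R4.inv x) x = ((0, 0, 0), false, false) := by decide +kernel
  rw [key, F.mu_one]

theorem mu_cb (x : R4) : F.b * F.mu x * F.b⁻¹ = F.mu (R4.cb x) := by
  obtain ⟨v, i, j⟩ := x
  have hK : F.b * (cond i F.s 1 * cond j F.s1 1) * F.b⁻¹ = cond j F.s 1 * cond (xor i j) F.s1 1 := by
    rw [F.b_mu_bits]
    cases i <;> cases j <;> simp [F.b_s1 hc hk]
    rw [← mul_assoc, ← F.s_s1 hc hk, mul_assoc, F.s1_sq hc hk, mul_one]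
  simp only [mu, R4.cb]
  calc F.b * (F.vec v * cond i F.s 1 * cond j F.s1 1) * F.b⁻¹ =
      (F.b * F.vec v * F.b⁻¹) * (F.b * (cond i F.s 1 * cond j F.s1 1) * F.b⁻¹) := by group
    _ = _ := by rw [hK, F.b_vec]; group

theorem mu_cc (x : R4) : F.c * F.mu x * F.c⁻¹ = F.mu (R4.cc x) := by
  obtain ⟨v, i, j⟩ := x
  have hK : F.c * (cond i F.s 1 * cond j F.s1 1) * F.c⁻¹ = cond i F.s 1 * cond (xor i j) F.s1 1 := by
    have e : F.c * (cond i F.s 1 * cond j F.s1 1) * F.c⁻¹ =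
        (F.c * cond i F.s 1 * F.c⁻¹) * (F.c * cond j F.s1 1 * F.c⁻¹) := by group
    rw [e]
    cases i <;> cases j <;> simp [F.c_s_eq hc hk, F.c_s1 hc hk]
    rw [mul_assoc, F.s1_sq hc hk, mul_one]
  simp only [mu, R4.cc]
  calc F.c * (F.vec v * cond i F.s 1 * cond j F.s1 1) * F.c⁻¹ =
      (F.c * F.vec v * F.c⁻¹) * (F.c * (cond i F.s 1 * cond j F.s1 1) * F.c⁻¹) := by group
    _ = _ := by rw [hK, F.c_vec]; group

theorem mu_cz1 (x : R4) : F.z1 * F.mu x * F.z1⁻¹ = F.mu (R4.cz1 x) := by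
  have h : F.z1⁻¹ = F.vec (0, 3, 0) := by
    refine inv_eq_of_mul_eq_one_right ?_
    rw [← F.vec_unit.2.1, ← F.vec_add]
    exact F.vec_zero
  rw [R4.cz1, F.mu_mul hc hk, F.mu_mul hc hk, F.mu_vec, F.mu_vec, h, F.vec_unit.2.1]

theorem mu_inj : Function.Injective F.mu := by
  intro x y h
  have h1 : F.mu (R4.mul (R4.inv y) x) = 1 := by rw [F.mu_mul hc hk, F.mu_inv hc hk, h, inv_mul_cancel]
  have hp := F.mu_mem_A (x := R4.mul (R4.inv y) x) (by rw [h1]; exact one_mem _)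
  generalize hq : R4.mul (R4.inv y) x = q at h1 hp
  obtain ⟨v, p⟩ := q
  simp only at hp
  subst hp
  rw [F.mu_vec, ← F.vec_zero] at h1
  have hv := F.inj h1
  subst hv
  have key : ∀ x y : R4, R4.mul y (R4.mul (R4.inv y) x) = x ∧ R4.mul y ((0, 0, 0), false, false) = y := by
    intro x y
    obtain ⟨u, i, j⟩ := x
    obtain ⟨v, i', j'⟩ := y
    have hlin : ∀ (p : Bool × Bool) (u : V4), actK p (actK p u) = u ∧ actK p (-u) = -actK p u ∧
        actK p (0, 0, 0) = (0, 0, 0) := by decide +kernel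
    have hadd : ∀ (p : Bool × Bool) (u v : V4), actK p (u + v) = actK p u + actK p v := by
      rintro ⟨i, j⟩ u v
      cases i <;> cases j <;> simp [actK, actS, actS1, app4, Prod.ext_iff] <;> constructorm* _ ∧ _ <;> ring
    refine ⟨?_, ?_⟩
    · simp only [R4.mul, R4.inv, hadd, (hlin _ _).1, (hlin _ _).2.1]
      cases i <;> cases j <;> cases i' <;> cases j' <;> simp
    · simp only [R4.mul, Bool.xor_false]
      rw [(hlin (i', j') v).2.2]
      exact Prod.ext (add_zero v) rfl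
  have := key x y
  rw [hq] at this
  exact this.1.symm.trans this.2

end Split

end MGens

end CfsgLib.Spor.HSType
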