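import Cfsg.Agent.Lib.Spor.HSType.Ctx
import Cfsg.Agent.Lib.Spor.HSType.Model

/-!
# The core of the centralizer inside the two-local subgroup

`R ∩ A` consists of the vectors with even second and third coordinate, the central cyclic subgroup is
generated by `z`, and `R` contains a lift of the transvection `s`. This excludes the nonsplit extension.
-/

set_option autoImplicit false
set_option maxRecDepth 100000

namespace CfsgLib.Spor.HSType

open Subgroup

/-- The hypotheses with generators of the two-local subgroup. -/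
structure Frame {G : Type*} [Group G] {t : G} (K : Ctx G t) where
  D : MData G t
  hM : D.M = K.M
  hA : D.A = K.A
  hV : D.V = K.V
  F : MGens D
  hc : F.c * F.c = 1

namespace Frame

variable {G : Type*} [Group G] [Finite G] {t : G} {K : Ctx G t} (W : Frame K)

theorem t_vec : t = W.F.vec (2, 0, 0) := by rw [← W.F.z_sq_vec, W.F.hz]

theorem vec_V {v : V4} : W.F.vec v ∈ K.V ↔ v + v = 0 := by
  rw [← W.hV, MData.mem_V]
  refine ⟨fun h => W.F.inj ?_, fun h => ⟨W.F.memA v, ?_⟩⟩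
  · rw [W.F.vec_add, ← pow_two, h.2, W.F.vec_zero]
  · rw [pow_two, ← W.F.vec_add, h, W.F.vec_zero]

theorem mem_M {g : G} (hg : g ∈ K.R) : g ∈ W.D.M := by rw [W.hM]; exact K.R_le_M hg

theorem z_mem : W.F.z ∈ K.H := by
  rw [K.mem_H]
  calc W.F.z * t = W.F.z * W.F.z ^ 2 := by rw [W.F.hz]
    _ = W.F.z ^ 2 * W.F.z := by rw [← pow_succ', ← pow_succ]
    _ = t * W.F.z := by rw [W.F.hz]

theorem mem_H_of_fix {g : G} (h : g * W.F.vec (2, 0, 0) * g⁻¹ = W.F.vec (2, 0, 0)) : g ∈ K.H :=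
  K.mem_H.2 ((congrArg (g * ·) W.t_vec).trans
    ((mul_inv_eq_iff_eq_mul.1 h).trans (congrArg (· * g) W.t_vec.symm)))

theorem vec_mem (v : V4) : W.F.vec v ∈ K.H := by
  refine W.mem_H_of_fix (mul_inv_eq_iff_eq_mul.2 ?_)
  rw [← W.F.vec_add, ← W.F.vec_add, add_comm]

theorem b_mem : W.F.b ∈ K.H := W.mem_H_of_fix ((W.F.b_vec _).trans (congrArg _ (by decide)))

theorem c_mem : W.F.c ∈ K.H := W.mem_H_of_fix ((W.F.c_vec _).trans (congrArg _ (by decide)))

theorem conj_R {g x : G} (hg : g ∈ K.H) (hx : x ∈ K.R) : g * x * g⁻¹ ∈ K.R := K.H_norm_R hg hx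

theorem b_R {v : V4} (h : W.F.vec v ∈ K.R) : W.F.vec (actB v) ∈ K.R := by
  rw [← W.F.b_vec]; exact conj_R W.b_mem h

theorem Cy_le_A {y : G} (hy : y ∈ K.Cy) : y ∈ W.D.A :=
  W.D.hfaith y (W.mem_M (K.hCyle hy).1) fun x hx hx2 =>
    K.Cy_central hy (K.hVR (by rw [← W.hV]; exact ⟨hx, hx2⟩))

theorem inter_le : Nat.card ↥(K.R ⊓ W.D.A : Subgroup G) ≤ 16 :=
  K.abelian_le inf_le_left (fun x hx y hy => W.D.hcomm x hx.2 y hy.2) fun y hy =>
    ⟨(K.hCyle hy).1, W.Cy_le_A hy⟩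

theorem two_cases : ∀ v : V4, v + v = 0 → v = (0, 0, 0) ∨ v = (0, 0, 2) ∨ v = (0, 2, 0) ∨ v = (0, 2, 2) ∨
    v = (2, 0, 0) ∨ v = (2, 0, 2) ∨ v = (2, 2, 0) ∨ v = (2, 2, 2) := by decide +kernel

/-- An element fixing the two involutions of the basis and `t` lies in `A`. -/
theorem mem_A_of_fix {g : G} (hg : g ∈ W.D.M) (h0 : g * t * g⁻¹ = t)
    (h1 : g * W.F.vec (0, 2, 0) * g⁻¹ = W.F.vec (0, 2, 0))
    (h2 : g * W.F.vec (0, 0, 2) * g⁻¹ = W.F.vec (0, 0, 2)) : g ∈ W.D.A := by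
  have h0 : g * W.F.vec (2, 0, 0) * g⁻¹ = W.F.vec (2, 0, 0) :=
    (congrArg (g * · * g⁻¹) W.t_vec.symm).trans (h0.trans W.t_vec)
  refine W.D.hfaith g hg fun x hx hx2 => mul_inv_eq_iff_eq_mul.1 ?_
  obtain ⟨v, rfl⟩ := W.F.surj x hx
  have hv : v + v = 0 := W.F.inj (by rw [W.F.vec_add, ← pow_two, hx2, W.F.vec_zero])
  have hadd : ∀ u w : V4, g * W.F.vec u * g⁻¹ = W.F.vec u → g * W.F.vec w * g⁻¹ = W.F.vec w →
      g * W.F.vec (u + w) * g⁻¹ = W.F.vec (u + w) := by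
    intro u w hu hw
    rw [W.F.vec_add]
    calc g * (W.F.vec u * W.F.vec w) * g⁻¹ = (g * W.F.vec u * g⁻¹) * (g * W.F.vec w * g⁻¹) := by group
      _ = _ := by rw [hu, hw]
  rcases two_cases v hv with rfl | rfl | rfl | rfl | rfl | rfl | rfl | rfl
  · have : W.F.vec ((0, 0, 0) : V4) = 1 := W.F.vec_zero
    rw [this]; group
  · exact h2
  · exact h1
  · exact hadd (0, 2, 0) (0, 0, 2) h1 h2
  · exact h0
  · exact hadd (2, 0, 0) (0, 0, 2) h0 h2
  · exact hadd (2, 0, 0) (0, 2, 0) h0 h1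
  · exact hadd (2, 2, 0) (0, 0, 2) (hadd (2, 0, 0) (0, 2, 0) h0 h1) h2

theorem conj_V {r : G} (hr : r ∈ K.R) {v : V4} (hv : v + v = 0) :
    r * W.F.vec v * r⁻¹ = W.F.vec v ∨ r * W.F.vec v * r⁻¹ = W.F.vec (v + (2, 0, 0)) := by
  rcases K.comm_R hr (K.hVR (W.vec_V.2 hv)) with h | h <;> rw [mul_inv_eq_iff_eq_mul] at h
  · left; rw [h, one_mul]
  · right; rw [h, add_comm, W.F.vec_add, ← W.t_vec]

theorem fix_t {r : G} (hr : r ∈ K.R) : r * t * r⁻¹ = t :=
  mul_inv_eq_iff_eq_mul.2 (K.mem_H.1 (K.R_le_H hr))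

open scoped _root_.Classical in
/-- The action of an element of the core on the involutions as two bits. -/
noncomputable def bits (r : G) : Bool × Bool :=
  (decide (r * W.F.vec (0, 2, 0) * r⁻¹ = W.F.vec (0, 2, 0)),
    decide (r * W.F.vec (0, 0, 2) * r⁻¹ = W.F.vec (0, 0, 2)))

theorem bits_eq {r r' : G} (hr : r ∈ K.R) (hr' : r' ∈ K.R) (h : W.bits r = W.bits r') :
    r'⁻¹ * r ∈ W.D.A := by
  have key : ∀ v : V4, v + v = 0 → (r * W.F.vec v * r⁻¹ = W.F.vec v ↔ r' * W.F.vec v * r'⁻¹ = W.F.vec v) →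
      r'⁻¹ * r * W.F.vec v * (r'⁻¹ * r)⁻¹ = W.F.vec v := by
    intro v hv hiff
    have e : r * W.F.vec v * r⁻¹ = r' * W.F.vec v * r'⁻¹ := by
      rcases W.conj_V hr hv with h | h <;> rcases W.conj_V hr' hv with h' | h'
      · rw [h, h']
      · rw [h, hiff.1 h]
      · rw [hiff.2 h', h']
      · rw [h, h']
    calc r'⁻¹ * r * W.F.vec v * (r'⁻¹ * r)⁻¹ = r'⁻¹ * (r * W.F.vec v * r⁻¹) * r' := by group
      _ = _ := by rw [e]; group
  simp only [bits, Prod.mk.injEq, decide_eq_decide] at h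
  refine W.mem_A_of_fix (mul_mem (inv_mem (W.mem_M hr')) (W.mem_M hr)) ?_ (key _ (by decide) h.1)
    (key _ (by decide) h.2)
  calc r'⁻¹ * r * t * (r'⁻¹ * r)⁻¹ = r'⁻¹ * (r * t * r⁻¹) * r' := by group
    _ = r'⁻¹ * (r' * t * r'⁻¹) * r' := by rw [fix_t hr, fix_t hr']
    _ = t := by group

theorem bits_bij : Function.Bijective
    (fun q : ↥K.R ⧸ (K.R ⊓ W.D.A).subgroupOf K.R => W.bits (q.out : G)) ∧
    Nat.card ↥(K.R ⊓ W.D.A : Subgroup G) = 16 := by
  set N := (K.R ⊓ W.D.A).subgroupOf K.R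
  have hinj : Function.Injective (fun q : ↥K.R ⧸ N => W.bits (q.out : G)) := by
    intro q q' h
    rw [← q.out_eq, ← q'.out_eq]
    refine (QuotientGroup.eq.2 ?_).symm
    exact Subgroup.mem_subgroupOf.2 ⟨(q'.out⁻¹ * q.out).2, W.bits_eq q.out.2 q'.out.2 h⟩
  have hle : Nat.card (↥K.R ⧸ N) ≤ 4 := by
    have := Nat.card_le_card_of_injective _ hinj
    simpa [Nat.card_eq_fintype_card (α := Bool × Bool)] using this
  have hmul := Subgroup.card_eq_card_quotient_mul_card_subgroup N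
  rw [Nat.card_congr (Subgroup.subgroupOfEquivOfLe (inf_le_left : K.R ⊓ W.D.A ≤ K.R)).toEquiv,
    K.card_R] at hmul
  have h16 := W.inter_le
  have hq : Nat.card (↥K.R ⧸ N) = 4 := by
    have := Nat.mul_le_mul hle h16
    rcases Nat.lt_or_ge (Nat.card (↥K.R ⧸ N)) 4 with h | h
    · have := Nat.mul_le_mul (Nat.le_sub_one_of_lt h) h16
      omega
    · omega
  refine ⟨(Nat.bijective_iff_injective_and_card _).2 ⟨hinj, ?_⟩, ?_⟩
  · rw [hq, Nat.card_eq_fintype_card]; rfl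
  · rw [hq] at hmul; omega

theorem exists_bits (p : Bool × Bool) : ∃ r ∈ K.R, W.bits r = p := by
  obtain ⟨q, hq⟩ := W.bits_bij.1.2 p
  exact ⟨q.out, q.out.2, hq⟩

theorem big_check : ∀ v : V4, evV v = false →
    ((([(0, 0, 0), (0, 0, 2), (0, 2, 0), (0, 2, 2), (2, 0, 0), (2, 0, 2), (2, 2, 0), (2, 2, 2)] : List V4).flatMap
      fun w => [w, w + v, w + actB v, w + v + actB v])).Nodup := by decide +kernel

/-- The vectors in the core are those with even second and third coordinate. -/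
theorem vec_R (v : V4) : W.F.vec v ∈ K.R ↔ evV v = true := by
  have hmem : ∀ {v}, W.F.vec v ∈ K.R → evV v = true := by
    intro v hv
    by_contra hev
    rw [Bool.not_eq_true] at hev
    set L := (([(0, 0, 0), (0, 0, 2), (0, 2, 0), (0, 2, 2), (2, 0, 0), (2, 0, 2), (2, 2, 0), (2, 2, 2)] : List V4).flatMap
      fun w => [w, w + v, w + actB v, w + v + actB v]) with hL
    have hnd : L.Nodup := big_check v hev
    have hLR : ∀ x ∈ L, W.F.vec x ∈ K.R ⊓ W.D.A := by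
      intro x hx
      refine ⟨?_, W.F.memA x⟩
      rw [hL, List.mem_flatMap] at hx
      obtain ⟨w, hw, hx⟩ := hx
      have h2 : ∀ w ∈ ([(0, 0, 0), (0, 0, 2), (0, 2, 0), (0, 2, 2), (2, 0, 0), (2, 0, 2), (2, 2, 0), (2, 2, 2)] :
          List V4), w + w = 0 := by decide +kernel
      have hwR := K.hVR (W.vec_V.2 (h2 w hw))
      simp only [List.mem_cons, List.not_mem_nil, or_false] at hx
      rcases hx with rfl | rfl | rfl | rfl
      · exact hwR
      · rw [W.F.vec_add]; exact mul_mem hwR hv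
      · rw [W.F.vec_add]; exact mul_mem hwR (W.b_R hv)
      · rw [W.F.vec_add, W.F.vec_add]; exact mul_mem (mul_mem hwR hv) (W.b_R hv)
    let f : Fin L.length → ↥(K.R ⊓ W.D.A : Subgroup G) := fun i => ⟨W.F.vec (L.get i), hLR _ (L.get_mem i)⟩
    have hf : Function.Injective f := fun x y e =>
      List.nodup_iff_injective_get.1 hnd (W.F.inj (congrArg Subtype.val e))
    have := Nat.card_le_card_of_injective f hf
    rw [W.bits_bij.2, Nat.card_fin] at this
    simp [hL] at this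
  refine ⟨hmem, fun hv => ?_⟩
  -- sixteen vectors on both sides
  let f : ↥(K.R ⊓ W.D.A : Subgroup G) → {v : V4 // evV v = true} := fun x =>
    ⟨(W.F.surj x.1 x.2.2).choose, hmem (by rw [(W.F.surj x.1 x.2.2).choose_spec]; exact x.2.1)⟩
  have hf : Function.Injective f := fun x y e => by
    have e' := congrArg (fun p : {v : V4 // evV v = true} => W.F.vec p.1) e
    simp only [f, (W.F.surj x.1 x.2.2).choose_spec, (W.F.surj y.1 y.2.2).choose_spec] at e'
    exact Subtype.ext e'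
  have hcard : Nat.card ↥(K.R ⊓ W.D.A : Subgroup G) = Nat.card {v : V4 // evV v = true} := by
    rw [W.bits_bij.2, Nat.card_eq_fintype_card]; decide +kernel
  obtain ⟨x, hx⟩ := ((Nat.bijective_iff_injective_and_card f).2 ⟨hf, hcard⟩).2 ⟨v, hv⟩
  have e : W.F.vec v = x.1 := by
    rw [← (W.F.surj x.1 x.2.2).choose_spec]
    exact congrArg W.F.vec (congrArg Subtype.val hx).symm
  rw [e]; exact x.2.1

theorem z_R : W.F.z ∈ K.R := by rw [← W.F.vec_unit.1]; exact (W.vec_R _).2 (by decide)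

/-- The central cyclic subgroup is generated by `z`. -/
theorem z_Cy : W.F.z ∈ K.Cy := by
  haveI := K.hCy
  obtain ⟨g, hg⟩ := IsCyclic.exists_generator (α := K.Cy)
  have hog : orderOf g = 4 := by rw [orderOf_eq_card_of_forall_mem_zpowers hg, K.hCycard]
  obtain ⟨v, hv⟩ := W.F.surj g.1 (W.Cy_le_A g.2)
  have hev : evV v = true := (W.vec_R v).1 (by rw [hv]; exact (K.hCyle g.2).1)
  have hb : W.F.b * g.1 * W.F.b⁻¹ ∈ K.Cy := K.center_R (conj_R W.b_mem (K.hCyle g.2).1) fun y hy => by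
    have h := K.Cy_central g.2 (show W.F.b⁻¹ * y * W.F.b ∈ K.R by
      have := conj_R (inv_mem W.b_mem) hy
      rwa [inv_inv] at this)
    calc W.F.b * g.1 * W.F.b⁻¹ * y = W.F.b * (g.1 * (W.F.b⁻¹ * y * W.F.b)) * W.F.b⁻¹ := by group
      _ = _ := by rw [h]; group
  obtain ⟨n, hn⟩ := (mem_powers_iff_mem_zpowers (x := g) (y := ⟨_, hb⟩)).2 (hg _)
  have hn' : g.1 ^ (n % 4) = W.F.vec (actB v) := by
    have := congrArg Subtype.val hn
    simp only [SubmonoidClass.coe_pow] at this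
    rw [← W.F.b_vec, hv, ← this, ← hog]
    exact congrArg Subtype.val (pow_mod_orderOf g n)
  have hne : v + v ≠ 0 := fun h => by
    have h2 : g.1 * g.1 = 1 := by rw [← hv, ← W.F.vec_add, h, W.F.vec_zero]
    have h2' : g ^ 2 = 1 := Subtype.ext (by rw [pow_two]; exact h2)
    have := orderOf_dvd_of_pow_eq_one h2'
    rw [hog] at this
    norm_num at this
  have hpow : ∀ n < 4, g.1 ^ n = W.F.vec (n • v) := by
    intro n hn
    interval_cases n
    · simp [W.F.vec_zero]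
    · simp [hv]
    · rw [two_nsmul, W.F.vec_add, hv, pow_two]
    · rw [show (3 : ℕ) • v = v + v + v by abel, W.F.vec_add, W.F.vec_add, hv]
      simp only [pow_succ, pow_zero, one_mul]
  rw [hpow _ (Nat.mod_lt _ (by norm_num))] at hn'
  have key : ∀ v : V4, evV v = true → v + v ≠ 0 → ∀ n : Fin 4, n.val • v = actB v →
      v = (1, 0, 0) ∨ v = (3, 0, 0) := by decide +kernel
  rcases key v hev hne ⟨_, Nat.mod_lt _ (by norm_num)⟩ (W.F.inj hn') with rfl | rfl
  · rw [← W.F.vec_unit.1, hv]; exact g.2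
  · have e : W.F.z = g.1⁻¹ := by
      rw [← hv, ← W.F.vec_unit.1]
      refine (inv_eq_of_mul_eq_one_right ?_).symm
      rw [← W.F.vec_add]
      exact W.F.vec_zero
    rw [e]; exact inv_mem g.2

theorem z_comm {x : G} (hx : x ∈ K.R) : W.F.z * x = x * W.F.z := K.Cy_central W.z_Cy hx

theorem Cy_pow {x : G} (hx : x ∈ K.Cy) : ∃ n < 4, x = W.F.z ^ n := by
  have ho : orderOf W.F.z = 4 := by
    refine orderOf_eq_prime_pow (p := 2) (n := 1) ?_ W.F.z4
    rw [pow_one, W.F.hz]; exact K.t_ne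
  have heq : Subgroup.zpowers W.F.z = K.Cy :=
    Subgroup.eq_of_le_of_card_ge (by rw [Subgroup.zpowers_le]; exact W.z_Cy)
      (by rw [Nat.card_zpowers, ho, K.hCycard])
  rw [← heq] at hx
  obtain ⟨n, rfl⟩ := mem_powers_iff_mem_zpowers.2 hx
  exact ⟨n % 4, Nat.mod_lt _ (by norm_num), by rw [← ho, pow_mod_orderOf]⟩

/-- The core contains an element of the coset of `s`. -/
theorem exists_lift : ∃ α : V4, W.F.vec α * W.F.s ∈ K.R := by
  obtain ⟨r, hr, hb⟩ := W.exists_bits (false, true)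
  simp only [bits, Prod.mk.injEq, decide_eq_false_iff_not, decide_eq_true_eq] at hb
  have h1 : r * W.F.vec (0, 2, 0) * r⁻¹ = W.F.vec (2, 2, 0) := by
    rcases W.conj_V hr (v := (0, 2, 0)) (by decide) with h | h
    · exact absurd h hb.1
    · rw [h]; exact congrArg _ (by decide)
  have hA : W.F.s⁻¹ * r ∈ W.D.A := by
    have hsi : ∀ u v, r * W.F.vec u * r⁻¹ = W.F.vec v → actS u = v →
        W.F.s⁻¹ * r * W.F.vec u * (W.F.s⁻¹ * r)⁻¹ = W.F.vec u := by
      intro u v h hs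
      calc W.F.s⁻¹ * r * W.F.vec u * (W.F.s⁻¹ * r)⁻¹ = W.F.s⁻¹ * (r * W.F.vec u * r⁻¹) * W.F.s := by group
        _ = W.F.s⁻¹ * (W.F.s * W.F.vec u * W.F.s⁻¹) * W.F.s := by rw [h, W.F.s_vec, hs]
        _ = _ := by group
    refine W.mem_A_of_fix (mul_mem (inv_mem W.F.sM) (W.mem_M hr)) ?_ (hsi _ _ h1 (by decide))
      (hsi _ _ hb.2 (by decide))
    have := hsi _ _ (show r * W.F.vec (2, 0, 0) * r⁻¹ = W.F.vec (2, 0, 0) by rw [← W.t_vec]; exact fix_t hr)
      (by decide)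
    rwa [← W.t_vec] at this
  obtain ⟨v, hv⟩ := W.F.surj _ hA
  refine ⟨actS v, ?_⟩
  have : W.F.vec (actS v) * W.F.s = r := by
    rw [← W.F.s_vec, hv]; group
  rw [this]; exact hr

/-- The extension splits. -/
theorem split (h : (W.F.a * W.F.c) ^ 3 = 1 ∨ (W.F.a * W.F.c) ^ 3 = W.F.z2) : (W.F.a * W.F.c) ^ 3 = 1 := by
  refine h.resolve_right fun hk => ?_
  obtain ⟨hcom, hnorm⟩ := W.F.cocycle W.hc hk
  obtain ⟨α, hr⟩ := W.exists_lift
  set F := W.F
  have hb := conj_R W.b_mem hr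
  have eb : F.b * (F.vec α * F.s) * F.b⁻¹ = F.vec (actB α) * F.s1 := by
    rw [← F.b_vec, MGens.s1]; group
  rw [eb] at hb
  -- the commutator of the two lifts
  have hsi : ∀ v, F.s⁻¹ * F.vec v * F.s = F.vec (actS v) := by
    have h : ∀ v, actS (actS v) = v := by decide +kernel
    intro v
    conv_lhs => rw [← h v, ← F.s_vec]
    group
  have hs1i : ∀ v, F.s1⁻¹ * F.vec v * F.s1 = F.vec (actS1 v) := by
    have h : ∀ v, actS1 (actS1 v) = v := by decide +kernel
    intro v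
    conv_lhs => rw [← h v, ← F.s1_vec]
    group
  have hni : ∀ v, (F.vec v)⁻¹ = F.vec (-v) := fun v =>
    inv_eq_of_mul_eq_one_right (by rw [← F.vec_add, add_neg_cancel, F.vec_zero])
  have e1 : (F.vec α * F.s)⁻¹ * (F.vec (actB α) * F.s1)⁻¹ * (F.vec α * F.s) * (F.vec (actB α) * F.s1) =
      F.vec (actS (-α) + actS (actS1 (α - actB α)) + actS (actS1 (actS (actB α))) + (2, 0, 0)) := by
    rw [F.vec_add, F.vec_add, F.vec_add, ← hcom, ← hsi, ← hsi, ← hsi, ← hs1i, ← hs1i, ← F.s_vec,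
      sub_eq_neg_add, F.vec_add, ← hni, ← hni, MGens.s1]
    group
  have e2 : (F.b * (F.vec (actB α) * F.s1) * F.b⁻¹)⁻¹ * (F.c * (F.vec α * F.s) * F.c⁻¹) =
      F.vec (actS (actS1 (actC α - actB (actB α))) + (3, 3, 2)) := by
    have act2 : ∀ v, (F.b * F.s1 * F.b⁻¹)⁻¹ * F.vec v * (F.b * F.s1 * F.b⁻¹) = F.vec (actS (actS1 v)) := by
      have h : ∀ v, actB (actS1 (app4 (1, 0, 0) (2, 3, 3) (0, 1, 0) v)) = actS (actS1 v) := by decide +kernel
      intro v
      rw [← h, ← F.b_vec, ← hs1i, ← F.b_inv_vec]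
      group
    rw [F.vec_add, ← hnorm, ← act2, sub_eq_neg_add, F.vec_add, ← hni, ← F.c_vec, ← F.b_vec (actB α), MGens.s1]
    group
  have hcr := conj_R W.c_mem hr
  have hbb := conj_R W.b_mem hb
  have hin := mul_mem (inv_mem hbb) hcr
  rw [e2, W.vec_R] at hin
  have hcc : actS (-α) + actS (actS1 (α - actB α)) + actS (actS1 (actS (actB α))) + (2, 0, 0) = 0 ∨
      actS (-α) + actS (actS1 (α - actB α)) + actS (actS1 (actS (actB α))) + (2, 0, 0) = (2, 0, 0) := by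
    rcases K.comm_R (inv_mem hr) (inv_mem hb) with h | h <;> rw [inv_inv, inv_inv] at h
    · exact Or.inl (F.inj ((e1.symm.trans h).trans F.vec_zero.symm))
    · exact Or.inr (F.inj ((e1.symm.trans h).trans W.t_vec))
  have key : ∀ α : V4, evV (actS (actS1 (actC α - actB (actB α))) + (3, 3, 2)) = true →
      ¬(actS (-α) + actS (actS1 (α - actB α)) + actS (actS1 (actS (actB α))) + (2, 0, 0) = 0 ∨
        actS (-α) + actS (actS1 (α - actB α)) + actS (actS1 (actS (actB α))) + (2, 0, 0) = (2, 0, 0)) := by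
    decide +kernel
  exact key α hin hcc

end Frame

end CfsgLib.Spor.HSType
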