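import Cfsg.Agent.Lib.Spor.HSType.Words
import Cfsg.Agent.Lib.Spor.HSType.Cert.SqK0.All
import Cfsg.Agent.Lib.Spor.HSType.Cert.SqK1.All
import Cfsg.Agent.Lib.Spor.HSType.Cert.CocCom.All
import Cfsg.Agent.Lib.Spor.HSType.Cert.CocNorm.All

/-!
# The extension of `4³` by `GL(3,2)`

After changing `c` within its coset the generators satisfy `c² = 1` and `(a c)³ = 1` or `(a c)³ = z₂`. In
the second case two products of `a, b, c` are computed for later use.
-/

set_option autoImplicit false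
set_option maxRecDepth 100000

namespace CfsgLib.Spor.HSType

open Subgroup CfsgLib.Spor.TC

variable {G : Type*} [Group G] {t : G}

theorem fix_check : ((List.range 7).all fun i => (List.range 3).all fun j =>
    (i == 0 && j == 0) || !((actA^[i] (actB^[j] (1, 0, 0)) == ((1, 0, 0) : V4)) &&
      (actA^[i] (actB^[j] (0, 1, 0)) == ((0, 1, 0) : V4)))) = true := by decide +kernel

theorem fix_trivial {i j : ℕ} (hi : i < 7) (hj : j < 3) (h0 : actA^[i] (actB^[j] (1, 0, 0)) = (1, 0, 0))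
    (h1 : actA^[i] (actB^[j] (0, 1, 0)) = (0, 1, 0)) : i = 0 ∧ j = 0 := by
  have h := fix_check
  simp only [List.all_eq_true, List.mem_range] at h
  simpa [h0, h1] using h i hi j hj

/-- Generators adapted to the given data. -/
structure MGens (D : MData G t) extends Gens G where
  hz : z ^ 2 = t
  memA : ∀ v, toGens.vec v ∈ D.A
  inj : Function.Injective toGens.vec
  surj : ∀ x ∈ D.A, ∃ v, toGens.vec v = x
  aM : a ∈ D.M
  bM : b ∈ D.M
  cM : c ∈ D.M
  gen : Subgroup.closure ({z, a, b, c} : Set G) = D.M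

namespace MGens

variable {D : MData G t} (F : MGens D)

theorem zM : F.z ∈ D.M := by
  have := D.hAM (F.memA (1, 0, 0))
  rwa [F.vec_unit.1] at this

theorem comm_vec {g : G} (hg : g ∈ D.A) (v : V4) : g * F.vec v * g⁻¹ = F.vec v := by
  rw [D.hcomm g hg _ (F.memA v), mul_inv_cancel_right]

/-- An element of `⟨a, b⟩` in `A` is trivial. -/
theorem eq_one_of_mem {x : G} (hx : x ∈ Subgroup.closure ({F.a, F.b} : Set G)) (hA : x ∈ D.A) : x = 1 := by
  obtain ⟨i, hi, j, hj, rfl⟩ : ∃ i < 7, ∃ j < 3, x = F.a ^ i * F.b ^ j := by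
    clear hA
    have e7 : ∀ n : ℕ, F.a ^ n = F.a ^ (n % 7) := fun n => pow_eq_pow_mod n F.a7
    have e3 : ∀ n : ℕ, F.b ^ n = F.b ^ (n % 3) := fun n => pow_eq_pow_mod n F.b3
    have hconj : ∀ j i : ℕ, F.b ^ j * F.a ^ i = F.a ^ (2 ^ j * i) * F.b ^ j := by
      intro j
      induction j with
      | zero => intro i; simp
      | succ j ih =>
        intro i
        have h2 : F.b * F.a ^ i = F.a ^ (2 * i) * F.b := by
          rw [pow_mul, ← F.bab, conj_pow, inv_mul_cancel_right]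
        rw [pow_succ F.b, mul_assoc, h2, ← mul_assoc, ih, pow_succ (2 : ℕ), mul_assoc (2 ^ j), mul_assoc]
    induction hx using Subgroup.closure_induction with
    | mem g hg =>
      rcases hg with rfl | rfl
      · exact ⟨1, by norm_num, 0, by norm_num, by simp⟩
      · exact ⟨0, by norm_num, 1, by norm_num, by simp⟩
    | one => exact ⟨0, by norm_num, 0, by norm_num, by simp⟩
    | mul g k _ _ hg hk =>
      obtain ⟨i, -, j, -, rfl⟩ := hg
      obtain ⟨i', -, j', -, rfl⟩ := hk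
      refine ⟨(i + 2 ^ j * i') % 7, Nat.mod_lt _ (by norm_num), (j + j') % 3, Nat.mod_lt _ (by norm_num), ?_⟩
      rw [← e7, ← e3, pow_add, pow_add, mul_assoc (F.a ^ i), ← mul_assoc (F.b ^ j), hconj]
      group
    | inv g _ hg =>
      obtain ⟨i, hi, j, hj, rfl⟩ := hg
      refine ⟨(2 ^ (3 - j) * (7 - i)) % 7, Nat.mod_lt _ (by norm_num), (3 - j) % 3, Nat.mod_lt _ (by norm_num), ?_⟩
      rw [← e7, ← e3, ← hconj]
      refine inv_eq_of_mul_eq_one_right ?_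
      rw [mul_assoc, ← mul_assoc (F.b ^ j), ← pow_add, show j + (3 - j) = 3 by omega, F.b3, one_mul, ← pow_add,
        show i + (7 - i) = 7 by omega, F.a7]
  have hit : ∀ (g : G) (f : V4 → V4), (∀ v, g * F.vec v * g⁻¹ = F.vec (f v)) → ∀ n v,
      g ^ n * F.vec v * (g ^ n)⁻¹ = F.vec (f^[n] v) := by
    intro g f hf n
    induction n with
    | zero => intro v; simp
    | succ n ih =>
      intro v
      rw [Function.iterate_succ_apply', ← hf, ← ih, pow_succ']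
      group
  have h1 : ∀ v, actA^[i] (actB^[j] v) = v := fun v => F.inj (by
    rw [← hit _ _ F.a_vec, ← hit _ _ F.b_vec]
    have h2 := F.comm_vec hA v
    refine Eq.trans ?_ h2
    group)
  obtain ⟨rfl, rfl⟩ := fix_trivial hi hj (h1 _) (h1 _)
  simp

/-- An element of `M` acting trivially on the involutions is in `A`. -/
theorem mem_A_of_act {g : G} (hg : g ∈ D.M) {f : V4 → V4} (hf : ∀ v, g * F.vec v * g⁻¹ = F.vec (f v))
    (h : ∀ v : V4, v + v = 0 → f v = v) : g ∈ D.A :=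
  D.hfaith g hg fun x hx hx2 => by
    obtain ⟨v, rfl⟩ := F.surj x hx
    have h0 : v + v = 0 := F.inj (by rw [F.vec_add, ← pow_two, hx2, F.vec_zero])
    have := hf v
    rw [h v h0] at this
    exact mul_inv_eq_iff_eq_mul.1 this

/-- The relators hold once the two last ones do. -/
theorem eval_rels {sq w : List ℕ} (hsq : ev (gvM F.z F.a F.b F.c) sq = 1)
    (hw : ev (gvM F.z F.a F.b F.c) w = 1) :
    ∀ r ∈ [[0, 0, 0, 0], [2, 2, 2, 2, 2, 2, 2], [4, 4, 4], [4, 2, 5, 3, 3], [4, 0, 5, 1],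
      [0, 2, 0, 3, 1, 2, 1, 3], [0, 2, 2, 0, 3, 3, 1, 2, 2, 1, 3, 3],
      [2, 0, 3, 2, 2, 0, 3, 3, 2, 1, 3, 2, 2, 1, 3, 3],
      [2, 2, 2, 0, 3, 3, 3, 2, 2, 1, 3, 3, 2, 2, 1, 3, 3, 2, 1, 3, 2, 1, 3, 2, 1, 3, 1],
      [6, 4, 7, 4], [6, 0, 7, 0], [6, 2, 0, 3, 7, 2, 2, 1, 3, 3], sq, w],
      ev (gvM F.z F.a F.b F.c) r = 1 := by
  intro r hr
  simp only [List.mem_cons, List.not_mem_nil, or_false] at hr
  rcases hr with rfl | rfl | rfl | rfl | rfl | rfl | rfl | rfl | rfl | rfl | rfl | rfl | rfl | rfl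
  · rw [← F.z4]; simp [ev, gvM, pow_succ, mul_assoc]
  · rw [← F.a7]; simp [ev, gvM, pow_succ, mul_assoc]
  · rw [← F.b3]; simp [ev, gvM, pow_succ, mul_assoc]
  · calc ev (gvM F.z F.a F.b F.c) [4, 2, 5, 3, 3] = (F.b * F.a * F.b⁻¹) * (F.a ^ 2)⁻¹ := by
          simp [ev, gvM, pow_two, mul_assoc]
      _ = 1 := by rw [F.bab, mul_inv_cancel]
  · calc ev (gvM F.z F.a F.b F.c) [4, 0, 5, 1] = (F.b * F.z) * F.b⁻¹ * F.z⁻¹ := by
          simp [ev, gvM, mul_assoc]
      _ = 1 := by rw [F.bz.eq]; group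
  · have h : Commute F.z F.z1 := F.c01
    calc ev (gvM F.z F.a F.b F.c) [0, 2, 0, 3, 1, 2, 1, 3] = F.z * F.z1 * F.z⁻¹ * F.z1⁻¹ := by
          simp [ev, gvM, Gens.z1, mul_assoc]
      _ = 1 := by rw [h.eq]; group
  · have h : Commute F.z F.z2 := F.c02
    calc ev (gvM F.z F.a F.b F.c) [0, 2, 2, 0, 3, 3, 1, 2, 2, 1, 3, 3] = F.z * F.z2 * F.z⁻¹ * F.z2⁻¹ := by
          simp [ev, gvM, Gens.z2, Gens.z1, mul_assoc]
      _ = 1 := by rw [h.eq]; group
  · have h : Commute F.z1 F.z2 := F.c12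
    calc ev (gvM F.z F.a F.b F.c) [2, 0, 3, 2, 2, 0, 3, 3, 2, 1, 3, 2, 2, 1, 3, 3]
        = F.z1 * F.z2 * F.z1⁻¹ * F.z2⁻¹ := by simp [ev, gvM, Gens.z2, Gens.z1, mul_assoc]
      _ = 1 := by rw [h.eq]; group
  · calc ev (gvM F.z F.a F.b F.c) [2, 2, 2, 0, 3, 3, 3, 2, 2, 1, 3, 3, 2, 2, 1, 3, 3, 2, 1, 3, 2, 1, 3, 2, 1, 3, 1]
        = (F.a * F.z2 * F.a⁻¹) * (F.z * F.z1 ^ 3 * F.z2 ^ 2)⁻¹ := by
          simp [ev, gvM, Gens.z2, Gens.z1, pow_succ, mul_assoc]
      _ = 1 := by rw [show F.a * F.z2 * F.a⁻¹ = F.z * F.z1 ^ 3 * F.z2 ^ 2 from F.az2, mul_inv_cancel]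
  · calc ev (gvM F.z F.a F.b F.c) [6, 4, 7, 4] = (F.c * F.b * F.c⁻¹) * F.b := by simp [ev, gvM, mul_assoc]
      _ = 1 := by rw [F.cbc, inv_mul_cancel]
  · calc ev (gvM F.z F.a F.b F.c) [6, 0, 7, 0] = (F.c * F.z * F.c⁻¹) * F.z := by simp [ev, gvM, mul_assoc]
      _ = 1 := by rw [F.czc, inv_mul_cancel]
  · calc ev (gvM F.z F.a F.b F.c) [6, 2, 0, 3, 7, 2, 2, 1, 3, 3] = (F.c * F.z1 * F.c⁻¹) * F.z2⁻¹ := by
          simp [ev, gvM, Gens.z2, Gens.z1, mul_assoc]
      _ = 1 := by rw [show F.c * F.z1 * F.c⁻¹ = F.z2 from F.cz1, mul_inv_cancel]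
  · exact hsq
  · exact hw

theorem subs_mem : ∀ r ∈ ([[2], [4]] : List (List ℕ)),
    ev (gvM F.z F.a F.b F.c) r ∈ Subgroup.closure ({F.a, F.b} : Set G) := by
  intro r hr
  simp only [List.mem_cons, List.not_mem_nil, or_false] at hr
  rcases hr with rfl | rfl
  · rw [show ev (gvM F.z F.a F.b F.c) [2] = F.a by simp [ev, gvM]]
    exact Subgroup.subset_closure (by simp)
  · rw [show ev (gvM F.z F.a F.b F.c) [4] = F.b by simp [ev, gvM]]
    exact Subgroup.subset_closure (by simp)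

/-- The word of the relation `(a c)³ = z₂ᵏ` for `k = 0, 1`. -/
theorem eval_ac {k : ℕ} (h : (F.a * F.c) ^ 3 = F.z2 ^ k) :
    (k = 0 → ev (gvM F.z F.a F.b F.c) [2, 6, 2, 6, 2, 6] = 1) ∧
    (k = 1 → ev (gvM F.z F.a F.b F.c) [2, 6, 2, 6, 2, 6, 2, 2, 1, 3, 3] = 1) := by
  constructor <;> rintro rfl
  · rw [← pow_zero F.z2, ← h]; simp [ev, gvM, pow_succ, mul_assoc]
  · calc ev (gvM F.z F.a F.b F.c) [2, 6, 2, 6, 2, 6, 2, 2, 1, 3, 3] = (F.a * F.c) ^ 3 * F.z2⁻¹ := by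
          simp [ev, gvM, Gens.z2, Gens.z1, pow_succ, mul_assoc]
      _ = 1 := by rw [h, pow_one, mul_inv_cancel]

/-- The square of `c` is trivial. -/
theorem c_sq_one {k : ℕ} (hk : k = 0 ∨ k = 1) (h : (F.a * F.c) ^ 3 = F.z2 ^ k) : F.c * F.c = 1 := by
  refine F.c_sq.resolve_right fun he => ?_
  have hsq : ev (gvM F.z F.a F.b F.c) [6, 6, 1, 1] = 1 := by
    calc ev (gvM F.z F.a F.b F.c) [6, 6, 1, 1] = F.c * F.c * (F.z ^ 2)⁻¹ := by
          simp [ev, gvM, pow_succ, mul_assoc]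
      _ = 1 := by rw [he, mul_inv_cancel]
  have hmem : F.z ^ 2 ∈ Subgroup.closure ({F.a, F.b} : Set G) := by
    have e : ev (gvM F.z F.a F.b F.c) [0, 0] = F.z ^ 2 := by simp [ev, gvM, pow_two]
    rw [← e]
    rcases hk with rfl | rfl
    · exact Cert.SqK0.cert.mem_of_sTrace Cert.SqK0.steps_ok Cert.SqK0.trace _ (gvM_inv _ _ _ _) rfl
        (F.eval_rels hsq ((F.eval_ac h).1 rfl)) _ F.subs_mem
    · exact Cert.SqK1.cert.mem_of_sTrace Cert.SqK1.steps_ok Cert.SqK1.trace _ (gvM_inv _ _ _ _) rfl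
        (F.eval_rels hsq ((F.eval_ac h).2 rfl)) _ F.subs_mem
  refine D.ht1 ?_
  rw [← F.hz]
  exact F.eq_one_of_mem hmem (by rw [F.hz]; exact D.ht)

/-- The transvection lift. -/
def s : G := F.a⁻¹ * F.b⁻¹ * F.c * F.a

theorem sM : F.s ∈ D.M := mul_mem (mul_mem (mul_mem (inv_mem F.aM) (inv_mem F.bM)) F.cM) F.aM

/-- The two products in the nonsplit case. -/
theorem cocycle (hc : F.c * F.c = 1) (h : (F.a * F.c) ^ 3 = F.z2) :
    F.s⁻¹ * (F.b * F.s * F.b⁻¹)⁻¹ * F.s * (F.b * F.s * F.b⁻¹) = F.vec (2, 0, 0) ∧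
    (F.b * (F.b * F.s * F.b⁻¹) * F.b⁻¹)⁻¹ * (F.c * F.s * F.c⁻¹) = F.vec (3, 3, 2) := by
  have hsq : ev (gvM F.z F.a F.b F.c) [6, 6] = 1 := by simp [ev, gvM, hc]
  have hw := (F.eval_ac (k := 1) (by rw [pow_one]; exact h)).2 rfl
  have hA6 : ∀ v, actA (actA^[6] v) = v := by decide +kernel
  have hB2 : ∀ v, actB (actB^[2] v) = v := by decide +kernel
  have hai : ∀ v, F.a⁻¹ * F.vec v * F.a = F.vec (actA^[6] v) := fun v => by
    conv_lhs => rw [← hA6 v, ← F.a_vec]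
    group
  have hbi : ∀ v, F.b⁻¹ * F.vec v * F.b = F.vec (actB^[2] v) := fun v => by
    conv_lhs => rw [← hB2 v, ← F.b_vec]
    group
  have act_s : ∀ v, F.s * F.vec v * F.s⁻¹ = F.vec (actA^[6] (actB^[2] (actC (actA v)))) := by
    intro v
    rw [← hai, ← hbi, ← F.c_vec, ← F.a_vec, s]
    group
  have act_bs : ∀ v, (F.b * F.s * F.b⁻¹) * F.vec v * (F.b * F.s * F.b⁻¹)⁻¹ =
      F.vec (actB (actA^[6] (actB^[2] (actC (actA (actB^[2] v)))))) := by
    intro v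
    rw [← F.b_vec, ← act_s, ← hbi]
    group
  have hM := F.sM
  have hbsM : F.b * F.s * F.b⁻¹ ∈ D.M := mul_mem (mul_mem F.bM hM) (inv_mem F.bM)
  have two : ∀ v : V4, v + v = 0 → v ∈ ([(0, 0, 0), (0, 0, 2), (0, 2, 0), (0, 2, 2), (2, 0, 0), (2, 0, 2),
      (2, 2, 0), (2, 2, 2)] : List V4) := by decide +kernel
  constructor
  · have hA : F.s⁻¹ * (F.b * F.s * F.b⁻¹)⁻¹ * F.s * (F.b * F.s * F.b⁻¹) ∈ D.A := by
      refine D.hfaith _ (mul_mem (mul_mem (mul_mem (inv_mem hM) (inv_mem hbsM)) hM) hbsM) fun x hx hx2 => ?_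
      obtain ⟨v, rfl⟩ := F.surj x hx
      have h0 : v + v = 0 := F.inj (by rw [F.vec_add, ← pow_two, hx2, F.vec_zero])
      refine mul_inv_eq_iff_eq_mul.1 ?_
      set S := F.s
      set B := F.b * F.s * F.b⁻¹
      have key : ∀ v ∈ ([(0, 0, 0), (0, 0, 2), (0, 2, 0), (0, 2, 2), (2, 0, 0), (2, 0, 2), (2, 2, 0),
          (2, 2, 2)] : List V4), actA^[6] (actB^[2] (actC (actA (actB (actA^[6] (actB^[2] (actC (actA
            (actB^[2] v))))))))) = actB (actA^[6] (actB^[2] (actC (actA (actB^[2] (actA^[6] (actB^[2] (actC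
              (actA v))))))))) := by decide +kernel
      have e1 : B * (S * F.vec v * S⁻¹) * B⁻¹ = S * (B * F.vec v * B⁻¹) * S⁻¹ := by
        rw [act_s, act_bs, act_bs, act_s, key v (two v h0)]
      calc S⁻¹ * B⁻¹ * S * B * F.vec v * (S⁻¹ * B⁻¹ * S * B)⁻¹
          = S⁻¹ * B⁻¹ * (S * (B * F.vec v * B⁻¹) * S⁻¹) * B * S := by group
        _ = S⁻¹ * B⁻¹ * (B * (S * F.vec v * S⁻¹) * B⁻¹) * B * S := by rw [e1]
        _ = _ := by group
    have h1 := F.eq_one_of_mem (Cert.CocCom.cert.mem_of_sTrace Cert.CocCom.steps_ok Cert.CocCom.trace _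
      (gvM_inv _ _ _ _) rfl (F.eval_rels hsq hw) _ F.subs_mem)
    have e : ev (gvM F.z F.a F.b F.c) Cert.CocCom.target =
        F.s⁻¹ * (F.b * F.s * F.b⁻¹)⁻¹ * F.s * (F.b * F.s * F.b⁻¹) * (F.z ^ 2)⁻¹ := by
      simp [Cert.CocCom.target, ev, gvM, s, pow_succ, mul_assoc]
    rw [e] at h1
    have h2 := h1 (mul_mem hA (inv_mem (by rw [F.hz]; exact D.ht)))
    rw [mul_inv_eq_one] at h2
    rw [h2, F.z_sq_vec]
  · have hbbM : F.b * (F.b * F.s * F.b⁻¹) * F.b⁻¹ ∈ D.M := mul_mem (mul_mem F.bM hbsM) (inv_mem F.bM)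
    have hcsM : F.c * F.s * F.c⁻¹ ∈ D.M := mul_mem (mul_mem F.cM hM) (inv_mem F.cM)
    have act_bbs : ∀ v, (F.b * (F.b * F.s * F.b⁻¹) * F.b⁻¹) * F.vec v * (F.b * (F.b * F.s * F.b⁻¹) * F.b⁻¹)⁻¹ =
        F.vec (actB (actB (actA^[6] (actB^[2] (actC (actA (actB^[2] (actB^[2] v)))))))) := by
      intro v
      rw [← F.b_vec, ← act_bs, ← hbi]
      simp only [mul_inv_rev, inv_inv, mul_assoc]
    have act_cs : ∀ v, (F.c * F.s * F.c⁻¹) * F.vec v * (F.c * F.s * F.c⁻¹)⁻¹ =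
        F.vec (actC (actA^[6] (actB^[2] (actC (actA (actC v)))))) := by
      intro v
      have hci : F.c⁻¹ = F.c := inv_eq_of_mul_eq_one_right hc
      rw [← F.c_vec, ← act_s, ← F.c_vec, hci]
      simp only [mul_inv_rev, hci, mul_assoc]
    have hA : (F.b * (F.b * F.s * F.b⁻¹) * F.b⁻¹)⁻¹ * (F.c * F.s * F.c⁻¹) ∈ D.A := by
      refine D.hfaith _ (mul_mem (inv_mem hbbM) hcsM) fun x hx hx2 => ?_
      obtain ⟨v, rfl⟩ := F.surj x hx
      have h0 : v + v = 0 := F.inj (by rw [F.vec_add, ← pow_two, hx2, F.vec_zero])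
      refine mul_inv_eq_iff_eq_mul.1 ?_
      have key : ∀ v ∈ ([(0, 0, 0), (0, 0, 2), (0, 2, 0), (0, 2, 2), (2, 0, 0), (2, 0, 2), (2, 2, 0),
          (2, 2, 2)] : List V4), actC (actA^[6] (actB^[2] (actC (actA (actC v))))) =
            actB (actB (actA^[6] (actB^[2] (actC (actA (actB^[2] (actB^[2] v))))))) := by decide +kernel
      set B2 := F.b * (F.b * F.s * F.b⁻¹) * F.b⁻¹
      set Cs := F.c * F.s * F.c⁻¹
      have e1 : Cs * F.vec v * Cs⁻¹ = B2 * F.vec v * B2⁻¹ := by rw [act_cs, act_bbs, key v (two v h0)]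
      calc B2⁻¹ * Cs * F.vec v * (B2⁻¹ * Cs)⁻¹ = B2⁻¹ * (Cs * F.vec v * Cs⁻¹) * B2 := by group
        _ = B2⁻¹ * (B2 * F.vec v * B2⁻¹) * B2 := by rw [e1]
        _ = _ := by group
    have h1 := F.eq_one_of_mem (Cert.CocNorm.cert.mem_of_sTrace Cert.CocNorm.steps_ok Cert.CocNorm.trace _
      (gvM_inv _ _ _ _) rfl (F.eval_rels hsq hw) _ F.subs_mem)
    have e : ev (gvM F.z F.a F.b F.c) Cert.CocNorm.target =
        (F.b * (F.b * F.s * F.b⁻¹) * F.b⁻¹)⁻¹ * (F.c * F.s * F.c⁻¹) * (F.vec (3, 3, 2))⁻¹ := by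
      simp [Cert.CocNorm.target, ev, gvM, s, Gens.vec, Gens.z2, Gens.z1, pow_succ, mul_assoc,
        show (3 : ZMod 4).val = 3 from rfl, show (2 : ZMod 4).val = 2 from rfl]
    rw [e] at h1
    exact mul_inv_eq_one.1 (h1 (mul_mem hA (inv_mem (F.memA _))))

end MGens

variable [Finite G]

/-- Normalised generators. -/
theorem MData.exists_mgens (D : MData G t) :
    ∃ F : MGens D, F.c * F.c = 1 ∧ ((F.a * F.c) ^ 3 = 1 ∨ (F.a * F.c) ^ 3 = F.z2) := by
  obtain ⟨F, hz, hA, hinj, hsurj, haM, hbM, hcM, hgen⟩ := D.exists_gens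
  obtain ⟨k, hk⟩ := F.ac3
  let M0 : MGens D := { toGens := F, hz := hz, memA := hA, inj := hinj, surj := hsurj, aM := haM, bM := hbM,
                        cM := hcM, gen := hgen }
  -- `c z` changes the exponent by two
  have hshift : (F.a * (F.c * F.z)) ^ 3 = (F.a * F.c) ^ 3 * F.vec (0, 0, 2) := by
    have hac : ∀ v, (F.a * F.c)⁻¹ * F.vec (actA (actC v)) * (F.a * F.c) = F.vec v := fun v => by
      rw [← F.a_vec, ← F.c_vec]; group
    have e1 : (F.a * F.c)⁻¹ * F.vec (1, 0, 0) * (F.a * F.c) = F.vec (3, 1, 2) := by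
      rw [show ((1, 0, 0) : V4) = actA (actC (3, 1, 2)) by decide]; exact hac _
    have e2 : (F.a * F.c)⁻¹ * F.vec (3, 1, 2) * (F.a * F.c) = F.vec (0, 3, 0) := by
      rw [show ((3, 1, 2) : V4) = actA (actC (0, 3, 0)) by decide]; exact hac _
    have hz1 : F.z = F.vec (1, 0, 0) := F.vec_unit.1.symm
    calc (F.a * (F.c * F.z)) ^ 3 = (F.a * F.c) * (F.a * F.c) * (F.a * F.c) *
          ((F.a * F.c)⁻¹ * ((F.a * F.c)⁻¹ * F.z * (F.a * F.c)) * (F.a * F.c)) *
          ((F.a * F.c)⁻¹ * F.z * (F.a * F.c)) * F.z := by simp only [pow_succ, pow_zero, one_mul]; group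
      _ = (F.a * F.c) ^ 3 * (F.vec (0, 3, 0) * F.vec (3, 1, 2) * F.vec (1, 0, 0)) := by
          rw [hz1, e1, e2]; simp only [pow_succ, pow_zero, one_mul]; group
      _ = _ := by
          rw [← F.vec_add, ← F.vec_add, show ((0, 3, 0) : V4) + (3, 1, 2) + (1, 0, 0) = (0, 0, 2) by decide]
  have hz2_2 : F.vec (0, 0, 2) = F.z2 ^ 2 := by simp [Gens.vec, show (2 : ZMod 4).val = 2 from rfl]
  let F' : MGens D :=
    { toGens :=
        { F with
          c := F.c * F.z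
          c_sq := by
            have e : F.c * F.z * (F.c * F.z) = F.c * F.c := by
              have h : F.z * F.c = F.c * F.z⁻¹ := by
                calc F.z * F.c = (F.c * F.z * F.c⁻¹)⁻¹ * F.c := by rw [F.czc, inv_inv]
                  _ = _ := by group
              calc F.c * F.z * (F.c * F.z) = F.c * (F.z * F.c) * F.z := by group
                _ = F.c * F.c := by rw [h]; group
            rw [e]; exact F.c_sq
          cbc := by
            have h : F.z * F.b * F.z⁻¹ = F.b := by rw [← F.bz.eq, mul_inv_cancel_right]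
            calc F.c * F.z * F.b * (F.c * F.z)⁻¹ = F.c * (F.z * F.b * F.z⁻¹) * F.c⁻¹ := by group
              _ = F.b⁻¹ := by rw [h, F.cbc]
          czc := by
            calc F.c * F.z * F.z * (F.c * F.z)⁻¹ = F.c * F.z * F.c⁻¹ := by group
              _ = F.z⁻¹ := F.czc
          cz1 := by
            have h : F.z * F.z1 * F.z⁻¹ = F.z1 := by
              rw [(show Commute F.z F.z1 from F.c01).eq, mul_inv_cancel_right]
            calc F.c * F.z * (F.a * F.z * F.a⁻¹) * (F.c * F.z)⁻¹ = F.c * (F.z * F.z1 * F.z⁻¹) * F.c⁻¹ := by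
                  rw [Gens.z1]; group
              _ = _ := by rw [h]; exact F.cz1
          ac3 := ⟨k + 2, by
            show (F.a * (F.c * F.z)) ^ 3 = F.z2 ^ (k + 2)
            rw [hshift, hk, hz2_2, pow_add]; rfl⟩ }
      hz := hz, memA := hA, inj := hinj, surj := hsurj, aM := haM, bM := hbM
      cM := mul_mem hcM M0.zM
      gen := by
        refine le_antisymm ?_ ?_
        · rw [Subgroup.closure_le]
          rintro g (rfl | rfl | rfl | rfl)
          exacts [M0.zM, haM, hbM, mul_mem hcM M0.zM]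
        · rw [← hgen, Subgroup.closure_le]
          rintro g (rfl | rfl | rfl | rfl)
          · exact Subgroup.subset_closure (Or.inl rfl)
          · exact Subgroup.subset_closure (Or.inr (Or.inl rfl))
          · exact Subgroup.subset_closure (Or.inr (Or.inr (Or.inl rfl)))
          · have h := mul_mem
              (Subgroup.subset_closure (Or.inr (Or.inr (Or.inr rfl))) :
                F.c * F.z ∈ Subgroup.closure ({F.z, F.a, F.b, F.c * F.z} : Set G))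
              (inv_mem (Subgroup.subset_closure (Or.inl rfl) :
                F.z ∈ Subgroup.closure ({F.z, F.a, F.b, F.c * F.z} : Set G)))
            rwa [mul_inv_cancel_right] at h }
  have hk4 : F.z2 ^ k = F.z2 ^ (k % 4) := pow_eq_pow_mod k F.z2_pow4
  have hk2 : F.z2 ^ (k + 2) = F.z2 ^ ((k + 2) % 4) := pow_eq_pow_mod _ F.z2_pow4
  by_cases hsmall : k % 4 < 2
  · have hk' : k % 4 = 0 ∨ k % 4 = 1 := by omega
    have he : (M0.a * M0.c) ^ 3 = M0.z2 ^ (k % 4) := by rw [← hk4]; exact hk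
    refine ⟨M0, M0.c_sq_one hk' he, ?_⟩
    rcases hk' with h | h <;> rw [h] at he
    · exact Or.inl (by rw [he, pow_zero])
    · exact Or.inr (by rw [he, pow_one])
  · have hk' : (k + 2) % 4 = 0 ∨ (k + 2) % 4 = 1 := by omega
    have he : (F'.a * F'.c) ^ 3 = F'.z2 ^ ((k + 2) % 4) := by
      show (F.a * (F.c * F.z)) ^ 3 = F.z2 ^ ((k + 2) % 4)
      rw [hshift, ← hk2, show (F.a * F.c) ^ 3 = F.z2 ^ k from hk, hz2_2, pow_add]
    refine ⟨F', F'.c_sq_one hk' he, ?_⟩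
    rcases hk' with h | h <;> rw [h] at he
    · exact Or.inl (by rw [he, pow_zero])
    · exact Or.inr (by rw [he, pow_one])

end CfsgLib.Spor.HSType
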