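import Cfsg.Prelude.Def_Solvable
import Cfsg.Prelude.Def_Transfer
import Cfsg.Agent.Lib.PGroup.Basic
import Cfsg.Agent.Lib.Coprime.Core
import Cfsg.Agent.Lib.Spor.HSType.MSplit
import Cfsg.Agent.S2553

/-!
# The hypotheses and their first consequences

The centralizer `H` of `t`, its core `R = C₄ ∘ 2^{1+4}` and the two-local subgroup `M`: orders, the centre and
commutators of `R`, and the data feeding the analysis of `M`.
-/

set_option autoImplicit false
set_option maxRecDepth 100000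

namespace CfsgLib.Spor.HSType

open Subgroup

/-- The hypotheses. -/
structure Ctx (G : Type*) [Group G] (t : G) where
  ht : orderOf t = 2
  H : Subgroup G
  hH : H = Subgroup.centralizer ({t} : Set G)
  R : Subgroup G
  hR : R = (Cfsg.pCore 2 H).map H.subtype
  Cy : Subgroup G
  E : Subgroup G
  hCy : IsCyclic Cy
  hCycard : Nat.card Cy = 4
  hCyle : Cy ≤ R ⊓ Subgroup.centralizer (R : Set G)
  hEle : E ≤ R
  hEex : Cfsg.IsExtraspecial 2 E
  hEcard : Nat.card E = 32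
  hprod : Cy ⊔ E = R
  hmeet : Cy ⊓ E = E ⊓ Subgroup.centralizer (E : Set G)
  eH : H ⧸ Cfsg.pCore 2 H ≃* Equiv.Perm (Fin 5)
  V : Subgroup G
  hVcomm : IsMulCommutative V
  hVexp : ∀ v ∈ V, v ^ 2 = 1
  hVcard : Nat.card V = 8
  hVR : V ≤ R
  M : Subgroup G
  hM : M = Subgroup.normalizer (V : Set G)
  eOM : Cfsg.pCore 2 M ≃* Multiplicative (ZMod 4 × ZMod 4 × ZMod 4)
  eM : M ⧸ Cfsg.pCore 2 M ≃* GL (Fin 3) (ZMod 2)

namespace Ctx

variable {G : Type*} [Group G] {t : G} (K : Ctx G t)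

include K in
theorem t_sq : t * t = 1 := by rw [← pow_two, ← K.ht]; exact pow_orderOf_eq_one t

include K in
theorem t_ne : t ≠ 1 := fun h => by
  have := K.ht
  rw [h, orderOf_one] at this
  norm_num at this

theorem mem_H {x : G} : x ∈ K.H ↔ x * t = t * x := by rw [K.hH]; exact mem_centralizer_singleton_iff

theorem R_le_H : K.R ≤ K.H := by rw [K.hR]; exact Subgroup.map_subtype_le _

theorem H_norm_R {g x : G} (hg : g ∈ K.H) (hx : x ∈ K.R) : g * x * g⁻¹ ∈ K.R := by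
  rw [K.hR] at hx ⊢
  obtain ⟨y, hy, rfl⟩ := hx
  have hn : (Cfsg.pCore 2 K.H).Normal := CfsgLib.Coprime.pCore_normal' 2
  exact ⟨⟨g, hg⟩ * y * ⟨g, hg⟩⁻¹, hn.conj_mem y hy ⟨g, hg⟩, rfl⟩

theorem isPGroup_R : IsPGroup 2 K.R := by
  rw [K.hR]; exact (CfsgLib.PGroup.isPGroup_pCore 2 K.H).map _

theorem t_mem_R : t ∈ K.R := by
  rw [K.hR]
  have htH : t ∈ K.H := K.mem_H.2 rfl
  set t' : K.H := ⟨t, htH⟩
  have hn : (Subgroup.zpowers t').Normal := ⟨fun x hx g => by
    obtain ⟨n, rfl⟩ := hx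
    have hc : Commute g t' := Subtype.ext (K.mem_H.1 g.2)
    show g * t' ^ n * g⁻¹ ∈ _
    rw [(hc.zpow_right n).eq, mul_inv_cancel_right]
    exact Subgroup.zpow_mem_zpowers _ n⟩
  have hp : IsPGroup 2 (Subgroup.zpowers t') := IsPGroup.of_card (n := 1) (by
    rw [Nat.card_zpowers, Subgroup.orderOf_mk, K.ht, pow_one])
  exact ⟨t', CfsgLib.PGroup.le_pCore hn hp (Subgroup.mem_zpowers t'), rfl⟩

theorem Cy_central {x y : G} (hx : x ∈ K.Cy) (hy : y ∈ K.R) : x * y = y * x :=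
  (mem_centralizer_iff.1 (K.hCyle hx).2 y hy).symm

theorem exists_split {x : G} (hx : x ∈ K.R) : ∃ c ∈ K.Cy, ∃ e ∈ K.E, x = c * e := by
  rw [← K.hprod] at hx
  have hnorm : K.E ≤ Subgroup.normalizer (K.Cy : Set G) := fun e he => mem_normalizer_iff.2 fun c => by
    constructor <;> intro hc
    · rw [← K.Cy_central hc (K.hEle he), mul_inv_cancel_right]; exact hc
    · have h := K.Cy_central hc (inv_mem (K.hEle he))
      have : c = e⁻¹ * (e * c * e⁻¹) * e := by group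
      rw [this, ← h, inv_mul_cancel_right]; exact hc
  have hset := Subgroup.coe_mul_of_right_le_normalizer_left K.Cy K.E hnorm
  rw [← SetLike.mem_coe, hset] at hx
  obtain ⟨c, hc, e, he, rfl⟩ := hx
  exact ⟨c, hc, e, he, rfl⟩

theorem meet_iff {x : G} : x ∈ K.Cy ∧ x ∈ K.E ↔ x ∈ K.E ∧ ∀ y ∈ K.E, y * x = x * y := by
  have h := SetLike.ext_iff.1 K.hmeet x
  rwa [Subgroup.mem_inf, Subgroup.mem_inf, mem_centralizer_iff] at h

theorem center_R {x : G} (hx : x ∈ K.R) (hc : ∀ y ∈ K.R, x * y = y * x) : x ∈ K.Cy := by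
  obtain ⟨c, hcy, e, he, rfl⟩ := K.exists_split hx
  refine mul_mem hcy (K.meet_iff.2 ⟨he, fun y hy => ?_⟩).1
  have h := hc y (K.hEle hy)
  rw [mul_assoc, ← mul_assoc y, ← K.Cy_central hcy (K.hEle hy), mul_assoc c y] at h
  exact (mul_left_cancel h).symm

theorem t_mem_Cy : t ∈ K.Cy :=
  K.center_R K.t_mem_R fun y hy => (K.mem_H.1 (K.R_le_H hy)).symm

variable [Finite G]

theorem Cy_sq {x : G} (hx : x ∈ K.Cy) (hx2 : x * x = 1) : x = 1 ∨ x = t := by
  haveI := K.hCy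
  obtain ⟨g, hg⟩ := IsCyclic.exists_generator (α := K.Cy)
  have hog : orderOf g = 4 := by rw [orderOf_eq_card_of_forall_mem_zpowers hg, K.hCycard]
  have key : ∀ y : K.Cy, y * y = 1 → y = 1 ∨ y = g ^ 2 := by
    intro y hy
    obtain ⟨n, rfl⟩ := (mem_powers_iff_mem_zpowers (x := g) (y := y)).2 (hg y)
    simp only at hy ⊢
    rw [← pow_mod_orderOf, hog] at ⊢
    rw [← pow_add, ← orderOf_dvd_iff_pow_eq_one, hog] at hy
    rcases (show n % 4 = 0 ∨ n % 4 = 2 by omega) with h | h <;> rw [h]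
    · exact Or.inl (pow_zero g)
    · exact Or.inr rfl
  have ht : (⟨t, K.t_mem_Cy⟩ : K.Cy) = g ^ 2 := (key _ (Subtype.ext K.t_sq)).resolve_left fun h =>
    K.t_ne (congrArg Subtype.val h)
  rcases key ⟨x, hx⟩ (Subtype.ext hx2) with h | h
  · exact Or.inl (congrArg Subtype.val h)
  · exact Or.inr (congrArg Subtype.val (h.trans ht.symm))

theorem card_meet : Nat.card ↥(K.Cy ⊓ K.E : Subgroup G) = 2 := by
  refine Eq.trans ?_ K.hEex.2
  exact Nat.card_congr
    { toFun := fun x => ⟨⟨x.1, x.2.2⟩, Subgroup.mem_center_iff.2 fun y =>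
        Subtype.ext ((K.meet_iff.1 x.2).2 y.1 y.2)⟩
      invFun := fun x => ⟨x.1.1, K.meet_iff.2 ⟨x.1.2, fun y hy =>
        congrArg Subtype.val (Subgroup.mem_center_iff.1 x.2 ⟨y, hy⟩)⟩⟩
      left_inv := fun x => rfl
      right_inv := fun x => rfl }

theorem card_R : Nat.card K.R = 64 := by
  let f : K.Cy × K.E →* G := MonoidHom.mk' (fun p => p.1.1 * p.2.1) fun p q => by
    have h := K.Cy_central q.1.2 (K.hEle p.2.2)
    show p.1.1 * q.1.1 * (p.2.1 * q.2.1) = p.1.1 * p.2.1 * (q.1.1 * q.2.1)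
    calc p.1.1 * q.1.1 * (p.2.1 * q.2.1) = p.1.1 * (q.1.1 * p.2.1) * q.2.1 := by group
      _ = p.1.1 * (p.2.1 * q.1.1) * q.2.1 := by rw [h]
      _ = _ := by group
  have hr : f.range = K.R := by
    refine le_antisymm ?_ fun x hx => ?_
    · rintro _ ⟨p, rfl⟩
      exact mul_mem (K.hCyle p.1.2).1 (K.hEle p.2.2)
    · obtain ⟨c, hc, e, he, rfl⟩ := K.exists_split hx
      exact ⟨(⟨c, hc⟩, ⟨e, he⟩), rfl⟩
  have hk : Nat.card f.ker = 2 := by
    refine Eq.trans ?_ K.card_meet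
    exact Nat.card_congr
      { toFun := fun p => ⟨p.1.1.1, Subgroup.mem_inf.2 ⟨p.1.1.2, by
          have h : p.1.1.1 * p.1.2.1 = 1 := p.2
          rw [mul_eq_one_iff_eq_inv.1 h]
          exact inv_mem p.1.2.2⟩⟩
        invFun := fun x => ⟨(⟨x.1, x.2.1⟩, ⟨x.1⁻¹, inv_mem x.2.2⟩), mul_inv_cancel x.1⟩
        left_inv := fun p => by
          have h : p.1.1.1 * p.1.2.1 = 1 := p.2
          exact Subtype.ext (Prod.ext rfl (Subtype.ext (inv_eq_of_mul_eq_one_right h)))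
        right_inv := fun x => rfl }
  have := f.ker.index_mul_card
  rw [Subgroup.index_ker, hk, Nat.card_prod, K.hCycard, K.hEcard, hr] at this
  omega

theorem meet_eq {x : G} (hx : x ∈ K.Cy) (hxE : x ∈ K.E) : x = 1 ∨ x = t := by
  refine K.Cy_sq hx ?_
  have h := pow_card_eq_one' (G := ↥(K.Cy ⊓ K.E : Subgroup G)) (x := ⟨x, hx, hxE⟩)
  rw [K.card_meet, pow_two] at h
  exact congrArg Subtype.val h

theorem comm_R {x y : G} (hx : x ∈ K.R) (hy : y ∈ K.R) :
    x * y * x⁻¹ * y⁻¹ = 1 ∨ x * y * x⁻¹ * y⁻¹ = t := by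
  obtain ⟨c, hc, e, he, rfl⟩ := K.exists_split hx
  obtain ⟨c', hc', e', he', rfl⟩ := K.exists_split hy
  have h1 := K.Cy_central hc (K.hEle he')
  have h2 := K.Cy_central hc (K.hCyle hc').1
  have h3 := K.Cy_central hc' (K.hEle he)
  have e1 : c * e * (c' * e') * (c * e)⁻¹ * (c' * e')⁻¹ = e * e' * e⁻¹ * e'⁻¹ := by
    calc c * e * (c' * e') * (c * e)⁻¹ * (c' * e')⁻¹ = c * (e * c') * e' * e⁻¹ * c⁻¹ * e'⁻¹ * c'⁻¹ := by group
      _ = c * c' * (e * e' * e⁻¹) * c⁻¹ * e'⁻¹ * c'⁻¹ := by rw [← h3]; group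
      _ = c' * (c * (e * e' * e⁻¹)) * c⁻¹ * e'⁻¹ * c'⁻¹ := by rw [h2]; group
      _ = c' * (e * e' * e⁻¹ * e'⁻¹) * c'⁻¹ := by
          rw [K.Cy_central hc (mul_mem (mul_mem (K.hEle he) (K.hEle he')) (inv_mem (K.hEle he)))]; group
      _ = _ := by
          rw [K.Cy_central hc' (mul_mem (mul_mem (mul_mem (K.hEle he) (K.hEle he')) (inv_mem (K.hEle he)))
            (inv_mem (K.hEle he'))), mul_inv_cancel_right]
  rw [e1]
  have hmem : e * e' * e⁻¹ * e'⁻¹ ∈ K.E := mul_mem (mul_mem (mul_mem he he') (inv_mem he)) (inv_mem he')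
  have hc2 : (⟨e * e' * e⁻¹ * e'⁻¹, hmem⟩ : K.E) ∈ Subgroup.center K.E := by
    rw [← K.hEex.1.2.2]
    exact Subgroup.commutator_mem_commutator (g₁ := (⟨e, he⟩ : K.E)) (g₂ := ⟨e', he'⟩) trivial trivial
  have hm := K.meet_iff.2 ⟨hmem, fun y hy => congrArg Subtype.val (Subgroup.mem_center_iff.1 hc2 ⟨y, hy⟩)⟩
  exact K.meet_eq hm.1 hm.2

/-- An abelian subgroup of `R` has order at most sixteen. -/
theorem abelian_le {U : Subgroup G} (hU : U ≤ K.R) (hc : ∀ x ∈ U, ∀ y ∈ U, x * y = y * x)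
    (hCU : K.Cy ≤ U) : Nat.card U ≤ 16 := by
  by_contra hlt
  push_neg at hlt
  have hdvd := Subgroup.card_dvd_of_le hU
  rw [K.card_R, show (64 : ℕ) = 2 ^ 6 by norm_num, Nat.dvd_prime_pow Nat.prime_two] at hdvd
  obtain ⟨n, hn, hU'⟩ := hdvd
  by_cases hall : K.R ≤ U
  · have hCyR : K.R ≤ K.Cy := fun x hx => K.center_R hx fun y hy => hc x (hall hx) y (hall hy)
    have := Subgroup.card_le_of_le hCyR
    rw [K.card_R, K.hCycard] at this
    omega
  obtain ⟨g, hg, hgU⟩ := SetLike.not_le_iff_exists.1 hall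
  have hU32 : Nat.card U = 32 := by
    have : n = 5 := by
      rcases Nat.lt_or_ge n 5 with h | h
      · have := Nat.pow_le_pow_right (show 1 ≤ 2 by norm_num) (show n ≤ 4 by omega)
        omega
      · rcases (show n = 5 ∨ n = 6 by omega) with h | h
        · exact h
        · exfalso
          refine hgU ((Subgroup.eq_of_le_of_card_ge hU (by rw [K.card_R, hU', h]; norm_num)).symm ▸ hg)
    rw [hU', this]; norm_num
  -- the centralizer of `g` in `U` has index at most two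
  let W : Subgroup G := U ⊓ Subgroup.centralizer ({g} : Set G)
  have hWU : W.subgroupOf U = Subgroup.comap U.subtype (Subgroup.centralizer ({g} : Set G)) := by
    ext x; simp [W, Subgroup.mem_subgroupOf]
  let f : U →* ↥K.Cy := MonoidHom.mk' (fun u => ⟨u.1 * g * u.1⁻¹ * g⁻¹, by
      rcases K.comm_R (hU u.2) hg with h | h <;> rw [h]
      exacts [one_mem _, K.t_mem_Cy]⟩) fun u v => Subtype.ext (by
    have hz : u.1 * (v.1 * g * v.1⁻¹ * g⁻¹) = (v.1 * g * v.1⁻¹ * g⁻¹) * u.1 := by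
      rcases K.comm_R (hU v.2) hg with h | h <;> rw [h]
      · simp
      · exact (K.Cy_central K.t_mem_Cy (hU u.2)).symm
    have hz2 : ∀ w : U, (w.1 * g * w.1⁻¹ * g⁻¹) ∈ K.Cy := fun w => by
      rcases K.comm_R (hU w.2) hg with h | h <;> rw [h]
      exacts [one_mem _, K.t_mem_Cy]
    show (u.1 * v.1) * g * (u.1 * v.1)⁻¹ * g⁻¹ = u.1 * g * u.1⁻¹ * g⁻¹ * (v.1 * g * v.1⁻¹ * g⁻¹)
    rw [K.Cy_central (hz2 u) ((K.hCyle (hz2 v)).1)]
    calc (u.1 * v.1) * g * (u.1 * v.1)⁻¹ * g⁻¹ = u.1 * (v.1 * g * v.1⁻¹ * g⁻¹) * g * u.1⁻¹ * g⁻¹ := by group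
      _ = _ := by rw [hz]; group)
  have hker : ∀ u : U, u ∈ f.ker → u.1 * g = g * u.1 := fun u hu => by
    have h : u.1 * g * u.1⁻¹ * g⁻¹ = 1 := congrArg Subtype.val hu
    rwa [mul_inv_eq_one, mul_inv_eq_iff_eq_mul] at h
  have hrange : Nat.card f.range ≤ 2 := by
    haveI : DecidableEq G := Classical.decEq G
    let i : f.range → Fin 2 := fun x => if x.1.1 = 1 then 0 else 1
    have hi : Function.Injective i := by
      intro x y e
      obtain ⟨_, u, rfl⟩ := x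
      obtain ⟨_, w, rfl⟩ := y
      refine Subtype.ext (Subtype.ext ?_)
      show u.1 * g * u.1⁻¹ * g⁻¹ = w.1 * g * w.1⁻¹ * g⁻¹
      simp only [i] at e
      rcases K.comm_R (hU u.2) hg with h | h <;> rcases K.comm_R (hU w.2) hg with h' | h' <;>
        simp only [f, MonoidHom.mk'_apply, h, h'] at e ⊢ <;> simp [K.t_ne] at e
    have := Nat.card_le_card_of_injective i hi
    rwa [Nat.card_fin] at this
  have h16 : 16 ≤ Nat.card f.ker := by
    have := f.ker.index_mul_card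
    rw [Subgroup.index_ker, hU32] at this
    rcases Nat.lt_or_ge (Nat.card f.ker) 16 with h | h
    · exfalso
      rcases (show Nat.card f.range = 1 ∨ Nat.card f.range = 2 by
        have := Nat.card_pos (α := f.range); omega) with h2 | h2 <;> rw [h2] at this <;> omega
    · exact h
  -- these elements are central in `R`
  set X := U ⊔ Subgroup.zpowers g with hX
  have hXR : X = K.R := by
    have hle : X ≤ K.R := sup_le hU (by rwa [Subgroup.zpowers_le])
    refine Subgroup.eq_of_le_of_card_ge hle ?_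
    rw [K.card_R]
    have h1 := Subgroup.card_dvd_of_le hle
    have h2 : Nat.card U ∣ Nat.card X := Subgroup.card_dvd_of_le le_sup_left
    rw [K.card_R] at h1
    rw [hU32] at h2
    by_contra hlt'
    push_neg at hlt'
    obtain ⟨k, hk⟩ := h2
    have hX32 : Nat.card X = 32 := by
      have := Nat.card_pos (α := X)
      omega
    have := Subgroup.eq_of_le_of_card_ge (le_sup_left : U ≤ X) (by rw [hX32, hU32])
    exact hgU (this ▸ (le_sup_right : _ ≤ X) (Subgroup.mem_zpowers g))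
  let j : f.ker → K.Cy := fun u => ⟨u.1.1, by
    refine K.center_R (hU u.1.2) fun y hy => ?_
    have hXle : X ≤ Subgroup.centralizer ({u.1.1} : Set G) := sup_le
      (fun x hx => mem_centralizer_singleton_iff.2 (hc x hx _ u.1.2))
      (by rw [Subgroup.zpowers_le]; exact mem_centralizer_singleton_iff.2 (hker u.1 u.2).symm)
    rw [hXR] at hXle
    exact (mem_centralizer_singleton_iff.1 (hXle hy)).symm⟩
  have hj : Function.Injective j := fun u v e => Subtype.ext (Subtype.ext (congrArg (fun x : K.Cy => (x : G)) e))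
  have := Nat.card_le_card_of_injective j hj
  rw [K.hCycard] at this
  omega

theorem card_H : Nat.card K.H = 7680 := by
  have h := (Cfsg.pCore 2 K.H).card_mul_index
  rw [Subgroup.index_eq_card, Nat.card_congr K.eH.toEquiv, Nat.card_perm, Nat.card_fin,
    ← Subgroup.card_map_of_injective K.H.subtype_injective, ← K.hR, K.card_R] at h
  rw [← h]; rfl

theorem t_mem_V : t ∈ K.V := by
  haveI := K.hVcomm
  by_contra htV
  have hVt : ∀ v ∈ K.V, v * t = t * v := fun v hv => K.mem_H.1 (K.R_le_H (K.hVR hv))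
  -- `V ⊔ ⟨t⟩` is elementary of order 16
  let U : Subgroup G :=
    { carrier := {x | ∃ v ∈ K.V, ∃ c ∈ K.Cy, x = v * c}
      one_mem' := ⟨1, one_mem _, 1, one_mem _, by simp⟩
      mul_mem' := by
        rintro _ _ ⟨v, hv, c, hc, rfl⟩ ⟨v', hv', c', hc', rfl⟩
        refine ⟨v * v', mul_mem hv hv', c * c', mul_mem hc hc', ?_⟩
        rw [mul_assoc v, ← mul_assoc c v', K.Cy_central hc (K.hVR hv'), mul_assoc v', ← mul_assoc v]
      inv_mem' := by
        rintro _ ⟨v, hv, c, hc, rfl⟩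
        exact ⟨v⁻¹, inv_mem hv, c⁻¹, inv_mem hc, by rw [mul_inv_rev, K.Cy_central (inv_mem hc) (inv_mem (K.hVR hv))]⟩ }
  have hmem : ∀ {v c : G}, v ∈ K.V → c ∈ K.Cy → v * c ∈ U := fun hv hc => ⟨_, hv, _, hc, rfl⟩
  have hle : U ≤ K.R := by rintro _ ⟨v, hv, c, hc, rfl⟩; exact mul_mem (K.hVR hv) (K.hCyle hc).1
  have hcomm : ∀ x ∈ U, ∀ y ∈ U, x * y = y * x := by
    rintro _ ⟨v, hv, c, hc, rfl⟩ _ ⟨v', hv', c', hc', rfl⟩
    have hvv : v * v' = v' * v := congrArg Subtype.val (mul_comm' (⟨v, hv⟩ : K.V) ⟨v', hv'⟩)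
    have h1 := K.Cy_central hc (K.hVR hv')
    have h2 := K.Cy_central hc' (K.hVR hv)
    have h3 := K.Cy_central hc (K.hCyle hc').1
    calc v * c * (v' * c') = v * (c * v') * c' := by group
      _ = v * v' * (c * c') := by rw [h1]; group
      _ = v' * (v * c') * c := by rw [hvv, h3]; group
      _ = v' * c' * (v * c) := by rw [← h2]; group
  have hCU : K.Cy ≤ U := fun c hc => ⟨1, one_mem _, c, hc, (one_mul c).symm⟩
  have h := K.abelian_le hle hcomm hCU
  let f : K.V × K.Cy → U := fun p => ⟨p.1.1 * p.2.1, hmem p.1.2 p.2.2⟩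
  have hf : Function.Injective f := by
    rintro ⟨v, c⟩ ⟨v', c'⟩ e
    have e' : v.1 * c.1 = v'.1 * c'.1 := congrArg Subtype.val e
    have hx : v'.1⁻¹ * v.1 = c'.1 * c.1⁻¹ := by
      rw [inv_mul_eq_iff_eq_mul, ← mul_assoc, ← e', mul_inv_cancel_right]
    have hV' : v'.1⁻¹ * v.1 ∈ K.V := mul_mem (inv_mem v'.2) v.2
    have hC' : v'.1⁻¹ * v.1 ∈ K.Cy := by rw [hx]; exact mul_mem c'.2 (inv_mem c.2)
    rcases K.Cy_sq hC' (by rw [← pow_two]; exact K.hVexp _ hV') with h1 | h1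
    · have hv : v = v' := Subtype.ext (inv_mul_eq_one.1 h1).symm
      subst hv
      exact Prod.ext rfl (Subtype.ext (mul_left_cancel e'))
    · exact absurd (Eq.subst (motive := fun w => w ∈ K.V) h1 hV') htV
  have := Nat.card_le_card_of_injective f hf
  rw [Nat.card_prod, K.hVcard, K.hCycard] at this
  omega

theorem R_le_M : K.R ≤ K.M := by
  rw [K.hM]
  intro r hr
  refine mem_normalizer_iff.2 fun v => ?_
  have key : ∀ r ∈ K.R, ∀ v ∈ K.V, r * v * r⁻¹ ∈ K.V := by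
    intro r hr v hv
    have : r * v * r⁻¹ = (r * v * r⁻¹ * v⁻¹) * v := by group
    rw [this]
    rcases K.comm_R hr (K.hVR hv) with h | h <;> rw [h]
    · rw [one_mul]; exact hv
    · exact mul_mem K.t_mem_V hv
  exact ⟨fun hv => key r hr v hv, fun hv => by
    have := key r⁻¹ (inv_mem hr) _ hv
    simpa [mul_assoc] using this⟩

/-- The core of `M`. -/
def A : Subgroup G := (Cfsg.pCore 2 K.M).map K.M.subtype

theorem card_A : Nat.card K.A = 64 := by
  rw [A, Subgroup.card_map_of_injective K.M.subtype_injective, Nat.card_congr K.eOM.toEquiv,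
    Nat.card_eq_fintype_card]
  rfl

theorem V_le_M : K.V ≤ K.M := by rw [K.hM]; exact Subgroup.le_normalizer

theorem V_le_A : K.V ≤ K.A := by
  have hn : (K.V.subgroupOf K.M).Normal := ⟨fun v hv g => by
    have hg := g.2
    conv at hg => arg 1; rw [K.hM]
    exact (mem_normalizer_iff.1 hg v.1).1 hv⟩
  have hp : IsPGroup 2 (K.V.subgroupOf K.M) := IsPGroup.of_card (n := 3) (by
    rw [Nat.card_congr (Subgroup.subgroupOfEquivOfLe K.V_le_M).toEquiv, K.hVcard]; norm_num)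
  intro v hv
  exact ⟨⟨v, K.V_le_M hv⟩, CfsgLib.PGroup.le_pCore hn hp hv, rfl⟩

/-- The data for the analysis of the two-local subgroup. -/
theorem exists_mdata : ∃ D : MData G t, D.M = K.M ∧ D.A = K.A ∧ D.V = K.V := by
  have hA : ∀ x ∈ K.A, ∀ y ∈ K.A, x * y = y * x := by
    rintro _ ⟨x, hx, rfl⟩ _ ⟨y, hy, rfl⟩
    have : (⟨x, hx⟩ : Cfsg.pCore 2 K.M) * ⟨y, hy⟩ = ⟨y, hy⟩ * ⟨x, hx⟩ :=
      K.eOM.injective (by rw [map_mul, map_mul, mul_comm])
    exact congrArg (fun z : Cfsg.pCore 2 K.M => ((z : K.M) : G)) this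
  have hexp : ∀ x ∈ K.A, x ^ 4 = 1 := by
    rintro _ ⟨x, hx, rfl⟩
    have h0 : ∀ w : Multiplicative (ZMod 4 × ZMod 4 × ZMod 4), w ^ 4 = 1 := by decide +kernel
    have : (⟨x, hx⟩ : Cfsg.pCore 2 K.M) ^ 4 = 1 := K.eOM.injective (by rw [map_pow, map_one, h0])
    exact congrArg (fun z : Cfsg.pCore 2 K.M => ((z : K.M) : G)) this
  have hinv : Nat.card {x : G // x ∈ K.A ∧ x ^ 2 = 1} = 8 := by
    have h0 : Nat.card {w : Multiplicative (ZMod 4 × ZMod 4 × ZMod 4) // w ^ 2 = 1} = 8 := by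
      rw [Nat.card_eq_fintype_card]; decide +kernel
    rw [← h0]
    have e1 : {y : Cfsg.pCore 2 K.M // y ^ 2 = 1} ≃ {w : Multiplicative (ZMod 4 × ZMod 4 × ZMod 4) // w ^ 2 = 1} :=
      K.eOM.toEquiv.subtypeEquiv fun y =>
        ⟨fun h => show K.eOM y ^ 2 = 1 by rw [← map_pow, h, map_one],
          fun h => K.eOM.injective (by rw [map_pow, map_one]; exact h)⟩
    rw [← Nat.card_congr e1]
    symm
    refine Nat.card_congr (Equiv.ofBijective
      (fun y => ⟨((y.1 : K.M) : G), ⟨y.1.1, y.1.2, rfl⟩,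
        congrArg (fun z : Cfsg.pCore 2 K.M => ((z : K.M) : G)) y.2⟩) ⟨?_, ?_⟩)
    · intro y y' e
      have e' := congrArg Subtype.val e
      exact Subtype.ext (Subtype.ext (Subtype.ext e'))
    · rintro ⟨_, ⟨m, hm, rfl⟩, h2⟩
      exact ⟨⟨⟨m, hm⟩, Subtype.ext (Subtype.ext h2)⟩, rfl⟩
  have hMcard : Nat.card K.M = 10752 := by
    have h := (Cfsg.pCore 2 K.M).card_mul_index
    rw [Subgroup.index_eq_card, Nat.card_congr K.eM.toEquiv, Cfsg.Agent.S2553.gl_three_two.2,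
      Nat.card_congr K.eOM.toEquiv, Nat.card_eq_fintype_card] at h
    rw [← h]; rfl
  have hAM : K.A ≤ K.M := Subgroup.map_subtype_le _
  have hnorm : ∀ g ∈ K.M, ∀ x ∈ K.A, g * x * g⁻¹ ∈ K.A := by
    rintro g hg _ ⟨x, hx, rfl⟩
    exact ⟨⟨g, hg⟩ * x * ⟨g, hg⟩⁻¹, (CfsgLib.Coprime.pCore_normal' (G := K.M) 2).conj_mem x hx ⟨g, hg⟩, rfl⟩
  have htA : t ∈ K.A := K.V_le_A K.t_mem_V
  have hfaith : ∀ g ∈ K.M, (∀ x ∈ K.A, x ^ 2 = 1 → g * x = x * g) → g ∈ K.A := by
    intro g hg hfix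
    let N : Subgroup K.M := (K.M ⊓ Subgroup.centralizer {x : G | x ∈ K.A ∧ x ^ 2 = 1}).subgroupOf K.M
    have hN : N.Normal := ⟨fun n hn m => by
      refine ⟨(m * n * m⁻¹).2, mem_centralizer_iff.2 fun x hx => ?_⟩
      have hx' : m.1⁻¹ * x * m.1 ∈ K.A ∧ (m.1⁻¹ * x * m.1) ^ 2 = 1 :=
        ⟨by simpa using hnorm _ (inv_mem m.2) x hx.1, by
          have h := conj_pow (a := m.1⁻¹) (b := x) (i := 2)
          rw [inv_inv] at h
          rw [h, hx.2]; simp⟩
      have h : (m.1⁻¹ * x * m.1) * n.1 = n.1 * (m.1⁻¹ * x * m.1) := mem_centralizer_iff.1 hn.2 _ hx'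
      show x * (m.1 * n.1 * m.1⁻¹) = m.1 * n.1 * m.1⁻¹ * x
      calc x * (m.1 * n.1 * m.1⁻¹) = m.1 * ((m.1⁻¹ * x * m.1) * n.1) * m.1⁻¹ := by group
        _ = m.1 * (n.1 * (m.1⁻¹ * x * m.1)) * m.1⁻¹ := by rw [h]
        _ = _ := by group⟩
    haveI := hN
    haveI := CfsgLib.Coprime.pCore_normal' (G := K.M) 2
    haveI := Cfsg.Agent.S2553.gl_three_two.1
    set q := K.eM.toMonoidHom.comp (QuotientGroup.mk' (Cfsg.pCore 2 K.M))
    have hqs : Function.Surjective q := K.eM.surjective.comp (QuotientGroup.mk'_surjective _)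
    haveI : (N.map q).Normal := hN.map q hqs
    have hgN : (⟨g, hg⟩ : K.M) ∈ N :=
      ⟨hg, mem_centralizer_iff.2 fun x hx => (hfix x hx.1 hx.2).symm⟩
    rcases (inferInstance : (N.map q).Normal).eq_bot_or_eq_top with hb | htop
    · have h1 : q ⟨g, hg⟩ = 1 := Subgroup.mem_bot.1 (hb ▸ Subgroup.mem_map_of_mem q hgN)
      have h2 : (⟨g, hg⟩ : K.M) ∈ Cfsg.pCore 2 K.M :=
        (QuotientGroup.eq_one_iff _).1 (K.eM.injective (by rw [map_one]; exact h1))
      exact ⟨_, h2, rfl⟩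
    · exfalso
      -- then seven divides the order of `H`
      have h7 : 7 ∣ Nat.card N := by
        have h := Subgroup.card_dvd_of_surjective (q.subgroupMap N) (q.subgroupMap_surjective N)
        rw [htop, Subgroup.card_top, Cfsg.Agent.S2553.gl_three_two.2] at h
        exact dvd_trans ⟨24, by norm_num⟩ h
      have hNH : ∀ n : N, ((n : K.M) : G) ∈ K.H := fun n =>
        K.mem_H.2 (mem_centralizer_iff.1 n.2.2 t ⟨htA, by rw [pow_two]; exact K.t_sq⟩).symm
      let i : N →* K.H := MonoidHom.mk' (fun n => ⟨_, hNH n⟩) fun a b => rfl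
      have hi : Function.Injective i := fun a b e =>
        Subtype.ext (Subtype.ext (congrArg (fun z : K.H => (z : G)) e))
      have := dvd_trans h7 (Subgroup.card_dvd_of_injective i hi)
      rw [K.card_H] at this
      norm_num at this
  let D : MData G t :=
    { M := K.M, A := K.A, hAM := hAM, hnorm := hnorm, hcomm := hA, hexp := hexp, hcard := K.card_A,
      hinv := hinv, hMcard := hMcard, hfaith := hfaith, ht := htA,
      ht2 := (pow_two t).trans K.t_sq, ht1 := K.t_ne }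
  refine ⟨D, rfl, rfl, ?_⟩
  have hle : K.V ≤ D.V := fun v hv => D.mem_V.2 ⟨K.V_le_A hv, K.hVexp v hv⟩
  refine (Subgroup.eq_of_le_of_card_ge hle ?_).symm
  rw [K.hVcard, D.card_V]

end Ctx

end CfsgLib.Spor.HSType
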