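import Cfsg.Agent.Lib.Spor.HSPerm.Out
import Cfsg.Agent.Lib.Spor.HSType.EndData

/-!
# The checks on the witnesses in the Higman–Sims permutation group

An element is written as a list of numbers of tabulated elements, standing for their product. All facts
about such elements are reduced to images of the five base points.
-/

set_option autoImplicit false
set_option maxRecDepth 100000

namespace CfsgLib.Spor.HSType

open CfsgLib.Spor.HSPerm EndData

/-- The element of a list of numbers. -/
noncomputable def el (w : List ℕ) : ↥P := (w.map E).prod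

/-- The image of a point under the element of a list. -/
def elN (w : List ℕ) (b : ℕ) : ℕ := w.foldr (fun n c => look eltRows n c) b

/-- All numbers of a list are tabulated. -/
def elOK (w : List ℕ) : Bool := w.all fun n => Nat.blt n 1014

/-- A test on the base points. -/
def onBase (f g : ℕ → ℕ) : Bool := HSPerm.basePts.all fun b => Nat.beq (f b) (g b)

theorem does_el : ∀ {w : List ℕ}, elOK w = true → Does (el w) (elN w)
  | [], _ => fun i => rfl
  | n :: w, h => by
    simp only [elOK, List.all_cons, Bool.and_eq_true, Nat.blt_eq] at h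
    have := (does_E h.1).mul (does_el (w := w) h.2)
    exact fun i => by
      simp only [el, List.map_cons, List.prod_cons]
      exact this i

theorem eq_of_onBase {g h : ↥P} {f f' : ℕ → ℕ} (hg : Does g f) (hh : Does h f') (e : onBase f f' = true) :
    g = h := by
  simp only [onBase, List.all_eq_true] at e
  exact eq_of_does hg hh fun b hb => Nat.eq_of_beq_eq_true (e b hb)

/-- `k x = y k`. -/
def conjOK (k x y : List ℕ) : Bool :=
  elOK k && elOK x && elOK y && onBase (fun b => elN k (elN x b)) (fun b => elN y (elN k b))

theorem conj_of_check {k x y : List ℕ} (h : conjOK k x y = true) : el k * el x * (el k)⁻¹ = el y := by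
  simp only [conjOK, Bool.and_eq_true] at h
  obtain ⟨⟨⟨hk, hx⟩, hy⟩, he⟩ := h
  rw [mul_inv_eq_iff_eq_mul]
  exact eq_of_onBase ((does_el hk).mul (does_el hx)) ((does_el hy).mul (does_el hk)) he

theorem comm_of_check {k x : List ℕ} (h : conjOK k x x = true) : el k * el x = el x * el k := by
  have := conj_of_check h
  rwa [mul_inv_eq_iff_eq_mul] at this

/-- A list element of order dividing `n` and not trivial. -/
def ordOK (w : List ℕ) (n : ℕ) : Bool :=
  elOK w && onBase (itN (elN w) n) id && !onBase (elN w) id

theorem onBase_of_eq {g h : ↥P} {f f' : ℕ → ℕ} (hg : Does g f) (hh : Does h f') (e : g = h) :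
    onBase f f' = true := by
  simp only [onBase, List.all_eq_true]
  intro b hb
  rw [hg.congr_base hh e hb]
  exact Nat.beq_refl _

theorem order_of_check {w : List ℕ} {n : ℕ} (hn : n.Prime) (h : ordOK w n = true) : orderOf (el w) = n := by
  simp only [ordOK, Bool.and_eq_true, Bool.not_eq_true'] at h
  obtain ⟨⟨hw, hp⟩, hne⟩ := h
  haveI := Fact.mk hn
  refine orderOf_eq_prime (eq_of_onBase ((does_el hw).pow n) does_one hp) fun e => ?_
  rw [onBase_of_eq (does_el hw) does_one e] at hne
  exact Bool.noConfusion hne

/-- The `i`th element of the common centralizer. -/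
noncomputable def sE (i : ℕ) : ↥P := el (sW.getD i [])

/-- Its product table. -/
def mulI (i j : ℕ) : ℕ := (mulTab >>> (6 * (64 * i + j))) &&& 63

theorem mulI_lt (i j : ℕ) : mulI i j < 64 := Nat.lt_of_le_of_lt Nat.and_le_right (by norm_num)

theorem table_check : ((List.range 64).all fun i => elOK (sW.getD i []) && (List.range 64).all fun j =>
    onBase (fun b => elN (sW.getD i []) (elN (sW.getD j []) b)) (elN (sW.getD (mulI i j) []))) = true := by
  decide +kernel

theorem sW_ok {i : ℕ} (hi : i < 64) : elOK (sW.getD i []) = true := by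
  have h := table_check
  simp only [List.all_eq_true, List.mem_range, Bool.and_eq_true] at h
  exact (h i hi).1

theorem sE_mul {i j : ℕ} (hi : i < 64) (hj : j < 64) : sE i * sE j = sE (mulI i j) := by
  have h := table_check
  simp only [List.all_eq_true, List.mem_range, Bool.and_eq_true] at h
  exact eq_of_onBase ((does_el (sW_ok hi)).mul (does_el (sW_ok hj))) (does_el (sW_ok (mulI_lt i j))) ((h i hi).2 j hj)

/-- A key separating elements: the images of the base points. -/
def keyOf (f : ℕ → ℕ) : ℕ := HSPerm.basePts.foldl (fun acc b => 128 * acc + f b) 0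

theorem keys_check : ((List.range 64).map fun i => keyOf (elN (sW.getD i []))).Nodup ∧
    onBase (elN (sW.getD 0 [])) id = true ∧
    (conjOK tW (sW.getD 18 []) tW && conjOK uW (sW.getD 20 []) uW &&
      onBase (elN (sW.getD 18 [])) (elN tW) && onBase (elN (sW.getD 20 [])) (elN uW)) = true := by
  decide +kernel

theorem orbit_check : (orbW.all fun e => conjOK e.1 tW tW && conjOK e.1 uW e.2) = true ∧
    (orbW.map fun e => keyOf (elN e.2)).Nodup ∧ orbW.length = 120 := by
  decide +kernel

/-- The kind of an element of the common centralizer. -/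
def kind (i : ℕ) : ℕ := kinds.getD i 0

/-- Its witness. -/
def kindOK (i : ℕ) : Bool :=
  let x := sW.getD i []
  let k := kindW.getD i []
  match kind i with
  | 0 => Nat.beq i 0
  | 1 => Nat.beq i 20
  | 2 => conjOK k x (sW.getD 18 []) && conjOK k uW uW
  | 3 => conjOK k x (sW.getD (mulI 20 18) []) && conjOK k uW uW
  | 4 => ordOK k 3 && conjOK k x x && conjOK k uW uW
  | 5 => ordOK k 5 && conjOK k x x && conjOK k uW uW
  | _ => !Nat.beq (mulI i i) 0

theorem kind_check : ((List.range 64).all kindOK) = true := by decide +kernel

theorem toBig_check : (toBig.all fun e => conjOK e.2.1 (sW.getD e.1 []) (sW.getD e.2.2 []) &&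
    conjOK e.2.1 uW uW && Nat.blt e.2.2 64) = true := by
  decide +kernel

theorem extra_check : (rotW.all fun k => ordOK k 3 && conjOK k uW uW) = true ∧
    (nineW.all fun k => ordOK k 3 && conjOK k uW uW) = true ∧
    (ordOK fiveW 5 && conjOK fiveW uW uW && conjOK (nineW.getD 0 []) (nineW.getD 1 []) (nineW.getD 1 [])) = true ∧
    onBase (elN (nineW.getD 1 [])) (elN (nineW.getD 0 [])) = false ∧
    onBase (elN (nineW.getD 1 [])) (itN (elN (nineW.getD 0 [])) 2) = false := by
  decide +kernel

theorem syl_wit_check : (sylWit.all fun e => Nat.blt e.1 512 &&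
    conjOK e.2.2 [sylIdx.getD e.1 0] (if e.2.1 = 0 then tW else uW)) = true ∧
    ((List.range 512).all fun q => sylWit.any (fun e => Nat.beq e.1 q) || Nat.beq q 0 ||
      !onBase (fun b => qN q (qN q b)) id) = true := by
  decide +kernel

end CfsgLib.Spor.HSType
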