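import Cfsg.Agent.Lib.Spor.HSType.EndCheck

/-!
# Facts about the table of the common centralizer

The common centralizer of the two involutions has 64 elements; the eight cosets of its dihedral subgroup of
order eight carry the kinds of the involutions. The central involutions have numbers 20 (the second one), 18
(the first one) and their product.
-/

set_option autoImplicit false
set_option maxRecDepth 100000

namespace CfsgLib.Spor.HSType

open EndData

/-- Commuting numbers. -/
def commI (i j : ℕ) : Bool := mulI i j == mulI j i

/-- The number of elements commuting with one. -/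
def sizeI (i : ℕ) : ℕ := (List.range 64).countP (commI i)

/-- The dihedral group of order eight. -/
def cosD : List ℕ := [0, 1, 16, 17, 18, 19, 46, 47]

/-- A maximal subgroup omitting the second involution. -/
def maxU : List ℕ :=
  cosD ++ [12, 13, 42, 43, 50, 51, 54, 55] ++ [4, 5, 34, 35, 48, 49, 56, 57] ++ [8, 9, 10, 11, 60, 61, 62, 63]

/-- A maximal subgroup omitting the involutions of the fourth kind. -/
def maxFour : List ℕ :=
  cosD ++ [2, 3, 20, 21, 22, 23, 52, 53] ++ [4, 5, 34, 35, 48, 49, 56, 57] ++ [6, 7, 28, 29, 30, 31, 44, 45]

/-- A maximal subgroup omitting the involutions of the fifth kind. -/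
def maxFive : List ℕ :=
  cosD ++ [2, 3, 20, 21, 22, 23, 52, 53] ++ [12, 13, 42, 43, 50, 51, 54, 55] ++ [24, 25, 38, 39, 40, 41, 58, 59]

/-- The maximal subgroup for a kind. -/
def maxFor : ℕ → List ℕ
  | 1 => maxU
  | 4 => maxFour
  | _ => maxFive

/-- A list of numbers closed under the table, half of all, containing no number of one of the kinds. -/
def maxOK (l : List ℕ) (c : ℕ) : Bool :=
  decide l.Nodup && l.length == 32 && l.contains 0 && (l.all fun i => Nat.blt i 64 && !(kind i == c)) &&
    l.all fun i => l.all fun j => l.contains (mulI i j)

theorem max_check : maxOK maxU 1 = true ∧ maxOK maxFour 4 = true ∧ maxOK maxFive 5 = true := by decide +kernel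

theorem ident_check : ((List.range 64).all fun i => mulI i 0 == i && mulI 0 i == i) = true := by decide +kernel

theorem centre_check : ((List.range 64).all fun i => !((List.range 64).all (commI i)) ||
    [0, 20, 18, mulI 20 18].contains i) = true ∧
    ((List.range 64).all fun i => !((List.range 64).all (commI i)) || i == 0 || i == 18 ||
      (List.range 64).all fun a => (List.range 64).all fun b => !(mulI (mulI b a) i == mulI a b)) = true ∧
    ((List.range 64).any fun a => (List.range 64).any fun b => mulI (mulI b a) 18 == mulI a b) = true ∧
    ((List.range 64).all (commI 18) && (List.range 64).all (commI 20)) = true := by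
  decide +kernel

theorem kind_table : ((List.range 64).all fun i => kind i ≤ 6 && (kind i == 6 || mulI i i == 0)) = true ∧
    kind 18 = 2 ∧ kind 20 = 1 := by decide +kernel

theorem dih_check : (cosD.all fun i => parIdx.contains i) = true ∧ (parIdx.all fun i => cosD.contains i) = true ∧
    ((List.range 8).all fun p => Nat.blt (parIdx.getD p 0) 64) = true ∧
    (parIdx.all fun p => fourIdx.any fun V => V.any fun v => fourIdx.any fun V' => V'.any fun v' =>
      mulI v v' == p) = true ∧
    ((List.range 64).all fun i => cosD.all fun d => cosD.any fun d' => mulI i d == mulI d' i) = true ∧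
    fourIdx.length = 2 ∧ rotW.length = 2 ∧ (fourIdx.all fun V => V.all fun v => Nat.blt v 64) = true := by
  decide +kernel

theorem rot_check : ((List.range 2).all fun n => (fourIdx.getD n []).all fun v => v == 0 ||
    (fourIdx.getD n []).any fun w => mulI w w == 0 &&
      conjOK (rotW.getD n []) (sW.getD w []) (sW.getD (mulI v w) [])) = true := by decide +kernel

theorem outside_check : ((List.range 64).all fun i => cosD.contains i ||
      [8, 9, 10, 11, 60, 61, 62, 63, 14, 15, 26, 27, 32, 33, 36, 37].contains i ||
      (cosD.any fun d => [1, 4, 5].contains (kind (mulI i d)))) = true ∧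
    ([8, 9, 10, 11, 60, 61, 62, 63, 14, 15, 26, 27, 32, 33, 36, 37].all fun i =>
      !(mulI i i == 0) && !(cosD.contains i) && cosD.any fun d =>
        let j := mulI i d
        mulI j j == 18) = true ∧
    ([8, 9, 10, 11, 60, 61, 62, 63].all fun i => [14, 15, 26, 27, 32, 33, 36, 37].all fun j =>
      kind (mulI (mulI i j) 0) == 1 || cosD.any fun d => kind (mulI (mulI i j) d) == 1) = true ∧
    ([8, 9, 10, 11, 60, 61, 62, 63].all fun i => [8, 9, 10, 11, 60, 61, 62, 63].all fun j =>
      cosD.contains (mulI i j)) = true ∧
    ([14, 15, 26, 27, 32, 33, 36, 37].all fun i => [14, 15, 26, 27, 32, 33, 36, 37].all fun j =>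
      cosD.contains (mulI i j)) = true := by
  decide +kernel

theorem big_check : ((List.range 64).all fun i => !(kind i == 4) || toBig.any fun e => e.1 == i) = true ∧
    (toBig.all fun e => kind e.2.2 == 4 && sizeI e.2.2 == 32) = true ∧
    ((List.range 64).all fun i => !(kind i == 5) || sizeI i == 16) = true ∧
    ((List.range 64).all fun y => !(kind y == 5) || (List.range 64).all fun e => !(kind e == 2) || !(commI y e) ||
      (List.range 64).any fun j => sizeI j == 16 &&
        conjOK (kindW.getD e []) (sW.getD y []) (sW.getD j [])) = true := by
  decide +kernel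

end CfsgLib.Spor.HSType
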