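import Cfsg.Agent.Lib.Spor.HSType.Setting
import Cfsg.Agent.Lib.Fusion.Tate
import Cfsg.Agent.Lib.Invol.TransferOrder

/-!
# Fusion in the centralizer of the second involution

The involutions of the common centralizer outside its dihedral subgroup are of three kinds (the second
involution, centralizing an element of order three, centralizing an element of order five); no element of one
kind is conjugate in `Y` into a maximal subgroup omitting that kind, so each is omitted by a subgroup of
index two.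
-/

set_option autoImplicit false
set_option maxRecDepth 100000

namespace CfsgLib.Spor.HSType.Setting

open Subgroup EndData CfsgLib.Spor.HSPerm

variable {G : Type*} [Group G] (A : Setting G)

theorem kind_mark : kind 18 = 2 ∧ kind 20 = 1 := kind_table.2

theorem comm_u {k : List ℕ} (h : conjOK k uW uW = true) : el k * uE = uE * el k := comm_of_check h

theorem kind_spec {i : ℕ} (hi : i < 64) : kindOK i = true := by
  have h := kind_check
  simp only [List.all_eq_true, List.mem_range] at h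
  exact h i hi

theorem eq20_of_kind {i : ℕ} (hi : i < 64) (hk : kind i = 1) : i = 20 := by
  have h := kind_spec hi
  simp only [kindOK, hk] at h
  exact Nat.eq_of_beq_eq_true h

/-- An element of the kinds two and three is carried to the first involution or to its product with the second. -/
theorem exists_to_centre {i : ℕ} (hi : i < 64) (hk : kind i = 2 ∨ kind i = 3) :
    ∃ (k : List ℕ) (hku : el k * uE = uE * el k), kindW.getD i [] = k ∧
      A.lift (el k) hku * A.q i * (A.lift (el k) hku)⁻¹ = A.q (if kind i = 2 then 18 else mulI 20 18) := by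
  have h := kind_spec hi
  rcases hk with hk | hk <;>
  · simp only [kindOK, hk, Bool.and_eq_true] at h
    refine ⟨_, comm_u h.2, rfl, ?_⟩
    simp only [hk, if_true, if_neg (show (3 : ℕ) ≠ 2 by norm_num)]
    exact A.lift_conj h.1 _ _ _

/-- An element of order three or five centralizes each involution of the fourth or fifth kind. -/
theorem exists_odd_witness {i : ℕ} (hi : i < 64) (hk : kind i = 4 ∨ kind i = 5) :
    ∃ g : ↥A.Y, g * A.q i = A.q i * g ∧ g ≠ 1 ∧ (g ^ 3 = 1 ∨ g ^ 5 = 1) := by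
  have h := kind_spec hi
  rcases hk with hk | hk <;>
  · simp only [kindOK, hk, Bool.and_eq_true] at h
    obtain ⟨⟨ho, hc⟩, hu⟩ := h
    have hp := order_of_check (by norm_num) ho
    refine ⟨A.lift _ (comm_u hu), Subtype.ext (show A.ι _ * A.ι _ = A.ι _ * A.ι _ by
      rw [← map_mul, ← map_mul]; exact congrArg A.ι (comm_of_check hc)), fun e => ?_, ?_⟩
    · have e1 : A.ι (el (kindW.getD i [])) = 1 := congrArg Subtype.val e
      rw [A.inj (e1.trans (map_one A.ι).symm), orderOf_one] at hp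
      norm_num at hp
    · have he := pow_orderOf_eq_one (el (kindW.getD i []))
      rw [hp] at he
      first
        | (left; exact Subtype.ext (show A.ι _ ^ 3 = 1 by rw [← map_pow, he, map_one]))
        | (right; exact Subtype.ext (show A.ι _ ^ 5 = 1 by rw [← map_pow, he, map_one]))

variable [Finite G]

theorem pow_two_pow_eq_one {g : ↥A.Y} (hg : g ∈ A.S) : g ^ 64 = 1 := by
  have := pow_card_eq_one' (G := ↥A.S) (x := ⟨g, hg⟩)
  rw [A.card_S] at this
  exact congrArg Subtype.val this

/-- No involution of the fourth or fifth kind is conjugate to one centralized only by the two-group. -/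
theorem not_conj_centre {i j : ℕ} (hi : i < 64) (hk : kind i = 4 ∨ kind i = 5) (hj : j = 18 ∨ j = mulI 20 18)
    (g : ↥A.Y) : g * A.q i * g⁻¹ ≠ A.q j := by
  intro e
  obtain ⟨w, hw, hw1, hwo⟩ := A.exists_odd_witness hi hk
  have hc : g * w * g⁻¹ * A.q j = A.q j * (g * w * g⁻¹) := by
    rw [← e]
    calc g * w * g⁻¹ * (g * A.q i * g⁻¹) = g * (w * A.q i) * g⁻¹ := by group
      _ = g * (A.q i * w) * g⁻¹ := by rw [hw]
      _ = _ := by group
  have hS : g * w * g⁻¹ ∈ A.S := by
    rcases hj with rfl | rfl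
    · exact A.mem_S_of_comm hc
    · refine A.mem_S_of_comm ?_
      rw [← A.q_mul (by norm_num) (by norm_num), ← mul_assoc, A.q20_central, mul_assoc, mul_assoc (A.q 20)] at hc
      exact mul_left_cancel hc
  have h64 := A.pow_two_pow_eq_one hS
  rw [conj_pow, mul_inv_eq_one, mul_eq_left] at h64
  refine hw1 ?_
  rcases hwo with h | h
  · calc w = (w ^ 64) * ((w ^ 3) ^ 21)⁻¹ := by group
      _ = 1 := by rw [h64, h]; simp
  · calc w = ((w ^ 5) ^ 13) * (w ^ 64)⁻¹ := by group
      _ = 1 := by rw [h64, h]; simp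

theorem not_conj_of_kind {i j : ℕ} (hi : i < 64) (hk : kind i = 4 ∨ kind i = 5) (hj : j < 64)
    (hkj : kind j = 1 ∨ kind j = 2 ∨ kind j = 3) (g : ↥A.Y) : g * A.q i * g⁻¹ ≠ A.q j := by
  intro e
  rcases hkj with h | h
  · rw [eq20_of_kind hj h, mul_inv_eq_iff_eq_mul, ← A.q20_central g, mul_right_inj] at e
    have := A.q_inj hi (by norm_num) e
    rw [this, kind_mark.2] at hk
    omega
  · obtain ⟨k, hku, -, hkc⟩ := A.exists_to_centre hj h
    refine A.not_conj_centre hi hk (j := if kind j = 2 then 18 else mulI 20 18) (by split_ifs <;> simp)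
      (A.lift (el k) hku * g) ?_
    rw [← hkc, ← e]
    group

theorem max_spec {c : ℕ} (hc : c = 1 ∨ c = 4 ∨ c = 5) : maxOK (maxFor c) c = true := by
  rcases hc with rfl | rfl | rfl
  exacts [max_check.1, max_check.2.1, max_check.2.2]

theorem maxFor_lt {c : ℕ} (hc : c = 1 ∨ c = 4 ∨ c = 5) {i : ℕ} (h : i ∈ maxFor c) : i < 64 ∧ kind i ≠ c := by
  have hm := max_spec hc
  simp only [maxOK, Bool.and_eq_true, List.all_eq_true, Nat.blt_eq, Bool.not_eq_true', beq_eq_false_iff_ne] at hm
  exact hm.1.2 i h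

/-- The maximal subgroup omitting a kind. -/
noncomputable def maxGroup (c : ℕ) (hc : c = 1 ∨ c = 4 ∨ c = 5) : Subgroup ↥A.Y where
  carrier := {g | ∃ i ∈ maxFor c, A.q i = g}
  one_mem' := ⟨0, by
    have hm := max_spec hc
    simp only [maxOK, Bool.and_eq_true] at hm
    simpa using hm.1.1.2, A.q_zero⟩
  mul_mem' := by
    rintro _ _ ⟨i, hi, rfl⟩ ⟨j, hj, rfl⟩
    have hm := max_spec hc
    simp only [maxOK, Bool.and_eq_true, List.all_eq_true] at hm
    exact ⟨_, by simpa using hm.2 i hi j hj,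
      (A.q_mul (maxFor_lt hc hi).1 (maxFor_lt hc hj).1).symm⟩
  inv_mem' := by
    rintro _ ⟨i, hi, rfl⟩
    have hm := max_spec hc
    simp only [maxOK, Bool.and_eq_true, List.all_eq_true, beq_iff_eq, decide_eq_true_eq, List.contains_eq_mem] at hm
    obtain ⟨⟨⟨⟨hnd, hlen⟩, h0⟩, -⟩, hcl⟩ := hm
    have hb : Function.Bijective fun j : {x // x ∈ maxFor c} => (⟨mulI i j.1, hcl i hi j.1 j.2⟩ : {x // x ∈ maxFor c}) := by
      refine Finite.injective_iff_bijective.1 fun a b e => ?_
      have ha := (maxFor_lt hc a.2).1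
      have hb' := (maxFor_lt hc b.2).1
      have hi' := (maxFor_lt hc hi).1
      have := A.q_mul hi' ha
      rw [show mulI i a.1 = mulI i b.1 from congrArg Subtype.val e, ← A.q_mul hi' hb', mul_right_inj] at this
      exact Subtype.ext (A.q_inj ha hb' this)
    obtain ⟨j, hj⟩ := hb.2 ⟨0, h0⟩
    refine ⟨j.1, j.2, eq_inv_of_mul_eq_one_right ?_⟩
    rw [A.q_mul (maxFor_lt hc hi).1 (maxFor_lt hc j.2).1, show mulI i j.1 = 0 from congrArg Subtype.val hj, A.q_zero]

theorem maxGroup_relIndex {c : ℕ} (hc : c = 1 ∨ c = 4 ∨ c = 5) :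
    A.maxGroup c hc ≤ A.S ∧ (A.maxGroup c hc).relIndex A.S = 2 := by
  have hle : A.maxGroup c hc ≤ A.S := by
    rintro _ ⟨i, hi, rfl⟩; exact A.q_mem (maxFor_lt hc hi).1
  refine ⟨hle, ?_⟩
  have hm := max_spec hc
  simp only [maxOK, Bool.and_eq_true, decide_eq_true_eq, beq_iff_eq] at hm
  obtain ⟨⟨⟨⟨hnd, hlen⟩, -⟩, -⟩, -⟩ := hm
  have hb : Function.Bijective fun k : Fin (maxFor c).length =>
      (⟨A.q ((maxFor c).get k), _, List.get_mem _ _, rfl⟩ : ↥(A.maxGroup c hc)) := by
    refine ⟨fun a b e => ?_, ?_⟩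
    · have := A.q_inj (maxFor_lt hc (List.get_mem _ _)).1 (maxFor_lt hc (List.get_mem _ _)).1
        (congrArg Subtype.val e)
      exact List.nodup_iff_injective_get.1 hnd this
    · rintro ⟨_, i, hi, rfl⟩
      obtain ⟨k, rfl⟩ := List.get_of_mem hi
      exact ⟨k, rfl⟩
  have hcard : Nat.card ↥(A.maxGroup c hc) = 32 := by
    rw [← Nat.card_congr (Equiv.ofBijective _ hb), Nat.card_fin, hlen]
  have := Subgroup.card_mul_index ((A.maxGroup c hc).subgroupOf A.S)
  rw [Nat.card_congr (Subgroup.subgroupOfEquivOfLe hle).toEquiv, hcard, A.card_S] at this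
  show ((A.maxGroup c hc).subgroupOf A.S).index = 2
  omega

/-- A subgroup of index two omits the second involution. -/
theorem exists_omit_u : ∃ N : Subgroup ↥A.Y, N.Normal ∧ N.index = 2 ∧ A.q 20 ∉ N := by
  obtain ⟨Q, hQ⟩ := A.exists_sylow
  obtain ⟨hle, hrel⟩ := A.maxGroup_relIndex (c := 1) (Or.inl rfl)
  refine CfsgLib.Fusion.thompson_transfer Q (Q := A.maxGroup 1 (Or.inl rfl)) (hQ ▸ hle) (hQ ▸ hrel) ?_ fun g => ?_
  · rw [pow_two, A.q_mul (by norm_num) (by norm_num), show mulI 20 20 = 0 by decide +kernel, A.q_zero]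
  · rintro ⟨i, hi, e⟩
    rw [A.q20_central g, mul_inv_cancel_right] at e
    have := A.q_inj (maxFor_lt (Or.inl rfl) hi).1 (by norm_num) e
    exact (maxFor_lt (Or.inl rfl) hi).2 (this ▸ kind_mark.2)

/-- The product of the two central involutions is not conjugate to the first. -/
theorem ut_not_conj (g : ↥A.Y) : g * A.q 18 * g⁻¹ ≠ A.q (mulI 20 18) := by
  intro e
  obtain ⟨N, hN, hi, hu⟩ := A.exists_omit_u
  have ht : A.q 18 ∈ N := by
    have hc := centre_check.2.2.1
    simp only [List.any_eq_true, List.mem_range, beq_iff_eq] at hc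
    obtain ⟨a, ha, b, hb, hab⟩ := hc
    have h2 : A.q b * A.q a * A.q 18 = A.q a * A.q b := by
      rw [A.q_mul hb ha, A.q_mul (mulI_lt _ _) (by norm_num), A.q_mul ha hb, hab]
    have : A.q 18 = (A.q b * A.q a)⁻¹ * (A.q a * A.q b) := by rw [← h2, inv_mul_cancel_left]
    rw [this, Subgroup.mul_mem_iff_of_index_two hi, inv_mem_iff, Subgroup.mul_mem_iff_of_index_two hi,
      Subgroup.mul_mem_iff_of_index_two hi]
    tauto
  have h2 : A.q (mulI 20 18) ∈ N := e ▸ hN.conj_mem _ ht g
  rw [← A.q_mul (by norm_num) (by norm_num), Subgroup.mul_mem_iff_of_index_two hi] at h2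
  exact hu (h2.2 ht)

theorem size_le_card {i : ℕ} (hi : i < 64) {Q : Subgroup ↥A.Y} (hQ : Q ≤ A.S)
    (hc : ∀ g ∈ Q, g * A.q i = A.q i * g) : Nat.card ↥Q ≤ sizeI i := by
  classical
  let f : ↥Q → {j : Fin 64 // commI i j.1 = true} := fun g =>
    ⟨⟨(hQ g.2).choose, (hQ g.2).choose_spec.1⟩, (A.q_comm hi (hQ g.2).choose_spec.1).1 (by
      rw [(hQ g.2).choose_spec.2]; exact (hc g.1 g.2).symm)⟩
  have hf : Function.Injective f := fun a b e => Subtype.ext (by
    rw [← (hQ a.2).choose_spec.2, ← (hQ b.2).choose_spec.2,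
      show (hQ a.2).choose = (hQ b.2).choose from congrArg (fun z => z.1.1) e])
  refine (Nat.card_le_card_of_injective f hf).trans (le_of_eq ?_)
  rw [Nat.card_eq_fintype_card, Fintype.card_subtype, sizeI]
  rw [show (Finset.univ.filter fun j : Fin 64 => commI i j.1 = true) =
    ((Finset.range 64).filter fun j => commI i j = true).attachFin (fun j hj => by simp at hj; exact hj.1) by
      ext j; simp]
  rw [Finset.card_attachFin]
  simp [Finset.filter, Finset.range, List.countP_eq_length_filter, Multiset.range]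

/-- No involution of the fourth kind is conjugate to one of the fifth. -/
theorem not_conj_four_five {i j : ℕ} (hi : i < 64) (hki : kind i = 4) (hj : j < 64) (hkj : kind j = 5) (g : ↥A.Y) :
    g * A.q i * g⁻¹ ≠ A.q j := by
  classical
  intro e
  haveI : Fact (Nat.Prime 2) := ⟨Nat.prime_two⟩
  obtain ⟨hb1, hb2, hb3, hb4⟩ := big_check
  simp only [List.all_eq_true, List.mem_range, Bool.or_eq_true, Bool.not_eq_true', List.any_eq_true,
    beq_iff_eq, beq_eq_false_iff_ne, Bool.and_eq_true] at hb1 hb2 hb3 hb4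
  -- move to an involution with centralizer of order 32 in the common centralizer
  obtain ⟨⟨i₀, k, x⟩, hmem, rfl⟩ := (hb1 i hi).resolve_left (fun h => h hki)
  have hto := toBig_check
  simp only [List.all_eq_true, Bool.and_eq_true, Nat.blt_eq] at hto
  obtain ⟨⟨hkx, hku⟩, hx⟩ := hto _ hmem
  obtain ⟨hkindx, hsx⟩ := hb2 _ hmem
  have hkx' : A.lift (el k) (comm_u hku) * A.q i₀ * (A.lift (el k) (comm_u hku))⁻¹ = A.q x :=
    A.lift_conj hkx _ _ _
  simp only at hi hki hkindx hsx hx
  set g₁ := g * (A.lift (el k) (comm_u hku))⁻¹ with hg₁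
  have e1 : g₁ * A.q x * g₁⁻¹ = A.q j := by rw [hg₁, ← hkx', ← e]; group
  -- the centralizer of `x` in the common centralizer
  obtain ⟨QS, hQS⟩ := A.exists_sylow
  set Cx := Subgroup.centralizer ({A.q x} : Set ↥A.Y) with hCx
  set T := A.S ⊓ Cx with hT
  have hTcard : Nat.card ↥T = 32 := by
    refine le_antisymm ((A.size_le_card hx inf_le_left fun g hg => mem_centralizer_singleton_iff.1 hg.2).trans
      (le_of_eq hsx)) ?_
    let f : {z : Fin 64 // commI x z.1 = true} → ↥T := fun z =>
      ⟨A.q z.1.1, A.q_mem z.1.2, mem_centralizer_singleton_iff.2 ((A.q_comm hx z.1.2).2 z.2).symm⟩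
    have hf : Function.Injective f := fun a b e => Subtype.ext (Fin.ext (A.q_inj a.1.2 b.1.2 (congrArg Subtype.val e)))
    refine le_trans (le_of_eq ?_) (Nat.card_le_card_of_injective f hf)
    rw [Nat.card_eq_fintype_card, Fintype.card_subtype, ← hsx, sizeI]
    rw [show (Finset.univ.filter fun j : Fin 64 => commI x j.1 = true) =
      ((Finset.range 64).filter fun j => commI x j = true).attachFin (fun j hj => by simp at hj; exact hj.1) by
        ext j; simp]
    rw [Finset.card_attachFin]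
    simp [Finset.filter, Finset.range, List.countP_eq_length_filter, Multiset.range]
  have hTp : IsPGroup 2 ↥T := IsPGroup.of_card (n := 5) (by rw [hTcard]; norm_num)
  -- `T` is a Sylow subgroup of the centralizer
  have hsyl : ∀ P : Subgroup ↥A.Y, IsPGroup 2 ↥P → P ≤ Cx → Nat.card ↥P ≤ 32 := by
    intro P hP hPC
    by_contra hlt
    push_neg at hlt
    obtain ⟨R, hR⟩ := hP.exists_le_sylow
    obtain ⟨h, hh⟩ := MulAction.exists_smul_eq ↥A.Y R QS
    have hmap : ∀ p ∈ P, h * p * h⁻¹ ∈ A.S := fun p hp => by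
      rw [← hQS, ← hh, Sylow.coe_subgroup_smul]
      exact ⟨p, hR hp, rfl⟩
    have hc' : Nat.card ↥(P.map (MulAut.conj h).toMonoidHom) = 64 := by
      have h1 : Nat.card ↥(P.map (MulAut.conj h).toMonoidHom) = Nat.card ↥P :=
        Subgroup.card_map_of_injective (MulAut.conj h).injective
      have h2 : P.map (MulAut.conj h).toMonoidHom ≤ A.S := by rintro _ ⟨p, hp, rfl⟩; exact hmap p hp
      have h3 := Subgroup.card_dvd_of_le h2
      rw [A.card_S, show (64 : ℕ) = 2 ^ 6 by norm_num, Nat.dvd_prime_pow Nat.prime_two] at h3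
      obtain ⟨n, hn, hn'⟩ := h3
      have : 5 < n := (Nat.pow_lt_pow_iff_right (a := 2) (by norm_num)).1 (by rw [← hn', h1]; exact hlt)
      rw [hn', show n = 6 by omega]; norm_num
    have htop : P.map (MulAut.conj h).toMonoidHom = A.S :=
      Subgroup.eq_of_le_of_card_ge (by rintro _ ⟨p, hp, rfl⟩; exact hmap p hp) (by rw [hc', A.card_S])
    have hall : ∀ z ∈ A.S, z * (h * A.q x * h⁻¹) = (h * A.q x * h⁻¹) * z := by
      intro z hz
      rw [← htop] at hz
      obtain ⟨p, hp, rfl⟩ := hz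
      simp only [MulEquiv.coe_toMonoidHom, MulAut.conj_apply]
      have := mem_centralizer_singleton_iff.1 (hPC hp)
      calc h * p * h⁻¹ * (h * A.q x * h⁻¹) = h * (p * A.q x) * h⁻¹ := by group
        _ = h * (A.q x * p) * h⁻¹ := by rw [this]
        _ = _ := by group
    have hyS : h * A.q x * h⁻¹ ∈ A.S := A.mem_S_of_comm (hall _ (A.q_mem (by norm_num))).symm
    obtain ⟨y, hy, ey⟩ := hyS
    rcases A.central_cases hy (fun z hz => by rw [ey]; exact (hall _ (A.q_mem hz)).symm) with rfl | rfl | rfl | rfl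
    · rw [A.q_zero, eq_comm, mul_inv_eq_one, mul_eq_left, ← A.q_zero] at ey
      rw [A.q_inj hx (by norm_num) ey] at hsx
      revert hsx; decide +kernel
    · exact A.not_conj_of_kind hx (Or.inl hkindx) (by norm_num) (Or.inl kind_mark.2) h ey.symm
    · exact A.not_conj_centre hx (Or.inl hkindx) (Or.inl rfl) h ey.symm
    · exact A.not_conj_centre hx (Or.inl hkindx) (Or.inr rfl) h ey.symm
  -- a Sylow subgroup of the centralizer of `j` containing its centralizer in the common one
  set Cy := Subgroup.centralizer ({A.q j} : Set ↥A.Y) with hCy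
  have hconjC : ∀ p ∈ Cx, g₁ * p * g₁⁻¹ ∈ Cy := fun p hp => mem_centralizer_singleton_iff.2 (by
    rw [← e1]
    have := mem_centralizer_singleton_iff.1 hp
    calc g₁ * p * g₁⁻¹ * (g₁ * A.q x * g₁⁻¹) = g₁ * (p * A.q x) * g₁⁻¹ := by group
      _ = g₁ * (A.q x * p) * g₁⁻¹ := by rw [this]
      _ = _ := by group)
  set T' := T.map (MulAut.conj g₁).toMonoidHom with hT'
  have hT'le : T' ≤ Cy := by rintro _ ⟨p, hp, rfl⟩; exact hconjC p hp.2
  have hT'p : IsPGroup 2 ↥T' := hTp.map _
  have hT'card : Nat.card ↥T' = 32 := by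
    rw [hT', Subgroup.card_map_of_injective (MulAut.conj g₁).injective, hTcard]
  obtain ⟨R₁, hR₁⟩ := (show IsPGroup 2 ↥(T'.subgroupOf Cy) from
    hT'p.of_equiv (Subgroup.subgroupOfEquivOfLe hT'le).symm).exists_le_sylow
  have hEp : IsPGroup 2 ↥((A.S ⊓ Cy).subgroupOf Cy) :=
    (A.isPGroup_S.to_le inf_le_left).of_equiv (Subgroup.subgroupOfEquivOfLe inf_le_right).symm
  obtain ⟨R₂, hR₂⟩ := hEp.exists_le_sylow
  obtain ⟨c, hc⟩ := MulAction.exists_smul_eq ↥Cy R₁ R₂
  have hR₁eq : (R₁ : Subgroup ↥Cy) = T'.subgroupOf Cy := by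
    refine (Subgroup.eq_of_le_of_card_ge hR₁ ?_).symm
    rw [Nat.card_congr (Subgroup.subgroupOfEquivOfLe hT'le).toEquiv, hT'card]
    -- a Sylow subgroup of the centralizer of `j` is conjugate to one of the centralizer of `x`
    have hle := hsyl (((R₁ : Subgroup ↥Cy).map Cy.subtype).map (MulAut.conj g₁⁻¹).toMonoidHom)
      ((R₁.isPGroup'.map _).map _) (by
        rintro _ ⟨_, ⟨p, -, rfl⟩, rfl⟩
        simp only [MulEquiv.coe_toMonoidHom, MulAut.conj_apply, inv_inv, Subgroup.coe_subtype]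
        refine mem_centralizer_singleton_iff.2 ?_
        have := mem_centralizer_singleton_iff.1 p.2
        rw [← e1] at this
        calc g₁⁻¹ * p.1 * g₁ * A.q x = g₁⁻¹ * (p.1 * (g₁ * A.q x * g₁⁻¹)) * g₁ := by group
          _ = g₁⁻¹ * ((g₁ * A.q x * g₁⁻¹) * p.1) * g₁ := by rw [this]
          _ = _ := by group)
    rwa [Subgroup.card_map_of_injective (MulAut.conj g₁⁻¹).injective,
      Subgroup.card_map_of_injective Cy.subtype_injective] at hle
  set g₂ := (c : ↥A.Y) * g₁ with hg₂
  set Q := T.map (MulAut.conj g₂).toMonoidHom with hQ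
  have hEQ : A.S ⊓ Cy ≤ Q := by
    intro z hz
    have h1 : (⟨z, hz.2⟩ : ↥Cy) ∈ (R₂ : Subgroup ↥Cy) := hR₂ hz
    rw [← hc, Sylow.coe_subgroup_smul, hR₁eq] at h1
    obtain ⟨p, hp, ep⟩ := h1
    obtain ⟨p₀, hp₀, ep₀⟩ : p.1 ∈ T' := hp
    refine ⟨p₀, hp₀, ?_⟩
    have e2 : (c : ↥A.Y) * p.1 * (c : ↥A.Y)⁻¹ = z := congrArg Subtype.val ep
    rw [← e2, ← ep₀]
    simp only [MulEquiv.coe_toMonoidHom, MulAut.conj_apply, hg₂]
    group
  have hQy : ∀ z ∈ Q, z * A.q j = A.q j * z := by
    rintro _ ⟨p, hp, rfl⟩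
    have h1 := mem_centralizer_singleton_iff.1 (mul_mem (mul_mem c.2 (hconjC p hp.2)) (inv_mem c.2))
    simpa [hg₂, mul_assoc] using h1
  have hQt : ∀ z ∈ Q, z * (g₂ * A.q 18 * g₂⁻¹) = g₂ * A.q 18 * g₂⁻¹ * z := by
    rintro _ ⟨p, hp, rfl⟩
    obtain ⟨m, hm, rfl⟩ := hp.1
    simp only [MulEquiv.coe_toMonoidHom, MulAut.conj_apply]
    have hc18 := centre_check.2.2.2
    simp only [Bool.and_eq_true, List.all_eq_true, List.mem_range] at hc18
    have := (A.q_comm (by norm_num) hm).2 (hc18.1 m hm)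
    calc g₂ * A.q m * g₂⁻¹ * (g₂ * A.q 18 * g₂⁻¹) = g₂ * (A.q m * A.q 18) * g₂⁻¹ := by group
      _ = g₂ * (A.q 18 * A.q m) * g₂⁻¹ := by rw [this]
      _ = _ := by group
  -- the conjugate of the first involution
  set a := g₂ * A.q 18 * g₂⁻¹ with ha
  have haQ : a ∈ Q := ⟨A.q 18, ⟨A.q_mem (by norm_num), mem_centralizer_singleton_iff.2 (by
    have hc18 := centre_check.2.2.2
    simp only [Bool.and_eq_true, List.all_eq_true, List.mem_range] at hc18
    exact (A.q_comm (by norm_num) hx).2 (hc18.1 x hx))⟩, rfl⟩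
  have haS : a ∈ A.S := by
    refine A.mem_S_of_comm ?_
    exact (hQt _ (hEQ ⟨A.q_mem (by norm_num), mem_centralizer_singleton_iff.2 (by
      have hc18 := centre_check.2.2.2
      simp only [Bool.and_eq_true, List.all_eq_true, List.mem_range] at hc18
      exact (A.q_comm (by norm_num) hj).2 (hc18.1 j hj))⟩)).symm
  obtain ⟨m, hm, em⟩ := haS
  have hmc : commI j m = true := (A.q_comm hj hm).1 (by rw [em]; exact (hQy a haQ).symm)
  have hk7 := kind_table.1
  simp only [List.all_eq_true, List.mem_range, Bool.and_eq_true, Bool.or_eq_true, decide_eq_true_eq, beq_iff_eq] at hk7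
  have hm2 : mulI m m = 0 := A.q_inj (mulI_lt _ _) (by norm_num) (by
    rw [← A.q_mul hm hm, A.q_zero, em, ha]
    calc g₂ * A.q 18 * g₂⁻¹ * (g₂ * A.q 18 * g₂⁻¹) = g₂ * (A.q 18 * A.q 18) * g₂⁻¹ := by group
      _ = 1 := by rw [A.q_mul (by norm_num) (by norm_num), show mulI 18 18 = 0 by decide +kernel, A.q_zero]; simp)
  have hks := kind_spec hm
  rcases Nat.lt_or_ge (kind m) 6 with hlt | hge
  swap
  · have h6 : kind m = 6 := le_antisymm (hk7 m hm).1 hge
    simp [kindOK, h6, hm2] at hks
  have hcases : kind m = 0 ∨ kind m = 1 ∨ kind m = 2 ∨ kind m = 3 ∨ kind m = 4 ∨ kind m = 5 := by omega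
  rcases hcases with h | h | h | h | h
  · simp only [kindOK, h] at hks
    rw [Nat.eq_of_beq_eq_true hks, A.q_zero, ha, eq_comm, mul_inv_eq_one, mul_eq_left, ← A.q_zero] at em
    have := A.q_inj (by norm_num) (by norm_num) em
    omega
  · rw [eq20_of_kind hm h, ha, eq_mul_inv_iff_mul_eq, ← A.q20_central, mul_right_inj] at em
    have := A.q_inj (by norm_num) (by norm_num) em
    omega
  · obtain ⟨k', hk', hkw, hkc⟩ := A.exists_to_centre hm (Or.inl h)
    rw [if_pos h] at hkc
    obtain ⟨jj, hjj, hsize, hconj⟩ := ((hb4 j hj).resolve_left (fun h' => h' hkj) m hm).resolve_left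
      (fun h' => by
        rcases h' with h' | h'
        · exact h' h
        · rw [hmc] at h'; exact Bool.noConfusion h')
    rw [hkw] at hconj
    set K := A.lift (el k') hk' with hK
    have hkj' : K * A.q j * K⁻¹ = A.q jj := A.lift_conj hconj _ _ _
    set Q' := Q.map (MulAut.conj K).toMonoidHom with hQ'
    have hQ'S : Q' ≤ A.S := by
      rintro _ ⟨z, hz, rfl⟩
      refine A.mem_S_of_comm ?_
      simp only [MulEquiv.coe_toMonoidHom, MulAut.conj_apply]
      rw [← hkc, em]
      calc K * z * K⁻¹ * (K * a * K⁻¹) = K * (z * a) * K⁻¹ := by group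
        _ = K * (a * z) * K⁻¹ := by rw [hQt z hz]
        _ = _ := by group
    have hle := A.size_le_card hjj hQ'S (by
      rintro _ ⟨z, hz, rfl⟩
      simp only [MulEquiv.coe_toMonoidHom, MulAut.conj_apply]
      rw [← hkj']
      calc K * z * K⁻¹ * (K * A.q j * K⁻¹) = K * (z * A.q j) * K⁻¹ := by group
        _ = K * (A.q j * z) * K⁻¹ := by rw [hQy z hz]
        _ = _ := by group)
    rw [hQ', Subgroup.card_map_of_injective (MulAut.conj K).injective, hQ,
      Subgroup.card_map_of_injective (MulAut.conj g₂).injective, hTcard, hsize] at hle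
    omega
  · obtain ⟨k', hk', -, hkc⟩ := A.exists_to_centre hm (Or.inr h)
    rw [if_neg (by omega)] at hkc
    refine A.ut_not_conj (A.lift (el k') hk' * g₂) ?_
    rw [← hkc, em, ha]
    group
  · refine A.not_conj_centre hm h (Or.inl rfl) g₂⁻¹ ?_
    rw [em, ha]
    group

/-- Each involution of the first, fourth or fifth kind is omitted by a subgroup of index two. -/
theorem exists_omit {i : ℕ} (hi : i < 64) (hk : kind i = 1 ∨ kind i = 4 ∨ kind i = 5) :
    ∃ N : Subgroup ↥A.Y, N.Normal ∧ N.index = 2 ∧ A.q i ∉ N := by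
  obtain ⟨Q, hQ⟩ := A.exists_sylow
  obtain ⟨hle, hrel⟩ := A.maxGroup_relIndex (c := kind i) hk
  have hk7 := kind_table.1
  simp only [List.all_eq_true, List.mem_range, Bool.and_eq_true, Bool.or_eq_true, decide_eq_true_eq, beq_iff_eq] at hk7
  have h2 : mulI i i = 0 := (hk7 i hi).2.resolve_left (by omega)
  refine CfsgLib.Fusion.thompson_transfer Q (Q := A.maxGroup (kind i) hk) (hQ ▸ hle) (hQ ▸ hrel) ?_ fun g => ?_
  · rw [pow_two, A.q_mul hi hi, h2, A.q_zero]
  · rintro ⟨j, hj, e⟩
    obtain ⟨hj64, hne⟩ := maxFor_lt hk hj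
    have hkk := (hk7 j hj64).1
    have hks := kind_spec hj64
    have hj2 : mulI j j = 0 := A.q_inj (mulI_lt _ _) (by norm_num) (by
      rw [← A.q_mul hj64 hj64, e, A.q_zero]
      calc g * A.q i * g⁻¹ * (g * A.q i * g⁻¹) = g * (A.q i * A.q i) * g⁻¹ := by group
        _ = 1 := by rw [A.q_mul hi hi, h2, A.q_zero]; simp)
    rcases hk with hk1 | hk1
    · rw [eq20_of_kind hi hk1, A.q20_central, mul_inv_cancel_right] at e
      have := A.q_inj hj64 (by norm_num) e
      rw [this, kind_mark.2, hk1] at hne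
      exact hne rfl
    · have h06 : kind j = 1 ∨ kind j = 2 ∨ kind j = 3 ∨ kind j = 4 ∨ kind j = 5 := by
        rcases Nat.eq_zero_or_pos (kind j) with h0 | h0
        · simp only [kindOK, h0] at hks
          rw [Nat.eq_of_beq_eq_true hks, A.q_zero, eq_comm, mul_inv_eq_one, mul_eq_left, ← A.q_zero] at e
          have h := A.q_inj hi (by norm_num) e
          rw [h] at hk1
          exfalso; revert hk1; decide +kernel
        · by_contra hc
          have h6 : kind j = 6 := by omega
          simp [kindOK, h6, hj2] at hks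
      rcases h06 with h | h | h | h | h
      · exact A.not_conj_of_kind hi hk1 hj64 (Or.inl h) g e.symm
      · exact A.not_conj_of_kind hi hk1 hj64 (Or.inr (Or.inl h)) g e.symm
      · exact A.not_conj_of_kind hi hk1 hj64 (Or.inr (Or.inr h)) g e.symm
      · have h5 : kind i = 5 := by omega
        exact A.not_conj_four_five hj64 h hi h5 g⁻¹ (by rw [e]; group)
      · have h4 : kind i = 4 := by omega
        exact A.not_conj_four_five hi h4 hj64 h g e.symm

end CfsgLib.Spor.HSType.Setting
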