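import Mathlib.GroupTheory.Perm.Basic
import Mathlib.Data.Fintype.Perm

/-!
# A check in the symmetric group of degree five

Given an element of order three, an involution inverting it and a further involution in the position of `z₁`, an
involution centralizing the first two has product with the third whose cube is as required.
-/

set_option autoImplicit false
set_option maxRecDepth 100000

namespace CfsgLib.Spor.HSType

theorem s5_check : ∀ β : Equiv.Perm (Fin 5), β * β * β = 1 → β ≠ 1 →
    ∀ γ : Equiv.Perm (Fin 5), γ * γ = 1 → γ * β * γ = β⁻¹ →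
    ∀ ζ : Equiv.Perm (Fin 5), ζ * ζ = 1 → ζ * (β * ζ * β⁻¹) = β * ζ * β⁻¹ * ζ → β * ζ * β⁻¹ ≠ ζ →
      γ * ζ * γ = β * ζ * β⁻¹ →
    ∃ η : Equiv.Perm (Fin 5), η * η = 1 ∧ η ≠ 1 ∧ η * β = β * η ∧ η * γ = γ * η ∧
      ∃ i : Fin 3, η * ζ * (η * ζ) * (η * ζ) = γ * β ^ i.val := by
  decide +kernel

end CfsgLib.Spor.HSType
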