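import Cfsg.Agent.Lib.Spor.HSType.LocalR
import Cfsg.Agent.Lib.Spor.HSType.S5Check

/-!
# The element `h` of the centralizer and its action on the core

There is an element `h` of `H` commuting with `b` with image a transposition in `H/R`; its action on the core is
one of three, and in particular the parameter of the core is zero.
-/

set_option autoImplicit false
set_option maxRecDepth 100000

namespace CfsgLib.Spor.HSType

namespace Frame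

variable {G : Type*} [Group G] [Finite G] {t : G} {K : Ctx G t} (W : Frame K)

theorem pow_z {n : ℕ} : W.F.z ^ n = W.F.vec ((n : ZMod 4), 0, 0) := by
  simp only [Gens.vec, ZMod.val_natCast, ZMod.val_zero, pow_zero, mul_one]
  exact pow_eq_pow_mod n W.F.z4

theorem z_inv : W.F.z⁻¹ = W.F.z ^ 3 := inv_eq_of_mul_eq_one_right (by rw [← pow_succ']; exact W.F.z4)

variable (hk : (W.F.a * W.F.c) ^ 3 = 1)
include hk

theorem mu_zpw (k : ℕ) : W.F.mu (R4.zpw (k : ZMod 4)) = W.F.z ^ k := by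
  rw [R4.zpw, W.F.mu_vec, W.pow_z]

variable {α : V4} (hα : W.F.mu (R4.lift α) ∈ K.R)
include hα

omit hk hα in
theorem eH_eq_one {g : K.H} : K.eH (QuotientGroup.mk g) = 1 ↔ (g : G) ∈ K.R := by
  rw [EmbeddingLike.map_eq_one_iff, QuotientGroup.eq_one_iff]
  refine ⟨fun h => ?_, fun h => ?_⟩
  · rw [K.hR]; exact ⟨g, h, rfl⟩
  · rw [K.hR] at h
    obtain ⟨g', hg', e⟩ := h
    rwa [← Subtype.ext (a1 := g') (a2 := g) e]

/-- An element commuting with `b` in the core is a power of `z`. -/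
theorem fixed_pow (hα' : α = (0, 0, 0) ∨ α = (0, 0, 1)) {r : G} (hr : r ∈ K.R)
    (hb : W.F.b * r = r * W.F.b) : ∃ n : ℕ, r = W.F.z ^ n := by
  obtain ⟨x, hx, rfl⟩ := W.exists_mu hk hα hr
  have hcb : R4.cb x = x := W.F.mu_inj W.hc hk (by
    rw [← W.F.mu_cb W.hc hk, hb, mul_inv_cancel_right])
  have hx' : R4.inR (0, 0, 0) x = true ∨ R4.inR (0, 0, 1) x = true := by
    rcases hα' with h | h <;> rw [← h]
    · exact Or.inl hx
    · exact Or.inr hx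
  rcases R4.fixed_b x hx' hcb with rfl | rfl | rfl | rfl
  · exact ⟨0, W.mu_zpw hk 0⟩
  · exact ⟨1, (W.mu_zpw hk 1).trans rfl⟩
  · exact ⟨2, W.mu_zpw hk 2⟩
  · exact ⟨3, W.mu_zpw hk 3⟩

/-- An element of order three in the coset of `b` is conjugate to `b` under the core. -/
theorem coset_conj (hα' : α = (0, 0, 0) ∨ α = (0, 0, 1)) {x : G} (hx : W.F.b⁻¹ * x ∈ K.R) (h3 : x ^ 3 = 1) :
    ∃ r ∈ K.R, x = r * W.F.b * r⁻¹ := by
  obtain ⟨y, hy, hye⟩ := W.exists_mu hk hα hx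
  have hmul := W.F.mu_mul W.hc hk
  have hcb := W.F.mu_cb W.hc hk
  have hy3 : R4.mul (R4.mul (R4.cb y) (R4.cb (R4.cb y))) y = R4.one := by
    refine W.F.mu_inj W.hc hk ?_
    rw [hmul, hmul, ← hcb, ← hcb, ← hcb, hye, R4.one, W.F.mu_one]
    have hb : ∀ q : G, q * (W.F.b * W.F.b * W.F.b) = q := fun q => by
      rw [show W.F.b * W.F.b * W.F.b = W.F.b ^ 3 by simp [pow_succ], W.F.b3, mul_one]
    calc W.F.b * (W.F.b⁻¹ * x) * W.F.b⁻¹ * (W.F.b * (W.F.b * (W.F.b⁻¹ * x) * W.F.b⁻¹) * W.F.b⁻¹) * (W.F.b⁻¹ * x)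
        = x * x * (W.F.b * W.F.b * W.F.b)⁻¹ * x := by group
      _ = 1 := by
        rw [show W.F.b * W.F.b * W.F.b = W.F.b ^ 3 by simp [pow_succ], W.F.b3, inv_one, mul_one, ← h3]
        simp [pow_succ]
  obtain ⟨r, hr, hre⟩ : ∃ r ∈ R4.coreList α, y = R4.mul (R4.cb (R4.cb r)) (R4.inv r) := by
    have hmem : ∃ y' ∈ R4.coreList α, y' = y := by
      rcases hα' with rfl | rfl
      · simpa using (R4.mem_coreList y).1 hy
      · simpa using (R4.mem_coreList y).2 hy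
    obtain ⟨y', hy', rfl⟩ := hmem
    have hchk : R4.cubeConjOK α = true := by
      rcases hα' with rfl | rfl
      exacts [R4.cube_conj.1, R4.cube_conj.2]
    simp only [R4.cubeConjOK, List.all_eq_true, Bool.or_eq_true, Bool.not_eq_true', List.any_eq_true,
      beq_iff_eq] at hchk
    rcases hchk _ hy' with h | ⟨r, hr, he⟩
    · rw [hy3] at h; simp at h
    · exact ⟨r, hr, he⟩
  have hrR : W.F.mu r ∈ K.R := by
    have key : ∀ α : V4, α = (0, 0, 0) ∨ α = (0, 0, 1) → ∀ r ∈ R4.coreList α, R4.inR α r = true := by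
      rintro α (rfl | rfl) <;> decide +kernel
    exact (W.mu_R hk hα r).2 (key α hα' r hr)
  refine ⟨W.F.mu r, hrR, ?_⟩
  rw [hre, hmul, W.F.mu_inv W.hc hk, ← hcb, ← hcb] at hye
  have hb2 : W.F.b * W.F.b = W.F.b⁻¹ :=
    eq_inv_of_mul_eq_one_left (by rw [← W.F.b3]; simp [pow_succ])
  calc x = W.F.b * (W.F.b⁻¹ * x) := by group
    _ = W.F.b * ((W.F.b * W.F.b) * W.F.mu r * (W.F.b * W.F.b)⁻¹ * (W.F.mu r)⁻¹) := by
        rw [← hye]; group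
    _ = _ := by rw [hb2]; group

omit hk hα in
theorem b_not_R : W.F.b ∉ K.R := by
  intro h
  obtain ⟨k, hk⟩ := K.isPGroup_R ⟨W.F.b, h⟩
  have hk' : W.F.b ^ 2 ^ k = 1 := congrArg Subtype.val hk
  have hcop : Nat.gcd (2 ^ k) 3 = 1 := Nat.Coprime.pow_left _ (by norm_num)
  have h1 : W.F.b = 1 := by
    have := (pow_gcd_eq_one (a := W.F.b) (m := 2 ^ k) (n := 3)).2 ⟨hk', W.F.b3⟩
    rwa [hcop, pow_one] at this
  have := W.F.b_vec (0, 1, 0)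
  rw [h1, one_mul, inv_one, mul_one] at this
  exact absurd (W.F.inj this) (by decide)

theorem exists_eta (hα' : α = (0, 0, 0) ∨ α = (0, 0, 1)) :
    ∃ h : G, h ∈ K.H ∧ h ∉ K.R ∧ h * W.F.b = W.F.b * h ∧ (∃ n : ℕ, h * h = W.F.z ^ n) ∧
      (∃ n : ℕ, h * W.F.c * h⁻¹ * W.F.c⁻¹ = W.F.z ^ n) ∧
      ∃ i : Fin 3, ∃ r ∈ K.R, (h * W.F.z1) ^ 3 = W.F.c * W.F.b ^ i.val * r := by
  let π : K.H →* Equiv.Perm (Fin 5) := K.eH.toMonoidHom.comp (QuotientGroup.mk' _)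
  have hπ : ∀ g : K.H, π g = 1 ↔ (g : G) ∈ K.R := fun g => eH_eq_one
  have hπs : Function.Surjective π := K.eH.surjective.comp (QuotientGroup.mk'_surjective _)
  have hπeq : ∀ g g' : K.H, π g = π g' ↔ (g'.1)⁻¹ * g.1 ∈ K.R := fun g g' => by
    rw [show (g'.1)⁻¹ * g.1 = ((g'⁻¹ * g : K.H) : G) from rfl, ← hπ, map_mul, map_inv, inv_mul_eq_one]
    exact eq_comm
  have hz1 : W.F.z1 ∈ K.H := by rw [← W.F.vec_unit.2.1]; exact W.vec_mem _
  set β' : K.H := ⟨W.F.b, W.b_mem⟩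
  set γ' : K.H := ⟨W.F.c, W.c_mem⟩
  set ζ' : K.H := ⟨W.F.z1, hz1⟩
  have hci : W.F.c⁻¹ = W.F.c := inv_eq_of_mul_eq_one_right W.hc
  have e1 : π β' * π β' * π β' = 1 := by
    rw [← map_mul, ← map_mul, show β' * β' * β' = 1 from Subtype.ext (by
      show W.F.b * W.F.b * W.F.b = 1
      rw [← W.F.b3]; simp [pow_succ]), map_one]
  have e2 : π β' ≠ 1 := fun h => W.b_not_R ((hπ _).1 h)
  have e3 : π γ' * π γ' = 1 := by
    rw [← map_mul, show γ' * γ' = 1 from Subtype.ext W.hc, map_one]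
  have e4 : π γ' * π β' * π γ' = (π β')⁻¹ := by
    rw [← map_inv, ← map_mul, ← map_mul]
    exact congrArg π (Subtype.ext (by
      show W.F.c * W.F.b * W.F.c = W.F.b⁻¹
      rw [← W.F.cbc, hci]))
  have e5 : π ζ' * π ζ' = 1 := by
    rw [← map_mul, hπ]
    show W.F.z1 * W.F.z1 ∈ K.R
    rw [← W.F.vec_unit.2.1, ← W.F.vec_add, W.vec_R]
    decide
  have e6 : π ζ' * (π β' * π ζ' * (π β')⁻¹) = π β' * π ζ' * (π β')⁻¹ * π ζ' := by
    rw [← map_inv, ← map_mul, ← map_mul, ← map_mul, ← map_mul]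
    exact congrArg π (Subtype.ext (by
      show W.F.z1 * (W.F.b * W.F.z1 * W.F.b⁻¹) = W.F.b * W.F.z1 * W.F.b⁻¹ * W.F.z1
      rw [W.F.b_z1]
      exact W.F.c12))
  have e7 : π β' * π ζ' * (π β')⁻¹ ≠ π ζ' := by
    rw [← map_inv, ← map_mul, ← map_mul, ne_eq, hπeq]
    show ¬(W.F.z1⁻¹ * (W.F.b * W.F.z1 * W.F.b⁻¹) ∈ K.R)
    rw [W.F.b_z1, show W.F.z1⁻¹ = W.F.vec (0, 3, 0) from inv_eq_of_mul_eq_one_right (by
      rw [← W.F.vec_unit.2.1, ← W.F.vec_add]; exact W.F.vec_zero), ← W.F.vec_unit.2.2, ← W.F.vec_add, W.vec_R]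
    decide
  have e8 : π γ' * π ζ' * π γ' = π β' * π ζ' * (π β')⁻¹ := by
    rw [← map_inv, ← map_mul, ← map_mul, ← map_mul, ← map_mul]
    exact congrArg π (Subtype.ext (by
      show W.F.c * W.F.z1 * W.F.c = W.F.b * W.F.z1 * W.F.b⁻¹
      have h : W.F.c * W.F.z1 * W.F.c⁻¹ = W.F.z2 := W.F.cz1
      rw [W.F.b_z1, ← h, hci]))
  obtain ⟨η, hη2, hη1, hηβ, hηγ, i, hi⟩ := s5_check _ e1 e2 _ e3 e4 _ e5 e6 e7 e8
  obtain ⟨h0, hh0⟩ := hπs η
  have hx : W.F.b⁻¹ * (h0.1 * W.F.b * h0.1⁻¹) ∈ K.R := by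
    refine (hπeq (h0 * β' * h0⁻¹) β').1 ?_
    rw [map_mul, map_mul, map_inv, hh0, hηβ, mul_inv_cancel_right]
  obtain ⟨r, hr, hre⟩ := W.coset_conj hk hα hα' hx (by
    rw [conj_pow, W.F.b3, mul_one, mul_inv_cancel])
  set h : K.H := ⟨r, K.R_le_H hr⟩⁻¹ * h0
  have hh : π h = η := by
    rw [map_mul, map_inv, (hπ ⟨r, K.R_le_H hr⟩).2 hr, inv_one, one_mul, hh0]
  have hhb : h.1 * W.F.b = W.F.b * h.1 := by
    show r⁻¹ * h0.1 * W.F.b = W.F.b * (r⁻¹ * h0.1)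
    calc r⁻¹ * h0.1 * W.F.b = r⁻¹ * (h0.1 * W.F.b * h0.1⁻¹) * h0.1 := by group
      _ = _ := by rw [hre]; group
  have hsq : h.1 * h.1 ∈ K.R := (hπ (h * h)).1 (by rw [map_mul, hh, hη2])
  have hhc : h.1 * W.F.c * h.1⁻¹ * W.F.c⁻¹ ∈ K.R :=
    (hπ (h * γ' * h⁻¹ * γ'⁻¹)).1 (by
      rw [map_mul, map_mul, map_mul, map_inv, map_inv, hh, hηγ, mul_inv_cancel_right, mul_inv_cancel])
  refine ⟨h.1, h.2, fun hR => hη1 (by rw [← hh, hπ]; exact hR), hhb,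
    W.fixed_pow hk hα hα' hsq ?_, W.fixed_pow hk hα hα' hhc ?_, i,
    ((γ' * β' ^ i.val : K.H) : G)⁻¹ * ((h * ζ' * (h * ζ') * (h * ζ') : K.H) : G), ?_, ?_⟩
  · rw [← mul_assoc, ← hhb, mul_assoc, ← hhb, ← mul_assoc]
  · have e1 : h.1⁻¹ * W.F.b⁻¹ * h.1 = W.F.b⁻¹ := by
      calc h.1⁻¹ * W.F.b⁻¹ * h.1 = h.1⁻¹ * (W.F.b⁻¹ * (h.1 * W.F.b)) * W.F.b⁻¹ := by group
        _ = _ := by rw [hhb]; group
    have e2 : W.F.c⁻¹ * W.F.b * W.F.c = W.F.b⁻¹ := by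
      rw [← W.F.cbc, hci]
    have e3 : W.F.c * W.F.b⁻¹ * W.F.c⁻¹ = W.F.b := by
      calc W.F.c * W.F.b⁻¹ * W.F.c⁻¹ = (W.F.c * W.F.b * W.F.c⁻¹)⁻¹ := by group
        _ = W.F.b := by rw [W.F.cbc, inv_inv]
    have e4 : h.1 * W.F.b * h.1⁻¹ = W.F.b := by rw [hhb, mul_inv_cancel_right]
    refine (mul_inv_eq_iff_eq_mul.1 ?_).symm
    calc h.1 * W.F.c * h.1⁻¹ * W.F.c⁻¹ * W.F.b * (h.1 * W.F.c * h.1⁻¹ * W.F.c⁻¹)⁻¹ =
        h.1 * (W.F.c * (h.1⁻¹ * (W.F.c⁻¹ * W.F.b * W.F.c) * h.1) * W.F.c⁻¹) * h.1⁻¹ := by group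
      _ = W.F.b := by rw [e2, e1, e3, e4]
  · exact (hπeq (h * ζ' * (h * ζ') * (h * ζ')) (γ' * β' ^ i.val)).1 (by
      simp only [map_mul, map_pow, hh, hi])
  · simp only [pow_succ, pow_zero, one_mul]
    show _ = W.F.c * W.F.b ^ i.val * _
    simp only [Subgroup.coe_mul, SubmonoidClass.coe_pow, β', γ', ζ']
    group

end Frame

end CfsgLib.Spor.HSType
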