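import Cfsg.Agent.Lib.Spor.HSType.LocalH

/-!
# The action of `h` on the core

The search leaves three possibilities, all with parameter zero and with `h` inverting `z`.
-/

set_option autoImplicit false
set_option maxRecDepth 100000

namespace CfsgLib.Spor.HSType

/-- An element `h` of the centralizer with its relations, for one of the three actions on the core. -/
structure HElt {G : Type*} [Group G] {t : G} {K : Ctx G t} (W : Frame K) (v₁ r₁ x₀ : R4) (h : G) : Prop where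
  hH : h * t = t * h
  hb : h * W.F.b = W.F.b * h
  hz : h * W.F.z * h⁻¹ = W.F.z⁻¹
  hh : h * h = 1 ∨ h * h = W.F.z ^ 2
  hhc : ∃ n < 4, h * W.F.c * (h * W.F.c) = W.F.z ^ n
  hv : h * W.F.mu R4.v0 * h⁻¹ = W.F.mu v₁
  hs : h * W.F.s * h⁻¹ = W.F.mu r₁
  cube : (h * W.F.z1) ^ 3 = W.F.c * W.F.b * W.F.mu x₀

namespace Frame

variable {G : Type*} [Group G] [Finite G] {t : G} {K : Ctx G t} (W : Frame K)
variable (hk : (W.F.a * W.F.c) ^ 3 = 1)
include hk

theorem z1_conj_H : W.F.z1 ∈ K.H := by rw [← W.F.vec_unit.2.1]; exact W.vec_mem _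

/-- The element `h` with one of the three actions and normalised cube. -/
theorem exists_helt : ∃ h, ∃ q ∈ R4.survivors, HElt W q.1 q.2.1 q.2.2 h := by
  obtain ⟨α, hα', hα⟩ := W.exists_alpha hk
  obtain ⟨h, hH, -, hb, ⟨n₂, hh⟩, ⟨n₃, hhc⟩, i, r, hr, hcube⟩ := W.exists_eta hk hα hα'
  have hmul := W.F.mu_mul W.hc hk
  have hinv := W.F.mu_inv W.hc hk
  have hcb := W.F.mu_cb W.hc hk
  have hcc := W.F.mu_cc W.hc hk
  have hz1 := W.F.mu_cz1 W.hc hk
  have hinj := W.F.mu_inj W.hc hk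
  have hmu : ∀ x, W.F.mu x ∈ K.R ↔ R4.inR α x = true := W.mu_R hk hα
  have hconj : ∀ x, R4.inR α x = true → h * W.F.mu x * h⁻¹ ∈ K.R := fun x hx => conj_R hH ((hmu x).2 hx)
  -- the image of `z`
  have hzc : h * W.F.z * h⁻¹ ∈ K.Cy := K.center_R (conj_R hH W.z_R) fun y hy => by
    have hh' := W.z_comm (show h⁻¹ * y * h ∈ K.R by
      have := conj_R (inv_mem hH) hy
      rwa [inv_inv] at this)
    calc h * W.F.z * h⁻¹ * y = h * (W.F.z * (h⁻¹ * y * h)) * h⁻¹ := by group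
      _ = _ := by rw [hh']; group
  have hzt : h * W.F.z ^ 2 * h⁻¹ = W.F.z ^ 2 := by
    rw [W.F.hz]; exact mul_inv_eq_iff_eq_mul.2 (K.mem_H.1 hH)
  obtain ⟨flip, hflip⟩ : ∃ fl : Bool, ∀ e : ZMod 4,
      h * W.F.mu (R4.zpw e) * h⁻¹ = W.F.mu (R4.zpw (cond fl (-e) e)) := by
    have hpow : ∀ e : ZMod 4, W.F.mu (R4.zpw e) = W.F.z ^ e.val := fun e => by
      rw [← W.mu_zpw hk, ZMod.natCast_zmod_val]
    have hcase : h * W.F.z * h⁻¹ = W.F.z ∨ h * W.F.z * h⁻¹ = W.F.z ^ 3 := by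
      obtain ⟨n, hn, e⟩ := W.Cy_pow hzc
      have h2 : W.F.z ^ (2 * n) = W.F.z ^ 2 := by
        rw [mul_comm, pow_mul, ← e, conj_pow, hzt]
      have h1 : W.F.z ^ 2 ≠ 1 := by rw [W.F.hz]; exact K.t_ne
      interval_cases n
      · simp only [pow_zero, mul_zero] at h2; exact absurd h2.symm h1
      · left; simpa using e
      · rw [show 2 * 2 = 4 from rfl, W.F.z4] at h2; exact absurd h2.symm h1
      · right; exact e
    rcases hcase with e | e
    · refine ⟨false, fun k => ?_⟩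
      rw [hpow, cond_false, hpow, ← conj_pow, e]
    · refine ⟨true, fun k => ?_⟩
      rw [hpow, cond_true, hpow, ← conj_pow, e, ← pow_mul]
      have key : ∀ k : ZMod 4, (3 * k.val) % 4 = (-k).val := by decide +kernel
      rw [← key]
      exact pow_eq_pow_mod _ W.F.z4
  -- the images of the two generators
  have hv0 : R4.inR α R4.v0 = true := by
    rw [← hmu, R4.v0, W.F.mu_vec, W.vec_R]; decide
  have hlift : R4.inR α (R4.lift α) = true := (hmu _).1 hα
  obtain ⟨v₁, hv1, hv1e⟩ := W.exists_mu hk hα (hconj _ hv0)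
  obtain ⟨r₁, hr1, hr1e⟩ := W.exists_mu hk hα (hconj _ hlift)
  obtain ⟨x, hx, hxe⟩ := W.exists_mu hk hα hr
  have hbh : ∀ g : G, h * (W.F.b * g * W.F.b⁻¹) * h⁻¹ = W.F.b * (h * g * h⁻¹) * W.F.b⁻¹ := by
    intro g
    calc h * (W.F.b * g * W.F.b⁻¹) * h⁻¹ = (h * W.F.b) * g * (h * W.F.b)⁻¹ := by group
      _ = _ := by rw [hb]; group
  -- `phi` computes the conjugation
  have hphi : ∀ y, R4.inR α y = true → W.F.mu (R4.phi α flip v₁ r₁ y) = h * W.F.mu y * h⁻¹ := by
    intro y hy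
    have he := hy
    simp only [R4.inR] at he
    have hsplit : ∀ e : V4, evV e = true → W.F.vec e = W.F.mu (R4.zpw e.1) *
        W.F.mu (cond (e.2.1 == 2) R4.v0 R4.one) * W.F.mu (cond (e.2.2 == 2) (R4.cb R4.v0) R4.one) := by
      have key : ∀ e : V4, evV e = true → R4.mul (R4.mul (R4.zpw e.1) (cond (e.2.1 == 2) R4.v0 R4.one))
          (cond (e.2.2 == 2) (R4.cb R4.v0) R4.one) = (e, false, false) := by decide +kernel
      intro e he
      rw [← hmul, ← hmul, key e he, W.F.mu_vec]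
    have hcond : ∀ (p : Bool) (g g' : R4), h * W.F.mu g * h⁻¹ = W.F.mu g' →
        h * W.F.mu (cond p g R4.one) * h⁻¹ = W.F.mu (cond p g' R4.one) := by
      intro p g g' hg
      cases p
      · simp [R4.one, W.F.mu_one]
      · exact hg
    have hoff : W.F.mu (R4.off α y.2) = W.F.mu (cond y.2.1 (R4.lift α) R4.one) *
        W.F.mu (cond y.2.2 (R4.cb (R4.lift α)) R4.one) := by rw [R4.off, hmul]
    have e : W.F.mu y = W.F.mu (R4.zpw (y.1 - (R4.off α y.2).1).1) *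
        W.F.mu (cond ((y.1 - (R4.off α y.2).1).2.1 == 2) R4.v0 R4.one) *
        W.F.mu (cond ((y.1 - (R4.off α y.2).1).2.2 == 2) (R4.cb R4.v0) R4.one) *
        W.F.mu (cond y.2.1 (R4.lift α) R4.one) * W.F.mu (cond y.2.2 (R4.cb (R4.lift α)) R4.one) := by
      rw [W.mu_split hk hα y, hsplit _ he, hoff]; simp only [mul_assoc]
    rw [R4.phi, hmul, hmul, hmul, hmul, ← hflip, ← hcond _ _ _ hv1e.symm,
      ← hcond _ (R4.cb R4.v0) (R4.cb v₁) (by rw [← hcb, ← hcb, hbh, hv1e]),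
      ← hcond _ _ _ hr1e.symm, ← hcond _ (R4.cb (R4.lift α)) (R4.cb r₁) (by rw [← hcb, ← hcb, hbh, hr1e]), e]
    group
  have hphiR : ∀ y, R4.inR α y = true → R4.inR α (R4.phi α flip v₁ r₁ y) = true := fun y hy => by
    rw [← hmu, hphi y hy]; exact hconj y hy
  have hgens : ∀ g ∈ R4.gens α, R4.inR α g = true := by
    intro g hg
    simp only [R4.gens, List.mem_cons, List.not_mem_nil, or_false] at hg
    rcases hg with rfl | rfl | rfl | rfl | rfl
    · exact hv0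
    · exact hlift
    · rw [← hmu, show R4.zpw 1 = R4.zpw ((1 : ℕ) : ZMod 4) from rfl, W.mu_zpw hk, pow_one]; exact W.z_R
    · rw [← hmu, ← hcb]; exact conj_R W.b_mem ((hmu _).2 hv0)
    · rw [← hmu, ← hcb]; exact conj_R W.b_mem hα
  have hzn : ∀ (n : ℕ) (g : G), g ∈ K.R → W.F.z ^ n * g * (W.F.z ^ n)⁻¹ = g := fun n g hg => by
    rw [((show Commute W.F.z g from W.z_comm hg).pow_left n).eq, mul_inv_cancel_right]
  have hok : R4.phiOK α flip v₁ r₁ = true := by
    simp only [R4.phiOK, Bool.and_eq_true, beq_iff_eq, List.all_eq_true]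
    refine ⟨⟨hinj ?_, hinj ?_⟩, fun g hg => ⟨hinj ?_, hinj ?_⟩⟩
    · rw [hmul, hv1e, R4.v0, W.F.mu_vec, R4.one, W.F.mu_one]
      calc h * W.F.vec (0, 2, 0) * h⁻¹ * (h * W.F.vec (0, 2, 0) * h⁻¹)
          = h * (W.F.vec (0, 2, 0) * W.F.vec (0, 2, 0)) * h⁻¹ := by group
        _ = 1 := by
            rw [← W.F.vec_add, show ((0, 2, 0) : V4) + (0, 2, 0) = 0 by decide, W.F.vec_zero]; group
    · rw [hphi _ (by rw [← hmu, hmul]; exact mul_mem hα hα), hmul, hmul, hr1e]; group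
    · have hg' := hgens g hg
      rw [hphi _ (hphiR g hg'), hphi g hg']
      calc h * (h * W.F.mu g * h⁻¹) * h⁻¹ = (h * h) * W.F.mu g * (h * h)⁻¹ := by group
        _ = _ := by rw [hh, hzn _ _ ((hmu g).2 hg')]
    · have hg' := hgens g hg
      have hcg : R4.inR α (R4.cc g) = true := by
        rw [← hmu, ← hcc]; exact conj_R W.c_mem ((hmu g).2 hg')
      rw [hphi _ hcg, ← hcc, ← hcc, hphi g hg']
      have e : h * W.F.c = W.F.z ^ n₃ * W.F.c * h := by rw [← hhc]; group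
      calc h * (W.F.c * W.F.mu g * W.F.c⁻¹) * h⁻¹ = (h * W.F.c) * W.F.mu g * (h * W.F.c)⁻¹ := by group
        _ = W.F.z ^ n₃ * (W.F.c * (h * W.F.mu g * h⁻¹) * W.F.c⁻¹) * (W.F.z ^ n₃)⁻¹ := by rw [e]; group
        _ = _ := hzn _ _ (conj_R W.c_mem (hconj g hg'))
  have hcubeOK : R4.cubeOK α flip v₁ r₁ i x = true := by
    simp only [R4.cubeOK, List.all_eq_true, beq_iff_eq]
    intro g hg
    have hg' := hgens g hg
    have hz1R : ∀ y, R4.inR α y = true → R4.inR α (R4.cz1 y) = true := fun y hy => by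
      rw [← hmu, ← hz1]; exact conj_R (W.z1_conj_H hk) ((hmu y).2 hy)
    have hP : ∀ y, R4.inR α y = true → R4.inR α (R4.pz α flip v₁ r₁ y) = true ∧
        W.F.mu (R4.pz α flip v₁ r₁ y) = (h * W.F.z1) * W.F.mu y * (h * W.F.z1)⁻¹ := fun y hy =>
      ⟨hphiR _ (hz1R y hy), by rw [R4.pz, hphi _ (hz1R y hy), ← hz1]; group⟩
    obtain ⟨r1', e1⟩ := hP g hg'
    obtain ⟨r2', e2⟩ := hP _ r1'
    obtain ⟨-, e3⟩ := hP _ r2'
    refine hinj ?_
    have hpb : ∀ (j : ℕ) (y : R4), W.F.b ^ j * W.F.mu y * (W.F.b ^ j)⁻¹ = W.F.mu (R4.cb^[j] y) := by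
      intro j
      induction j with
      | zero => intro y; simp
      | succ j ih =>
        intro y
        rw [Function.iterate_succ_apply', ← hcb, ← ih, pow_succ']
        group
    rw [e3, e2, e1, R4.qact, ← hcc, ← hpb, hmul, hmul, hinv, hxe]
    calc h * W.F.z1 * (h * W.F.z1 * (h * W.F.z1 * W.F.mu g * (h * W.F.z1)⁻¹) * (h * W.F.z1)⁻¹) * (h * W.F.z1)⁻¹
        = (h * W.F.z1) ^ 3 * W.F.mu g * ((h * W.F.z1) ^ 3)⁻¹ := by simp only [pow_succ, pow_zero, one_mul]; group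
      _ = _ := by rw [hcube]; group
  -- read off the search
  have hsearch : R4.searchOK α flip = true := by
    rcases hα' with rfl | rfl <;> cases flip
    exacts [R4.search_false0, R4.search_true0, R4.search_false1, R4.search_true1]
  have hmem : ∀ y, R4.inR α y = true → y ∈ R4.coreList α := by
    intro y hy
    obtain ⟨y', hy', he⟩ : ∃ y' ∈ R4.coreList α, y' = y := by
      rcases hα' with rfl | rfl
      · simpa using (R4.mem_coreList y).1 hy
      · simpa using (R4.mem_coreList y).2 hy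
    exact he ▸ hy'
  simp only [R4.searchOK, List.all_eq_true, Bool.or_eq_true, Bool.not_eq_true', List.any_eq_true,
    Bool.and_eq_true, beq_iff_eq] at hsearch
  have h1 := (hsearch v₁ (hmem _ hv1) r₁ (hmem _ hr1)).resolve_left (by rw [hok]; simp)
  have hi3 : i ∈ ([0, 1, 2] : List (Fin 3)) := by fin_cases i <;> simp
  have h2 := (h1 i hi3 x (hmem _ hx)).resolve_left (by rw [hcubeOK]; simp)
  obtain ⟨⟨⟨hα0, hfl⟩, hi⟩, q, hq, ⟨hqv, hqr⟩, k, -, hxk⟩ := h2
  subst hα0 hfl hi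
  -- normalise the cube
  have hzi : h * W.F.z * h⁻¹ = W.F.z⁻¹ := by
    have := hflip 1
    rw [cond_true, show R4.zpw (-1 : ZMod 4) = R4.zpw ((3 : ℕ) : ZMod 4) from rfl,
      show R4.zpw (1 : ZMod 4) = R4.zpw ((1 : ℕ) : ZMod 4) from rfl, W.mu_zpw hk, W.mu_zpw hk, pow_one] at this
    rw [this, W.z_inv]
  set j : ℕ := (-k).val
  set w := W.F.z ^ j with hw
  have hwc : ∀ g ∈ K.R, w * g * w⁻¹ = g := hzn j
  have hwi : ∀ m : ℕ, h * W.F.z ^ m * h⁻¹ = (W.F.z ^ m)⁻¹ := fun m => by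
    rw [← conj_pow, hzi, inv_pow]
  have hwz1 : W.F.z1 * w * W.F.z1⁻¹ = w := by
    rw [((show Commute W.F.z1 W.F.z from Commute.symm W.F.c01).pow_right j).eq, mul_inv_cancel_right]
  have hcw : W.F.c * w * W.F.c⁻¹ = w⁻¹ := by rw [hw, ← conj_pow, W.F.czc, inv_pow]
  have hsq : (h * w) * (h * w) = h * h := by
    calc h * w * (h * w) = h * w * h⁻¹ * (h * h) * w := by group
      _ = w⁻¹ * (W.F.z ^ n₂ * w) := by rw [hwi, hh, mul_assoc]
      _ = h * h := by rw [hw, ← pow_add, add_comm n₂, pow_add, hh]; group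
  have hn2 : h * h = 1 ∨ h * h = W.F.z ^ 2 := by
    have h2n : W.F.z ^ n₂ = (W.F.z ^ n₂)⁻¹ := by
      calc W.F.z ^ n₂ = h * W.F.z ^ n₂ * h⁻¹ := by rw [← hh]; group
        _ = _ := hwi n₂
    rw [hh, pow_eq_pow_mod n₂ W.F.z4]
    have hmul2 : W.F.z ^ (2 * (n₂ % 4)) = 1 := by
      rw [two_mul, pow_add, ← pow_eq_pow_mod n₂ W.F.z4]
      conv_lhs => arg 1; rw [h2n]
      exact inv_mul_cancel _
    have := Nat.mod_lt n₂ (show 0 < 4 by norm_num)
    have h1 : W.F.z ^ 2 ≠ 1 := by rw [W.F.hz]; exact K.t_ne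
    interval_cases n₂ % 4
    · left; exact pow_zero _
    · exact absurd hmul2 h1
    · right; rfl
    · refine absurd ?_ h1
      rw [← hmul2, show 2 * 3 = 2 + 4 from rfl, pow_add, W.F.z4, mul_one]
  refine ⟨h * w, q, hq, ?_⟩
  constructor
  · have e : w * t = t * w := by
      have := hwc t K.t_mem_R
      rwa [mul_inv_eq_iff_eq_mul] at this
    rw [mul_assoc, e, ← mul_assoc, K.mem_H.1 hH, mul_assoc]
  · have e : w * W.F.b = W.F.b * w := ((show Commute W.F.z W.F.b from W.F.bz.symm).pow_left j).eq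
    rw [mul_assoc, e, ← mul_assoc, hb, mul_assoc]
  · calc h * w * W.F.z * (h * w)⁻¹ = h * (w * W.F.z * w⁻¹) * h⁻¹ := by group
      _ = _ := by rw [hwc _ W.z_R, hzi]
  · rw [hsq]; exact hn2
  · have e : h * w * W.F.c * (h * w * W.F.c) = h * h * W.F.z ^ (n₃ + (2 * j)) := by
      have hhc' : h * W.F.c = W.F.z ^ n₃ * W.F.c * h := by rw [← hhc]; group
      have hch : W.F.c * h = (W.F.z ^ n₃)⁻¹ * (h * W.F.c) := by rw [hhc']; group
      calc h * w * W.F.c * (h * w * W.F.c) = h * w * (W.F.c * h) * w * W.F.c := by group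
        _ = h * w * (W.F.z ^ n₃)⁻¹ * h⁻¹ * (h * h) * ((W.F.c * w * W.F.c⁻¹) * (W.F.c * W.F.c)) := by
            rw [hch]
            have ecw : W.F.c * w * W.F.c = W.F.c * w * W.F.c⁻¹ * (W.F.c * W.F.c) := by group
            rw [← ecw]; group
        _ = W.F.z ^ n₃ * w⁻¹ * (h * h) * w⁻¹ := by
            rw [hcw, W.hc, mul_one]
            have : h * w * (W.F.z ^ n₃)⁻¹ * h⁻¹ = W.F.z ^ n₃ * w⁻¹ := by
              calc h * w * (W.F.z ^ n₃)⁻¹ * h⁻¹ = (h * w * h⁻¹) * (h * W.F.z ^ n₃ * h⁻¹)⁻¹ := by group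
                _ = _ := by rw [hw, hwi, hwi, inv_inv]; group
            rw [this]
        _ = _ := by
            rw [hh, hw]
            have e3 : (W.F.z ^ j)⁻¹ = W.F.z ^ (3 * j) := by rw [← inv_pow, W.z_inv, ← pow_mul]
            rw [e3, ← pow_add, ← pow_add, ← pow_add, ← pow_add, pow_eq_pow_mod _ W.F.z4]
            conv_rhs => rw [pow_eq_pow_mod _ W.F.z4]
            congr 1; omega
    rw [e]
    rcases hn2 with h' | h' <;> rw [h'] <;> simp only [one_mul, ← pow_add] <;>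
      exact ⟨_, Nat.mod_lt _ (by norm_num), pow_eq_pow_mod _ W.F.z4⟩
  · calc h * w * W.F.mu R4.v0 * (h * w)⁻¹ = h * (w * W.F.mu R4.v0 * w⁻¹) * h⁻¹ := by group
      _ = _ := by rw [hwc _ ((hmu _).2 hv0), ← hv1e, ← hqv]
  · have hsR : W.F.s ∈ K.R := by
      have := hα
      rwa [W.lift_mu hk, show ((0, 0, 0) : V4) = 0 from rfl, W.F.vec_zero, one_mul] at this
    calc h * w * W.F.s * (h * w)⁻¹ = h * (w * W.F.s * w⁻¹) * h⁻¹ := by group
      _ = _ := by
          rw [hwc _ hsR, hqr, hr1e, W.lift_mu hk, show ((0, 0, 0) : V4) = 0 from rfl, W.F.vec_zero, one_mul]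
  · have hq3 : (h * W.F.z1) * w * (h * W.F.z1)⁻¹ = w⁻¹ := by
      calc (h * W.F.z1) * w * (h * W.F.z1)⁻¹ = h * (W.F.z1 * w * W.F.z1⁻¹) * h⁻¹ := by group
        _ = _ := by rw [hwz1, hw, hwi]
    have hz1w : w * W.F.z1 = W.F.z1 * w := (mul_inv_eq_iff_eq_mul.1 hwz1).symm
    rw [mul_assoc, hz1w, ← mul_assoc]
    set P := h * W.F.z1
    have e : (P * w) ^ 3 = P ^ 3 * w := by
      have e1 : P * w * (P * w) = P * P := by
        calc P * w * (P * w) = P * w * P⁻¹ * (P * P) * w := by group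
          _ = P * P * ((P * P)⁻¹ * w⁻¹ * (P * P)) * w := by rw [hq3]; group
          _ = P * P := by
              have : (P * P)⁻¹ * w⁻¹ * (P * P) = w⁻¹ := by
                calc (P * P)⁻¹ * w⁻¹ * (P * P) = P⁻¹ * (P⁻¹ * (P * w * P⁻¹) * P) * P := by rw [hq3]; group
                  _ = P⁻¹ * w * P := by group
                  _ = _ := by
                      have : P⁻¹ * w * P = (P⁻¹ * (P * w * P⁻¹) * P)⁻¹ := by rw [hq3]; group
                      rw [this]; group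
              rw [this]; group
      calc (P * w) ^ 3 = P * w * (P * w) * (P * w) := by simp [pow_succ]
        _ = _ := by rw [e1]; simp [pow_succ, mul_assoc]
    rw [e, hcube, ← hxe, hxk, hmul]
    have ew : W.F.mu (R4.zpw k) * w = 1 := by
      rw [← ZMod.natCast_zmod_val k, W.mu_zpw hk, hw, ← pow_add, pow_eq_pow_mod _ W.F.z4]
      have key : ∀ k : ZMod 4, (k.val + (-k).val) % 4 = 0 := by decide +kernel
      rw [key, pow_zero]
    simp only [Fin.val_one, pow_one, mul_assoc, ew, mul_one]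

end Frame

end CfsgLib.Spor.HSType
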