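import Cfsg.Agent.Lib.Spor.HSType.Model

/-!
# Finite checks in the model of the core

The two candidates for the core, the candidates for the action of the element `h` on it and the search showing
that three of them remain.
-/

set_option autoImplicit false
set_option maxRecDepth 100000

namespace CfsgLib.Spor.HSType

namespace R4

/-- The neutral element. -/
def one : R4 := ((0, 0, 0), false, false)

/-- The lift of the transvection in the core with parameter `α`. -/
def lift (α : V4) : R4 := (α, true, false)

/-- The coset representatives in the core. -/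
def off (α : V4) (p : Bool × Bool) : R4 :=
  mul (cond p.1 (lift α) one) (cond p.2 (cb (lift α)) one)

/-- The candidate for the core with parameter `α`. -/
def inR (α : V4) (x : R4) : Bool := evV (x.1 - (off α x.2).1)

/-- The power of `z` with exponent `k`. -/
def zpw (k : ZMod 4) : R4 := ((k, 0, 0), false, false)

/-- The candidate for the action of `h` on the core. -/
def phi (α : V4) (flip : Bool) (v₁ r₁ : R4) (x : R4) : R4 :=
  let e := x.1 - (off α x.2).1
  mul (mul (mul (mul (zpw (cond flip (-e.1) e.1)) (cond (e.2.1 == 2) v₁ one)) (cond (e.2.2 == 2) (cb v₁) one))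
    (cond x.2.1 r₁ one)) (cond x.2.2 (cb r₁) one)

/-- The second generator of the core. -/
def v0 : R4 := ((0, 2, 0), false, false)

/-- The generators of the core. -/
def gens (α : V4) : List R4 := [v0, lift α, zpw 1, cb v0, cb (lift α)]

/-- Conjugation by `c bⁱ x`. -/
def qact (i : Fin 3) (x g : R4) : R4 := cc (cb^[i.val] (mul (mul x g) (inv x)))

/-- The candidate for the core as a list. -/
def coreList (α : V4) : List R4 :=
  ([0, 1, 2, 3] : List (ZMod 4)).flatMap fun a => ([0, 2] : List (ZMod 4)).flatMap fun b =>
    ([0, 2] : List (ZMod 4)).flatMap fun c => [(false, false), (true, false), (false, true), (true, true)].map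
      fun p => (((a, b, c) : V4) + (off α p).1, p)

/-- The conditions on the action of `h`. -/
def phiOK (α : V4) (flip : Bool) (v₁ r₁ : R4) : Bool :=
  (mul v₁ v₁ == one) && (mul r₁ r₁ == phi α flip v₁ r₁ (mul (lift α) (lift α))) &&
    (gens α).all (fun g => phi α flip v₁ r₁ (phi α flip v₁ r₁ g) == g &&
      phi α flip v₁ r₁ (cc g) == cc (phi α flip v₁ r₁ g))

/-- Conjugation by `h z₁`. -/
def pz (α : V4) (flip : Bool) (v₁ r₁ : R4) (g : R4) : R4 := phi α flip v₁ r₁ (cz1 g)

/-- The cube of the action of `h z₁` is conjugation by `c bⁱ x`. -/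
def cubeOK (α : V4) (flip : Bool) (v₁ r₁ : R4) (i : Fin 3) (x : R4) : Bool :=
  (gens α).all fun g => pz α flip v₁ r₁ (pz α flip v₁ r₁ (pz α flip v₁ r₁ g)) == qact i x g

/-- The three remaining actions with the values of the cube. -/
def survivors : List (R4 × R4 × R4) :=
  [((((0, 0, 0) : V4), true, true), (((0, 0, 2) : V4), false, false), one),
    ((((0, 2, 0) : V4), true, true), (((0, 0, 0) : V4), true, false), v0),
    ((((2, 2, 0) : V4), true, true), (((0, 0, 0) : V4), true, false), one)]

/-- The search for the action of `h`. -/
def searchOK (α : V4) (flip : Bool) : Bool :=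
  (coreList α).all fun v₁ => (coreList α).all fun r₁ => !(phiOK α flip v₁ r₁) ||
    ([0, 1, 2] : List (Fin 3)).all fun i => (coreList α).all fun x => !(cubeOK α flip v₁ r₁ i x) ||
      (α == (0, 0, 0) && flip && i == 1 &&
        survivors.any fun q => q.1 == v₁ && q.2.1 == r₁ &&
          ([0, 1, 2, 3] : List (ZMod 4)).any fun k => x == mul q.2.2 (zpw k))

theorem search_true0 : searchOK (0, 0, 0) true = true := by decide +kernel

theorem search_false0 : searchOK (0, 0, 0) false = true := by decide +kernel

theorem search_true1 : searchOK (0, 0, 1) true = true := by decide +kernel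

theorem search_false1 : searchOK (0, 0, 1) false = true := by decide +kernel

theorem mem_coreList : ∀ x : R4,
    (inR (0, 0, 0) x = true → (coreList (0, 0, 0)).any (fun y => decide (y = x)) = true) ∧
    (inR (0, 0, 1) x = true → (coreList (0, 0, 1)).any (fun y => decide (y = x)) = true) := by decide +kernel

/-- Every element of order three in the coset of `b` is a conjugate of `b`. -/
def cubeConjOK (α : V4) : Bool :=
  (coreList α).all fun x => !(mul (mul (cb x) (cb (cb x))) x == one) ||
    (coreList α).any fun r => x == mul (cb (cb r)) (inv r)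

theorem cube_conj : cubeConjOK (0, 0, 0) = true ∧ cubeConjOK (0, 0, 1) = true := by decide +kernel

theorem fixed_b : ∀ x : R4, (inR (0, 0, 0) x = true ∨ inR (0, 0, 1) x = true) → cb x = x →
    x = zpw 0 ∨ x = zpw 1 ∨ x = zpw 2 ∨ x = zpw 3 := by decide +kernel

/-- The conditions on the parameter of the core. -/
theorem alpha_check : ∀ α : V4,
    (mul (mul (inv (lift α)) (inv (cb (lift α)))) (mul (lift α) (cb (lift α))) = one ∨
      mul (mul (inv (lift α)) (inv (cb (lift α)))) (mul (lift α) (cb (lift α))) = ((2, 0, 0), false, false)) →
    (mul (inv (cb (cb (lift α)))) (cc (lift α))).2 = (false, false) →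
    evV (mul (inv (cb (cb (lift α)))) (cc (lift α))).1 = true →
    evV α = true ∨ evV (α - (0, 0, 1)) = true := by decide +kernel

theorem lift_rep : ∀ α : V4, (evV α = true → evV ((0, 0, 0) - α) = true) ∧
    (evV (α - (0, 0, 1)) = true → evV ((0, 0, 1) - α) = true) := by decide +kernel

theorem bits_surj : ∀ q : Bool × Bool, ∃ p : Bool × Bool,
    (decide (actK p (0, 2, 0) = (0, 2, 0)), decide (actK p (0, 0, 2) = (0, 0, 2))) = q := by decide +kernel

end R4

end CfsgLib.Spor.HSType
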