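import Cfsg.Agent.Lib.Spor.HSType.Core
import Cfsg.Agent.Lib.Spor.HSType.PhiData

/-!
# The core in the model

In the split extension the core is one of two explicit sets of the model, given by a parameter.
-/

set_option autoImplicit false
set_option maxRecDepth 100000

namespace CfsgLib.Spor.HSType

namespace Frame

variable {G : Type*} [Group G] [Finite G] {t : G} {K : Ctx G t} (W : Frame K)
variable (hk : (W.F.a * W.F.c) ^ 3 = 1)
include hk

theorem lift_mu (α : V4) : W.F.mu (R4.lift α) = W.F.vec α * W.F.s := by simp [MGens.mu, R4.lift]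

/-- The parameter of the core. -/
theorem exists_alpha : ∃ α : V4, (α = (0, 0, 0) ∨ α = (0, 0, 1)) ∧ W.F.mu (R4.lift α) ∈ K.R := by
  obtain ⟨α, hr⟩ := W.exists_lift
  rw [← W.lift_mu hk] at hr
  have hmul := W.F.mu_mul W.hc hk
  have hinv := W.F.mu_inv W.hc hk
  have hcb := W.F.mu_cb W.hc hk
  have hb := conj_R W.b_mem hr
  rw [hcb] at hb
  have hbb := conj_R W.b_mem hb
  rw [hcb] at hbb
  have hcr := conj_R W.c_mem hr
  rw [W.F.mu_cc W.hc hk] at hcr
  have hq := mul_mem (inv_mem hbb) hcr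
  rw [← hinv, ← hmul] at hq
  have hcom : R4.mul (R4.mul (R4.inv (R4.lift α)) (R4.inv (R4.cb (R4.lift α))))
        (R4.mul (R4.lift α) (R4.cb (R4.lift α))) = R4.one ∨
      R4.mul (R4.mul (R4.inv (R4.lift α)) (R4.inv (R4.cb (R4.lift α))))
        (R4.mul (R4.lift α) (R4.cb (R4.lift α))) = ((2, 0, 0), false, false) := by
    have e : W.F.mu (R4.mul (R4.mul (R4.inv (R4.lift α)) (R4.inv (R4.cb (R4.lift α))))
        (R4.mul (R4.lift α) (R4.cb (R4.lift α)))) = (W.F.mu (R4.lift α))⁻¹ * (W.F.mu (R4.cb (R4.lift α)))⁻¹ *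
          (W.F.mu (R4.lift α))⁻¹⁻¹ * (W.F.mu (R4.cb (R4.lift α)))⁻¹⁻¹ := by
      simp only [hmul, hinv, inv_inv, mul_assoc]
    rcases K.comm_R (inv_mem hr) (inv_mem hb) with h | h
    · exact Or.inl (W.F.mu_inj W.hc hk ((e.trans h).trans W.F.mu_one.symm))
    · exact Or.inr (W.F.mu_inj W.hc hk ((e.trans h).trans (W.t_vec.trans (W.F.mu_vec _).symm)))
  -- the quotient of the two conjugates lies in `A`
  have hqA : (R4.mul (R4.inv (R4.cb (R4.cb (R4.lift α)))) (R4.cc (R4.lift α))).2 = (false, false) := by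
    have key : ∀ α : V4, (R4.mul (R4.inv (R4.cb (R4.cb (R4.lift α)))) (R4.cc (R4.lift α))).2 = (false, false) := by
      decide +kernel
    exact key α
  have hev : evV (R4.mul (R4.inv (R4.cb (R4.cb (R4.lift α)))) (R4.cc (R4.lift α))).1 = true := by
    generalize R4.mul (R4.inv (R4.cb (R4.cb (R4.lift α)))) (R4.cc (R4.lift α)) = q at hq hqA
    obtain ⟨v, p⟩ := q
    simp only at hqA
    subst hqA
    rw [W.F.mu_vec, W.vec_R] at hq
    exact hq
  have hcases := R4.alpha_check α hcom hqA hev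
  rcases hcases with h | h
  · refine ⟨_, Or.inl rfl, ?_⟩
    have := mul_mem ((W.vec_R _).2 ((R4.lift_rep α).1 h)) hr
    rw [W.lift_mu hk, ← mul_assoc, ← W.F.vec_add, sub_add_cancel] at this
    rw [W.lift_mu hk]; exact this
  · refine ⟨_, Or.inr rfl, ?_⟩
    have := mul_mem ((W.vec_R _).2 ((R4.lift_rep α).2 h)) hr
    rw [W.lift_mu hk, ← mul_assoc, ← W.F.vec_add, sub_add_cancel] at this
    rw [W.lift_mu hk]; exact this

variable {α : V4} (hα : W.F.mu (R4.lift α) ∈ K.R)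
include hα

theorem off_mem (p : Bool × Bool) : W.F.mu (R4.off α p) ∈ K.R := by
  have hb := conj_R W.b_mem hα
  rw [W.F.mu_cb W.hc hk] at hb
  rw [R4.off, W.F.mu_mul W.hc hk]
  obtain ⟨i, j⟩ := p
  cases i <;> cases j <;> simp only [cond_true, cond_false, R4.one, W.F.mu_one, one_mul, mul_one]
  exacts [one_mem _, hb, hα, mul_mem hα hb]

theorem off_snd (p : Bool × Bool) : (R4.off α p).2 = p := by
  obtain ⟨i, j⟩ := p
  cases i <;> cases j <;> rfl

theorem mu_split (x : R4) : W.F.mu x = W.F.vec (x.1 - (R4.off α x.2).1) * W.F.mu (R4.off α x.2) := by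
  have h := W.off_snd hk hα x.2
  simp only [MGens.mu, h]
  rw [← mul_assoc, ← mul_assoc, ← W.F.vec_add, sub_add_cancel]

/-- The elements of the model in the core. -/
theorem mu_R (x : R4) : W.F.mu x ∈ K.R ↔ R4.inR α x = true := by
  rw [W.mu_split hk hα, R4.inR, ← W.vec_R]
  exact ⟨fun h => by simpa using mul_mem h (inv_mem (W.off_mem hk hα x.2)),
    fun h => mul_mem h (W.off_mem hk hα x.2)⟩

/-- The core lies in the image of the model. -/
theorem exists_mu {r : G} (hr : r ∈ K.R) : ∃ x, R4.inR α x = true ∧ W.F.mu x = r := by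
  obtain ⟨p, hp⟩ := R4.bits_surj (W.bits r)
  have hact : ∀ u, W.F.mu (R4.off α p) * W.F.vec u * (W.F.mu (R4.off α p))⁻¹ = W.F.vec (actK p u) := by
    intro u
    have h := W.off_snd hk hα p
    simp only [MGens.mu, h]
    rw [← W.F.bitsK_vec]
    have e : ∀ v w : V4, W.F.vec v * W.F.vec w * (W.F.vec v)⁻¹ = W.F.vec w := fun v w => W.F.comm_vec (W.F.memA v) w
    calc W.F.vec (R4.off α p).1 * cond p.1 W.F.s 1 * cond p.2 W.F.s1 1 * W.F.vec u *
          (W.F.vec (R4.off α p).1 * cond p.1 W.F.s 1 * cond p.2 W.F.s1 1)⁻¹ =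
        W.F.vec (R4.off α p).1 * (cond p.1 W.F.s 1 * cond p.2 W.F.s1 1 * W.F.vec u *
          (cond p.1 W.F.s 1 * cond p.2 W.F.s1 1)⁻¹) * (W.F.vec (R4.off α p).1)⁻¹ := by group
      _ = _ := by rw [W.F.bitsK_vec, e]
  have hbits : W.bits r = W.bits (W.F.mu (R4.off α p)) := by
    rw [← hp]
    simp only [bits, hact]
    congr 1 <;> exact decide_eq_decide.2 ⟨fun h => (hact _).trans (congrArg _ h),
      fun h => W.F.inj ((hact _).symm.trans h)⟩
  obtain ⟨v, hv⟩ := W.F.surj _ (W.bits_eq hr (W.off_mem hk hα p) hbits)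
  have hvR : W.F.vec v ∈ K.R := by rw [hv]; exact mul_mem (inv_mem (W.off_mem hk hα p)) hr
  refine ⟨R4.mul (R4.off α p) (v, false, false), ?_, ?_⟩
  · rw [← W.mu_R hk hα, W.F.mu_mul W.hc hk, W.F.mu_vec]
    exact mul_mem (W.off_mem hk hα p) hvR
  · rw [W.F.mu_mul W.hc hk, W.F.mu_vec, hv, mul_inv_cancel_left]

end Frame

end CfsgLib.Spor.HSType
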