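import Cfsg.Agent.Lib.Spor.HSType.Pres
import Cfsg.Agent.Lib.Spor.HSType.Cert.MIndex.All

/-!
# The order of a group with the relations of the two-local subgroup

A group generated by four elements satisfying the fourteen relators has order at most `512 · 21 = 10752`.
-/

set_option autoImplicit false
set_option maxRecDepth 100000

namespace CfsgLib.Spor.HSType

open CfsgLib.Spor.TC

variable {X : Type*} [Group X]

theorem frob_form {a b : X} (ha : a ^ 7 = 1) (hb : b ^ 3 = 1) (hba : b * a * b⁻¹ = a ^ 2) {x : X}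
    (hx : x ∈ Subgroup.closure ({a, b} : Set X)) : ∃ p : Fin 7 × Fin 3, x = a ^ p.1.val * b ^ p.2.val := by
  suffices h : ∃ i j : ℕ, x = a ^ i * b ^ j by
    obtain ⟨i, j, rfl⟩ := h
    exact ⟨(⟨i % 7, Nat.mod_lt _ (by norm_num)⟩, ⟨j % 3, Nat.mod_lt _ (by norm_num)⟩), by
      rw [← pow_eq_pow_mod i ha, ← pow_eq_pow_mod j hb]⟩
  have hconj : ∀ j i : ℕ, b ^ j * a ^ i = a ^ (2 ^ j * i) * b ^ j := by
    intro j
    induction j with
    | zero => intro i; simp
    | succ j ih =>
      intro i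
      have h2 : b * a ^ i = a ^ (2 * i) * b := by rw [pow_mul, ← hba, conj_pow, inv_mul_cancel_right]
      rw [pow_succ b, mul_assoc, h2, ← mul_assoc, ih, pow_succ (2 : ℕ), mul_assoc (2 ^ j), mul_assoc]
  induction hx using Subgroup.closure_induction'' with
  | mem g hg =>
    rcases hg with rfl | rfl
    · exact ⟨1, 0, by simp⟩
    · exact ⟨0, 1, by simp⟩
  | inv_mem g hg =>
    rcases hg with rfl | rfl
    · exact ⟨6, 0, by rw [pow_zero, mul_one]; exact inv_eq_of_mul_eq_one_right (by rw [← pow_succ']; exact ha)⟩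
    · exact ⟨0, 2, by rw [pow_zero, one_mul]; exact inv_eq_of_mul_eq_one_right (by rw [← pow_succ']; exact hb)⟩
  | one => exact ⟨0, 0, by simp⟩
  | mul g k _ _ hg hk =>
    obtain ⟨i, j, rfl⟩ := hg
    obtain ⟨i', j', rfl⟩ := hk
    exact ⟨i + 2 ^ j * i', j + j', by
      rw [pow_add, pow_add, mul_assoc (a ^ i), ← mul_assoc (b ^ j), hconj]; group⟩

theorem card_le_mBound {z a b c : X} (hr : ∀ r ∈ mRels, ev (gvM z a b c) r = 1)
    (hgen : Subgroup.closure ({z, a, b, c} : Set X) = ⊤) : Finite X ∧ Nat.card X ≤ 10752 := by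
  classical
  set H := Subgroup.closure ({a, b} : Set X)
  have hg : Subgroup.closure (gvM z a b c '' Set.Iio 8) = ⊤ := by
    refine top_le_iff.1 (hgen ▸ Subgroup.closure_mono ?_)
    rintro x (rfl | rfl | rfl | rfl)
    exacts [⟨0, by norm_num, rfl⟩, ⟨2, by norm_num, rfl⟩, ⟨4, by norm_num, rfl⟩, ⟨6, by norm_num, rfl⟩]
  have hlt : ∀ x < 8, invLetter 8 x < 8 := by decide +kernel
  obtain ⟨hne, hidx⟩ := Cert.MIndex.cert.index_le_signed Cert.MIndex.steps_ok Cert.MIndex.rows_ok
    (by decide +kernel) (by norm_num) _ (gvM_inv z a b c) rfl hlt hg hr H (by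
      intro r hr'
      simp only [Cert.MIndex.cert, Cert.MIndex.subs, List.mem_cons, List.not_mem_nil, or_false] at hr'
      rcases hr' with rfl | rfl
      · rw [show ev (gvM z a b c) [2] = a by simp [ev, gvM]]
        exact Subgroup.subset_closure (by simp)
      · rw [show ev (gvM z a b c) [4] = b by simp [ev, gvM]]
        exact Subgroup.subset_closure (by simp))
  have ha : a ^ 7 = 1 := by
    rw [← hr [2, 2, 2, 2, 2, 2, 2] (by decide)]; simp [ev, gvM, pow_succ, mul_assoc]
  have hb : b ^ 3 = 1 := by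
    rw [← hr [4, 4, 4] (by decide)]; simp [ev, gvM, pow_succ, mul_assoc]
  have hba : b * a * b⁻¹ = a ^ 2 := by
    rw [← mul_inv_eq_one, ← hr [4, 2, 5, 3, 3] (by decide)]; simp [ev, gvM, pow_two, mul_assoc]
  have hf : Function.Surjective (fun p : Fin 7 × Fin 3 =>
      (⟨a ^ p.1.val * b ^ p.2.val, mul_mem (pow_mem (Subgroup.subset_closure (by simp)) _)
        (pow_mem (Subgroup.subset_closure (by simp)) _)⟩ : H)) := by
    rintro ⟨x, hx⟩
    obtain ⟨p, hp⟩ := frob_form ha hb hba hx
    exact ⟨p, Subtype.ext hp.symm⟩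
  haveI : Finite H := Finite.of_surjective _ hf
  haveI : H.FiniteIndex := ⟨hne⟩
  haveI : Finite (X ⧸ H) := Subgroup.finite_quotient_of_finiteIndex
  have hfin : Finite X := Finite.of_equiv _ (Subgroup.groupEquivQuotientProdSubgroup (s := H)).symm
  refine ⟨hfin, ?_⟩
  have hH : Nat.card H ≤ 21 := by
    refine le_trans (Nat.card_le_card_of_surjective _ hf) (le_of_eq ?_)
    rw [Nat.card_eq_fintype_card]; rfl
  rw [← H.index_mul_card]
  calc H.index * Nat.card H ≤ 512 * 21 := Nat.mul_le_mul hidx hH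
    _ = 10752 := by norm_num

end CfsgLib.Spor.HSType
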