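import Cfsg.Agent.Lib.Spor.HSType.MFrame

/-!
# Existence of the generators

The lifts `a` of order seven and `b` of order three with `b a b⁻¹ = a²` come from fixed-point-free coprime
action, `z` is an average over `⟨b⟩`, and the matrices of `a, b, c` over the integers modulo four are forced by
their reductions and the relations they satisfy.
-/

set_option autoImplicit false
set_option maxRecDepth 100000

namespace CfsgLib.Spor.HSType

open Subgroup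

/-- The matrix of `a`. -/
def actA : V4 → V4 := app4 (0, 1, 0) (0, 0, 1) (1, 3, 2)

/-- The matrix of `b`. -/
def actB : V4 → V4 := app4 (1, 0, 0) (0, 0, 1) (2, 3, 3)

/-- The matrix of `c`. -/
def actC : V4 → V4 := app4 (3, 0, 0) (0, 0, 1) (0, 1, 0)

/-- The matrix of `a` modulo two. -/
def actA2 : V2 → V2 := app2 (0, 1, 0) (0, 0, 1) (1, 1, 0)

/-- The matrix of `b` modulo two. -/
def actB2 : V2 → V2 := app2 (1, 0, 0) (0, 0, 1) (0, 1, 1)

/-- The matrix of `c` modulo two. -/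
def actC2 : V2 → V2 := app2 (1, 0, 0) (0, 0, 1) (0, 1, 0)

/-- The triples of images reached by products of the three matrices. -/
def reach : ℕ → List (V2 × V2 × V2)
  | 0 => [((1, 0, 0), (0, 1, 0), (0, 0, 1))]
  | n + 1 =>
    let l := reach n
    (l ++ ([actA2, actB2, actC2].flatMap fun g => l.map fun f => (g f.1, g f.2.1, g f.2.2))).eraseDups

/-- The units of `V2`. -/
def allV2 : List V2 := [(0,0,0), (0,0,1), (0,1,0), (0,1,1), (1,0,0), (1,0,1), (1,1,0), (1,1,1)]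

theorem allV2_mem : ∀ v : V2, v ∈ allV2 := by decide

theorem reach_check : (allV2.all fun x => allV2.all fun y => allV2.all fun w =>
    (allV2.any fun v => (app2 x y w v == 0) && !(v == 0)) || (reach 9).contains (x, y, w)) = true := by
  decide +kernel

theorem reach_all (f : V2 × V2 × V2) (h : ∀ v, app2 f.1 f.2.1 f.2.2 v = 0 → v = 0) : f ∈ reach 9 := by
  have hc := reach_check
  simp only [List.all_eq_true, Bool.or_eq_true, List.any_eq_true, Bool.and_eq_true, Bool.not_eq_true',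
    beq_iff_eq, beq_eq_false_iff_ne, List.contains_eq_mem, decide_eq_true_eq] at hc
  rcases hc f.1 (allV2_mem _) f.2.1 (allV2_mem _) f.2.2 (allV2_mem _) with ⟨v, -, hv, hne⟩ | hm
  · exact absurd (h v hv) hne
  · exact hm

namespace Gens

variable {G : Type*} [Group G] (F : Gens G)

theorem z1_pow4 : F.z1 ^ 4 = 1 := by rw [z1, conj_pow, F.z4, mul_one, mul_inv_cancel]

theorem z2_pow4 : F.z2 ^ 4 = 1 := by rw [z2, conj_pow, F.z1_pow4, mul_one, mul_inv_cancel]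

theorem pow_val_add4 {x : G} (hx : x ^ 4 = 1) (a b : ZMod 4) : x ^ (a + b).val = x ^ a.val * x ^ b.val := by
  rw [ZMod.val_add, ← pow_eq_pow_mod _ hx, pow_add]

theorem pow_val_mul4 {x : G} (hx : x ^ 4 = 1) (a b : ZMod 4) : (x ^ a.val) ^ b.val = x ^ (b * a).val := by
  rw [ZMod.val_mul, ← pow_eq_pow_mod _ hx, ← pow_mul, mul_comm]

theorem vec_add (u v : V4) : F.vec (u + v) = F.vec u * F.vec v := by
  simp only [vec, Prod.fst_add, Prod.snd_add, pow_val_add4 F.z4, pow_val_add4 F.z1_pow4, pow_val_add4 F.z2_pow4]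
  have c01 : ∀ i j : ℕ, Commute (F.z ^ i) (F.z1 ^ j) := fun i j => F.c01.pow_pow i j
  have c02 : ∀ i j : ℕ, Commute (F.z ^ i) (F.z2 ^ j) := fun i j => F.c02.pow_pow i j
  have c12 : ∀ i j : ℕ, Commute (F.z1 ^ i) (F.z2 ^ j) := fun i j => F.c12.pow_pow i j
  calc F.z ^ u.1.val * F.z ^ v.1.val * (F.z1 ^ u.2.1.val * F.z1 ^ v.2.1.val) * (F.z2 ^ u.2.2.val * F.z2 ^ v.2.2.val)
      = F.z ^ u.1.val * (F.z ^ v.1.val * F.z1 ^ u.2.1.val) *
          ((F.z1 ^ v.2.1.val * F.z2 ^ u.2.2.val) * F.z2 ^ v.2.2.val) := by group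
    _ = F.z ^ u.1.val * (F.z1 ^ u.2.1.val * F.z ^ v.1.val) *
          ((F.z2 ^ u.2.2.val * F.z1 ^ v.2.1.val) * F.z2 ^ v.2.2.val) := by rw [(c01 _ _).eq, (c12 _ _).eq]
    _ = F.z ^ u.1.val * F.z1 ^ u.2.1.val * (F.z ^ v.1.val * F.z2 ^ u.2.2.val) * F.z1 ^ v.2.1.val *
          F.z2 ^ v.2.2.val := by group
    _ = F.z ^ u.1.val * F.z1 ^ u.2.1.val * (F.z2 ^ u.2.2.val * F.z ^ v.1.val) * F.z1 ^ v.2.1.val *
          F.z2 ^ v.2.2.val := by rw [(c02 _ _).eq]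
    _ = _ := by group

theorem vec_zero : F.vec 0 = 1 := by simp [vec]

theorem vec_pow (v : V4) (n : ZMod 4) : F.vec v ^ n.val = F.vec (n * v.1, n * v.2.1, n * v.2.2) := by
  simp only [vec]
  have c01 : Commute (F.z ^ v.1.val) (F.z1 ^ v.2.1.val) := F.c01.pow_pow _ _
  have c02 : Commute (F.z ^ v.1.val) (F.z2 ^ v.2.2.val) := F.c02.pow_pow _ _
  have c12 : Commute (F.z1 ^ v.2.1.val) (F.z2 ^ v.2.2.val) := F.c12.pow_pow _ _
  rw [(c02.mul_left c12).mul_pow, c01.mul_pow, pow_val_mul4 F.z4, pow_val_mul4 F.z1_pow4, pow_val_mul4 F.z2_pow4]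

theorem vec_conj {g : G} {e₀ e₁ e₂ : V4} (f₀ : g * F.z * g⁻¹ = F.vec e₀) (f₁ : g * F.z1 * g⁻¹ = F.vec e₁)
    (f₂ : g * F.z2 * g⁻¹ = F.vec e₂) (v : V4) : g * F.vec v * g⁻¹ = F.vec (app4 e₀ e₁ e₂ v) := by
  have : g * F.vec v * g⁻¹ =
      (g * F.z * g⁻¹) ^ v.1.val * (g * F.z1 * g⁻¹) ^ v.2.1.val * (g * F.z2 * g⁻¹) ^ v.2.2.val := by
    rw [conj_pow, conj_pow, conj_pow]; simp only [vec]; group
  rw [this, f₀, f₁, f₂, F.vec_pow, F.vec_pow, F.vec_pow, ← F.vec_add, ← F.vec_add]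
  rfl

end Gens

theorem e0_cases : ∀ e₀ : V4, red e₀ = (1, 0, 0) → actB e₀ = e₀ → e₀ = (1, 0, 0) ∨ e₀ = (3, 0, 0) := by
  decide +kernel

/-- The conditions on the images of the first two unit vectors under `c`. -/
def eCond (e₀ e₁ : V4) : Bool :=
  let f := app4 e₀ e₁ (actB (actB e₁))
  (red e₁ == ((0, 0, 1) : V2)) && (f (f (0, 1, 0)) == ((0, 1, 0) : V4)) &&
    ((fun v => actA (f v))^[3] (1, 0, 0) == ((1, 0, 0) : V4)) && ((fun v => actA (f v))^[3] (0, 1, 0) == ((0, 1, 0) : V4)) &&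
    ((fun v => actA (f v))^[3] (0, 0, 1) == ((0, 0, 1) : V4))

theorem e1_check : ∀ e₁ : V4, eCond (1, 0, 0) e₁ = false ∧ (eCond (3, 0, 0) e₁ = true → e₁ = (0, 0, 1)) := by
  decide +kernel

theorem e1_cases (e₀ : V4) (he₀ : e₀ ∈ ([(1, 0, 0), (3, 0, 0)] : List V4)) (e₁ : V4) (h1 : red e₁ = (0, 0, 1))
    (h2 : app4 e₀ e₁ (actB (actB e₁)) (app4 e₀ e₁ (actB (actB e₁)) (0, 1, 0)) = (0, 1, 0))
    (h3 : (fun v => actA (app4 e₀ e₁ (actB (actB e₁)) v))^[3] (1, 0, 0) = (1, 0, 0))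
    (h4 : (fun v => actA (app4 e₀ e₁ (actB (actB e₁)) v))^[3] (0, 1, 0) = (0, 1, 0))
    (h5 : (fun v => actA (app4 e₀ e₁ (actB (actB e₁)) v))^[3] (0, 0, 1) = (0, 0, 1)) :
    e₀ = (3, 0, 0) ∧ e₁ = (0, 0, 1) := by
  have h : eCond e₀ e₁ = true := by
    simp only [eCond, Bool.and_eq_true, beq_iff_eq]
    exact ⟨⟨⟨⟨h1, h2⟩, h3⟩, h4⟩, h5⟩
  simp only [List.mem_cons, List.not_mem_nil, or_false] at he₀
  rcases he₀ with rfl | rfl
  · rw [(e1_check e₁).1] at h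
    exact Bool.noConfusion h
  · exact ⟨rfl, (e1_check e₁).2 h⟩

namespace MData

variable {G : Type*} [Group G] [Finite G] {t : G} (D : MData G t)

theorem pow_conj_vec (_D : MData G t) {a : G} {f : V2 → V2} {x₀ x₁ x₂ : G}
    (ha : ∀ v, a * vec2 x₀ x₁ x₂ v * a⁻¹ = vec2 x₀ x₁ x₂ (f v)) :
    ∀ n v, a ^ n * vec2 x₀ x₁ x₂ v * (a ^ n)⁻¹ = vec2 x₀ x₁ x₂ (f^[n] v) := by
  intro n
  induction n with
  | zero => intro v; simp
  | succ n ih =>
    intro v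
    rw [Function.iterate_succ_apply', ← ha, ← ih v, pow_succ']
    group

theorem exists_gens : ∃ F : Gens G, F.z ^ 2 = t ∧ (∀ v, F.vec v ∈ D.A) ∧ Function.Injective F.vec ∧
    (∀ x ∈ D.A, ∃ v, F.vec v = x) ∧ F.a ∈ D.M ∧ F.b ∈ D.M ∧ F.c ∈ D.M ∧
    Subgroup.closure ({F.z, F.a, F.b, F.c} : Set G) = D.M := by
  classical
  -- a basis adapted to an element of order seven
  obtain ⟨y₁, y₂, B₀⟩ := D.exists_basis
  obtain ⟨a₀, ha₀M, ha₀⟩ := D.exists_act B₀ (0, 1, 0) (0, 0, 1) (1, 1, 0) (by decide)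
  set x₁ := a₀ * t * a₀⁻¹ with hx₁
  set x₂ := a₀ * x₁ * a₀⁻¹ with hx₂
  have B : D.Basis2 t x₁ x₂ := by
    have e0 : vec2 t y₁ y₂ (1, 0, 0) = t := by simp [vec2, ZMod.val_one]
    have e1 : x₁ = vec2 t y₁ y₂ (0, 1, 0) := by
      have h := ha₀ (1, 0, 0)
      rw [e0, show app2 (0, 1, 0) (0, 0, 1) (1, 1, 0) (1, 0, 0) = ((0, 1, 0) : V2) by decide] at h
      exact h
    have e2 : x₂ = vec2 t y₁ y₂ (0, 0, 1) := by rw [hx₂, e1, ha₀]; congr 1
    have e1' : x₁ = y₁ := by rw [e1]; simp [vec2, ZMod.val_one]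
    have e2' : x₂ = y₂ := by rw [e2]; simp [vec2, ZMod.val_one]
    rw [e1', e2']; exact B₀
  have ht : t ∈ D.V := B.h₀
  have ha₀' : ∀ v, a₀ * vec2 t x₁ x₂ v * a₀⁻¹ = vec2 t x₁ x₂ (actA2 v) := by
    intro v
    refine D.vec2_conj B.h₀ B.h₁ B.h₂ (by simp [vec2, ZMod.val_one, hx₁]) (by simp [vec2, ZMod.val_one, hx₂]) ?_ v
    have e1 : x₁ = vec2 t y₁ y₂ (0, 1, 0) := by
      have e0 : vec2 t y₁ y₂ (1, 0, 0) = t := by simp [vec2, ZMod.val_one]
      have h := ha₀ (1, 0, 0)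
      rw [e0, show app2 (0, 1, 0) (0, 0, 1) (1, 1, 0) (1, 0, 0) = ((0, 1, 0) : V2) by decide] at h
      exact h
    have e2 : x₂ = vec2 t y₁ y₂ (0, 0, 1) := by rw [hx₂, e1, ha₀]; congr 1
    rw [e2, ha₀, show app2 (0, 1, 0) (0, 0, 1) (1, 1, 0) (0, 0, 1) = (1, 1, 0) by decide]
    have e1' : x₁ = y₁ := by rw [e1]; simp [vec2, ZMod.val_one]
    rw [e1']
    simp [vec2, ZMod.val_one]
  -- the element of order seven
  have hA7 : a₀ ^ 7 ∈ D.A := by
    refine D.mem_A_of_trivial B (pow_mem ha₀M 7) fun v => ?_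
    have h7 : ∀ v, actA2^[7] v = v := by decide
    rw [D.pow_conj_vec ha₀', h7]
  set a := a₀ ^ 64 with hadef
  have a7 : a ^ 7 = 1 := by
    rw [hadef, ← pow_mul, show 64 * 7 = 7 * (4 * 16) by norm_num, pow_mul, pow_mul, D.hexp _ hA7, one_pow]
  have haM : a ∈ D.M := pow_mem ha₀M _
  have ha : ∀ v, a * vec2 t x₁ x₂ v * a⁻¹ = vec2 t x₁ x₂ (actA2 v) := fun v => by
    have h64 : ∀ v, actA2^[64] v = actA2 v := by decide +kernel
    rw [hadef, D.pow_conj_vec ha₀', h64]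
  have fpf : ∀ x ∈ D.A, a * x = x * a → x = 1 := by
    have hV : ∀ x ∈ D.V, a * x = x * a → x = 1 := by
      intro x hx hc
      obtain ⟨v, rfl⟩ := D.vec2_surj B hx
      have h := ha v
      rw [hc, mul_inv_cancel_right] at h
      have hd : ∀ v, actA2 v = v → v = 0 := by decide
      rw [hd v (B.inj h).symm]; simp [vec2]
    intro x hx hc
    have h1 : x ^ 2 = 1 := hV _ ⟨pow_mem hx 2, by rw [← pow_mul]; exact D.hexp x hx⟩
      ((show Commute a x from hc).pow_right 2).eq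
    exact hV x ⟨hx, h1⟩ hc
  -- the element of order three
  obtain ⟨b₀, hb₀M, hb₀⟩ := D.exists_act B (1, 0, 0) (0, 0, 1) (0, 1, 1) (by decide)
  replace hb₀ : ∀ v, b₀ * vec2 t x₁ x₂ v * b₀⁻¹ = vec2 t x₁ x₂ (actB2 v) := hb₀
  have ha2 := D.pow_conj_vec ha 2
  have hβ : b₀ * a * b₀⁻¹ * (a ^ 2)⁻¹ ∈ D.A := by
    refine D.mem_A_of_trivial B (mul_mem (mul_mem (mul_mem hb₀M haM) (inv_mem hb₀M)) (inv_mem (pow_mem haM 2)))
      fun v => ?_
    obtain ⟨u, rfl⟩ : ∃ u, actA2^[2] u = v := by revert v; decide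
    obtain ⟨w, rfl⟩ : ∃ w, actB2 w = u := by revert u; decide
    have key : ∀ w, actA2^[2] (actB2 w) = actB2 (actA2 w) := by decide
    calc b₀ * a * b₀⁻¹ * (a ^ 2)⁻¹ * vec2 t x₁ x₂ (actA2^[2] (actB2 w)) * (b₀ * a * b₀⁻¹ * (a ^ 2)⁻¹)⁻¹
        = b₀ * (a * (b₀⁻¹ * ((a ^ 2)⁻¹ * vec2 t x₁ x₂ (actA2^[2] (actB2 w)) * a ^ 2) * b₀) * a⁻¹) * b₀⁻¹ := by
          group
      _ = b₀ * (a * vec2 t x₁ x₂ w * a⁻¹) * b₀⁻¹ := by
          rw [← ha2 (actB2 w), ← hb₀ w]; congr 2; group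
      _ = _ := by rw [ha, hb₀, key]
  obtain ⟨x, hx, hxeq⟩ : ∃ x ∈ D.A, x * a ^ 2 * x⁻¹ * (a ^ 2)⁻¹ = b₀ * a * b₀⁻¹ * (a ^ 2)⁻¹ := by
    let f : D.A → D.A := fun x => ⟨x.1 * a ^ 2 * x.1⁻¹ * (a ^ 2)⁻¹, by
      rw [mul_assoc, mul_assoc, ← mul_assoc (a ^ 2)]
      exact mul_mem x.2 (D.hnorm _ (pow_mem haM 2) _ (inv_mem x.2))⟩
    have hf : Function.Injective f := by
      intro p q e
      have h : p.1 * a ^ 2 * p.1⁻¹ = q.1 * a ^ 2 * q.1⁻¹ := mul_right_cancel (congrArg Subtype.val e)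
      have hc : a ^ 2 * (q.1⁻¹ * p.1) = q.1⁻¹ * p.1 * a ^ 2 := by
        calc a ^ 2 * (q.1⁻¹ * p.1) = q.1⁻¹ * (q.1 * a ^ 2 * q.1⁻¹) * p.1 := by group
          _ = q.1⁻¹ * (p.1 * a ^ 2 * p.1⁻¹) * p.1 := by rw [h]
          _ = _ := by group
      have hca : a * (q.1⁻¹ * p.1) = q.1⁻¹ * p.1 * a := by
        have := ((show Commute (a ^ 2) (q.1⁻¹ * p.1) from hc).pow_left 4).eq
        rwa [← pow_mul, show 2 * 4 = 7 + 1 by norm_num, pow_succ, a7, one_mul] at this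
      exact Subtype.ext (inv_mul_eq_one.1 (fpf _ (mul_mem (inv_mem q.2) p.2) hca)).symm
    obtain ⟨p, hp⟩ := (Finite.injective_iff_bijective.1 hf).2 ⟨_, hβ⟩
    exact ⟨p.1, p.2, congrArg Subtype.val hp⟩
  replace hxeq := mul_right_cancel hxeq
  set b := x⁻¹ * b₀ with hbdef
  have hbM : b ∈ D.M := mul_mem (inv_mem (D.hAM hx)) hb₀M
  have bab : b * a * b⁻¹ = a ^ 2 := by
    calc b * a * b⁻¹ = x⁻¹ * (b₀ * a * b₀⁻¹) * x := by rw [hbdef]; group
      _ = x⁻¹ * (x * a ^ 2 * x⁻¹) * x := by rw [hxeq]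
      _ = _ := by group
  have hb : ∀ v, b * vec2 t x₁ x₂ v * b⁻¹ = vec2 t x₁ x₂ (actB2 v) := fun v => by
    have hcx : Commute x (vec2 t x₁ x₂ (actB2 v)) := D.hcomm x hx _ (D.vec2_mem B _).1
    calc b * vec2 t x₁ x₂ v * b⁻¹ = x⁻¹ * (b₀ * vec2 t x₁ x₂ v * b₀⁻¹) * x := by rw [hbdef]; group
      _ = x⁻¹ * (vec2 t x₁ x₂ (actB2 v) * x) := by rw [hb₀, mul_assoc]
      _ = _ := by rw [← hcx.eq]; group
  have b3 : b ^ 3 = 1 := by
    refine fpf _ (D.mem_A_of_trivial B (pow_mem hbM 3) fun v => ?_) ?_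
    · have h3 : ∀ v, actB2^[3] v = v := by decide
      rw [D.pow_conj_vec hb, h3]
    · have h1 : ∀ n : ℕ, b ^ n * a * (b ^ n)⁻¹ = a ^ (2 ^ n) := by
        intro n
        induction n with
        | zero => simp
        | succ n ih =>
          calc b ^ (n + 1) * a * (b ^ (n + 1))⁻¹ = b * (b ^ n * a * (b ^ n)⁻¹) * b⁻¹ := by rw [pow_succ']; group
            _ = (b * a * b⁻¹) ^ (2 ^ n) := by rw [ih, conj_pow]
            _ = _ := by rw [bab, ← pow_mul, pow_succ']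
      have := h1 3
      rw [show 2 ^ 3 = 7 + 1 by norm_num, pow_succ a, a7, one_mul, mul_inv_eq_iff_eq_mul] at this
      exact this.symm
  clear_value b a
  -- the fixed square root
  obtain ⟨y, hy, hy2⟩ : ∃ y ∈ D.A, y ^ 2 = t := by
    let s : D.A →* D.V := MonoidHom.mk' (fun p => ⟨p.1 ^ 2, pow_mem p.2 2, by rw [← pow_mul]; exact D.hexp _ p.2⟩)
      fun p q => Subtype.ext ((show Commute p.1 q.1 from D.hcomm _ p.2 _ q.2).mul_pow 2)
    have hk : Nat.card s.ker = 8 := by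
      rw [← D.hinv]
      exact Nat.card_congr
        { toFun := fun p => ⟨p.1.1, p.1.2, congrArg Subtype.val p.2⟩
          invFun := fun p => ⟨⟨p.1, p.2.1⟩, Subtype.ext p.2.2⟩
          left_inv := fun p => rfl
          right_inv := fun p => rfl }
    have hr : s.range = ⊤ := by
      refine Subgroup.eq_top_of_card_eq _ ?_
      have h := s.ker.index_mul_card
      rw [Subgroup.index_ker, hk, D.hcard] at h
      rw [D.card_V]
      omega
    obtain ⟨p, hp⟩ := (hr ▸ Subgroup.mem_top (⟨t, ht⟩ : D.V) : (⟨t, ht⟩ : D.V) ∈ s.range)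
    exact ⟨p.1, p.2, congrArg Subtype.val hp⟩
  set z := y * (b * y * b⁻¹) * (b * (b * y * b⁻¹) * b⁻¹) with hzdef
  have hy1 : b * y * b⁻¹ ∈ D.A := D.hnorm _ hbM _ hy
  have hy2' : b * (b * y * b⁻¹) * b⁻¹ ∈ D.A := D.hnorm _ hbM _ hy1
  have hzA : z ∈ D.A := mul_mem (mul_mem hy hy1) hy2'
  have bz : Commute b z := by
    have e3 : b * (b * (b * y * b⁻¹) * b⁻¹) * b⁻¹ = y := by
      calc b * (b * (b * y * b⁻¹) * b⁻¹) * b⁻¹ = b ^ 3 * y * (b ^ 3)⁻¹ := by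
            simp only [pow_succ, pow_zero, one_mul]; group
        _ = y := by rw [b3]; simp
    refine mul_inv_eq_iff_eq_mul.1 ?_
    calc b * z * b⁻¹ = (b * y * b⁻¹) * (b * (b * y * b⁻¹) * b⁻¹) * (b * (b * (b * y * b⁻¹) * b⁻¹) * b⁻¹) := by
          rw [hzdef]; group
      _ = (b * y * b⁻¹) * (b * (b * y * b⁻¹) * b⁻¹) * y := by rw [e3]
      _ = z := by rw [hzdef, D.hcomm _ (mul_mem hy1 hy2') _ hy, mul_assoc y]
  have hbt : b * t * b⁻¹ = t := by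
    have h := hb (1, 0, 0)
    rw [show actB2 (1, 0, 0) = ((1, 0, 0) : V2) by decide] at h
    simpa [vec2, ZMod.val_one] using h
  have hz2 : z ^ 2 = t := by
    have s1 : (b * y * b⁻¹) ^ 2 = t := by rw [conj_pow, hy2, hbt]
    have s2 : (b * (b * y * b⁻¹) * b⁻¹) ^ 2 = t := by rw [conj_pow, s1, hbt]
    rw [hzdef, (show Commute (y * (b * y * b⁻¹)) _ from D.hcomm _ (mul_mem hy hy1) _ hy2').mul_pow,
      (show Commute y _ from D.hcomm _ hy _ hy1).mul_pow, hy2, s1, s2, D.V_self ht, one_mul]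
  set z1 := a * z * a⁻¹ with hz1def
  set z2 := a * z1 * a⁻¹ with hz2def
  have hz1A : z1 ∈ D.A := D.hnorm _ haM _ hzA
  have hz2A : z2 ∈ D.A := D.hnorm _ haM _ hz1A
  clear_value z
  -- coordinates modulo four
  have one4 : (1 : ZMod 4).val = 1 := rfl
  have hx1sq : z1 ^ 2 = x₁ := by
    have h := ha (1, 0, 0)
    rw [show actA2 (1, 0, 0) = ((0, 1, 0) : V2) by decide] at h
    rw [hz1def, conj_pow, hz2]
    simpa [vec2, ZMod.val_one] using h
  have hx2sq : z2 ^ 2 = x₂ := by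
    have h := ha (0, 1, 0)
    rw [show actA2 (0, 1, 0) = ((0, 0, 1) : V2) by decide] at h
    rw [hz2def, conj_pow, hx1sq]
    simpa [vec2, ZMod.val_one] using h
  let vc : V4 → G := fun v => z ^ v.1.val * z1 ^ v.2.1.val * z2 ^ v.2.2.val
  have hvA : ∀ v, vc v ∈ D.A := fun v => mul_mem (mul_mem (pow_mem hzA _) (pow_mem hz1A _)) (pow_mem hz2A _)
  have hp2 : ∀ {p : G}, p ∈ D.A → ∀ i : ℕ, (p ^ i) ^ 2 = (p ^ 2) ^ ((i : ZMod 2)).val := fun {p} hp i => by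
    rw [← pow_mul, mul_comm, pow_mul, ZMod.val_natCast]
    exact pow_eq_pow_mod i (by rw [← pow_mul]; exact D.hexp _ hp)
  have hsq : ∀ v, vc v ^ 2 = vec2 t x₁ x₂ (red v) := fun v => by
    show (z ^ v.1.val * z1 ^ v.2.1.val * z2 ^ v.2.2.val) ^ 2 = _
    rw [(show Commute (z ^ v.1.val * z1 ^ v.2.1.val) _ from
        D.hcomm _ (mul_mem (pow_mem hzA _) (pow_mem hz1A _)) _ (pow_mem hz2A _)).mul_pow,
      (show Commute (z ^ v.1.val) _ from D.hcomm _ (pow_mem hzA _) _ (pow_mem hz1A _)).mul_pow,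
      hp2 hzA, hp2 hz1A, hp2 hz2A, hz2, hx1sq, hx2sq]
    rfl
  have hdbl : ∀ v, red v = 0 → ∃ u : V4, v = u + u ∧ vc v = vec2 t x₁ x₂ (red u) := by
    intro v hv
    have hd : ∀ v, red v = 0 → ∃ u : V4, v = u + u ∧
        v.1.val = 2 * ((u.1.val : ZMod 2)).val ∧ v.2.1.val = 2 * ((u.2.1.val : ZMod 2)).val ∧
          v.2.2.val = 2 * ((u.2.2.val : ZMod 2)).val := by decide +kernel
    obtain ⟨u, hu, h1, h2, h3⟩ := hd v hv
    refine ⟨u, hu, ?_⟩
    show z ^ v.1.val * z1 ^ v.2.1.val * z2 ^ v.2.2.val = _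
    rw [h1, h2, h3, pow_mul, pow_mul, pow_mul, hz2, hx1sq, hx2sq]
    rfl
  have hzero : ∀ v, vc v = 1 → v = 0 := by
    intro v hv
    have hr : red v = 0 := B.inj (by rw [← hsq, hv, one_pow]; simp [vec2])
    obtain ⟨u, hu, e⟩ := hdbl v hr
    have hru : red u = 0 := B.inj (by rw [← e, hv]; simp [vec2])
    have hd : ∀ u : V4, red u = 0 → u + u = 0 := by decide +kernel
    rw [hu, hd u hru]
  have c01 : Commute z z1 := D.hcomm _ hzA _ hz1A
  have c02 : Commute z z2 := D.hcomm _ hzA _ hz2A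
  have c12 : Commute z1 z2 := D.hcomm _ hz1A _ hz2A
  have z4 : z ^ 4 = 1 := D.hexp _ hzA
  have hadd : ∀ u v, vc (u + v) = vc u * vc v := by
    intro u v
    have e : ∀ {p : G}, p ∈ D.A → ∀ i j : ZMod 4, p ^ (i + j).val = p ^ i.val * p ^ j.val :=
      fun hp i j => Gens.pow_val_add4 (D.hexp _ hp) i j
    simp only [vc, Prod.fst_add, Prod.snd_add, e hzA, e hz1A, e hz2A]
    calc z ^ u.1.val * z ^ v.1.val * (z1 ^ u.2.1.val * z1 ^ v.2.1.val) * (z2 ^ u.2.2.val * z2 ^ v.2.2.val)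
        = z ^ u.1.val * (z ^ v.1.val * z1 ^ u.2.1.val) * ((z1 ^ v.2.1.val * z2 ^ u.2.2.val) * z2 ^ v.2.2.val) := by
          group
      _ = z ^ u.1.val * (z1 ^ u.2.1.val * z ^ v.1.val) * ((z2 ^ u.2.2.val * z1 ^ v.2.1.val) * z2 ^ v.2.2.val) := by
          rw [(c01.pow_pow _ _).eq, (c12.pow_pow _ _).eq]
      _ = z ^ u.1.val * z1 ^ u.2.1.val * (z ^ v.1.val * z2 ^ u.2.2.val) * z1 ^ v.2.1.val * z2 ^ v.2.2.val := by
          group
      _ = z ^ u.1.val * z1 ^ u.2.1.val * (z2 ^ u.2.2.val * z ^ v.1.val) * z1 ^ v.2.1.val * z2 ^ v.2.2.val := by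
          rw [(c02.pow_pow _ _).eq]
      _ = _ := by group
  have hinj : Function.Injective vc := by
    intro u v e
    have h0 : vc (u + (-v)) = 1 := by
      rw [hadd, e, ← hadd, add_neg_cancel]; simp [vc]
    exact add_neg_eq_zero.1 (hzero _ h0)
  have hsurj : ∀ p ∈ D.A, ∃ v, vc v = p := by
    intro p hp
    have hb' : Function.Bijective fun v : V4 => (⟨vc v, hvA v⟩ : D.A) :=
      (Nat.bijective_iff_injective_and_card _).2 ⟨fun u v e => hinj (congrArg Subtype.val e),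
        by rw [D.hcard, Nat.card_eq_fintype_card]; rfl⟩
    obtain ⟨v, hv⟩ := hb'.2 ⟨p, hp⟩
    exact ⟨v, congrArg Subtype.val hv⟩
  have hunit : vc (1, 0, 0) = z ∧ vc (0, 1, 0) = z1 ∧ vc (0, 0, 1) = z2 := by
    simp [vc, one4]
  -- conjugation by an element on the coordinates
  have hconj : ∀ g : G, ∀ e₀ e₁ e₂ : V4, g * z * g⁻¹ = vc e₀ → g * z1 * g⁻¹ = vc e₁ → g * z2 * g⁻¹ = vc e₂ →
      ∀ v, g * vc v * g⁻¹ = vc (app4 e₀ e₁ e₂ v) := by
    intro g e₀ e₁ e₂ f₀ f₁ f₂ v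
    have hnat : ∀ (w : V4) (n : ℕ), vc w ^ n = vc (n • w) := fun w n => by
      induction n with
      | zero => simp [vc]
      | succ n ih => rw [pow_succ, ih, ← hadd, succ_nsmul]
    have hs : ∀ (w : V4) (n : ZMod 4), n.val • w = (n * w.1, n * w.2.1, n * w.2.2) := by decide +kernel
    calc g * vc v * g⁻¹ = (g * z * g⁻¹) ^ v.1.val * (g * z1 * g⁻¹) ^ v.2.1.val * (g * z2 * g⁻¹) ^ v.2.2.val := by
          simp only [vc, conj_pow]
          generalize z1 = p1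
          generalize z2 = p2
          group
      _ = _ := by rw [f₀, f₁, f₂, hnat, hnat, hnat, hs, hs, hs, ← hadd, ← hadd]; rfl
  obtain ⟨α, hα⟩ := hsurj _ (D.hnorm _ haM _ hz2A)
  have hαred : red α = (1, 1, 0) := by
    refine B.inj ?_
    rw [← hsq, hα, conj_pow, hx2sq]
    have h := ha (0, 0, 1)
    rw [show actA2 (0, 0, 1) = ((1, 1, 0) : V2) by decide] at h
    simpa [vec2, ZMod.val_one] using h
  have haact := hconj a (0, 1, 0) (0, 0, 1) α hunit.2.1.symm hunit.2.2.symm hα.symm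
  have hα' : α = (1, 3, 2) := by
    have hit : ∀ n v, a ^ n * vc v * (a ^ n)⁻¹ = vc ((app4 (0, 1, 0) (0, 0, 1) α)^[n] v) := by
      intro n
      induction n with
      | zero => intro v; simp
      | succ n ih =>
        intro v
        rw [Function.iterate_succ_apply', ← haact, ← ih, pow_succ']
        group
    have h7 := hit 7 (1, 0, 0)
    rw [a7, inv_one, mul_one, one_mul] at h7
    have hd : ∀ α : V4, red α = (1, 1, 0) → (app4 (0, 1, 0) (0, 0, 1) α)^[7] (1, 0, 0) = (1, 0, 0) →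
        α = (1, 3, 2) := by decide +kernel
    exact hd α hαred (hinj h7).symm
  subst hα'
  replace haact : ∀ v, a * vc v * a⁻¹ = vc (actA v) := haact
  have b_z : b * z * b⁻¹ = z := by rw [bz.eq, mul_inv_cancel_right]
  have b_z1 : b * z1 * b⁻¹ = z2 := by
    calc b * z1 * b⁻¹ = (b * a * b⁻¹) * (b * z * b⁻¹) * (b * a * b⁻¹)⁻¹ := by rw [hz1def]; group
      _ = z2 := by rw [bab, b_z, hz2def, hz1def, pow_two]; group
  have b_z2 : b * z2 * b⁻¹ = vc (2, 3, 3) := by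
    calc b * z2 * b⁻¹ = (b * a * b⁻¹) * (b * z1 * b⁻¹) * (b * a * b⁻¹)⁻¹ := by rw [hz2def]; group
      _ = a * (a * z2 * a⁻¹) * a⁻¹ := by rw [bab, b_z1, pow_two]; group
      _ = _ := by rw [← hunit.2.2, haact, haact]; congr 1
  have hbact : ∀ v, b * vc v * b⁻¹ = vc (actB v) :=
    hconj b (1, 0, 0) (0, 0, 1) (2, 3, 3) (by rw [b_z, hunit.1]) (by rw [b_z1, hunit.2.2]) b_z2
  -- the involution
  obtain ⟨c₀, hc₀M, hc₀⟩ := D.exists_act B (1, 0, 0) (0, 0, 1) (0, 1, 0) (by decide)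
  replace hc₀ : ∀ v, c₀ * vec2 t x₁ x₂ v * c₀⁻¹ = vec2 t x₁ x₂ (actC2 v) := hc₀
  have hβc : c₀ * b * c₀⁻¹ * b ∈ D.A := by
    refine D.mem_A_of_trivial B (mul_mem (mul_mem (mul_mem hc₀M hbM) (inv_mem hc₀M)) hbM) fun v => ?_
    obtain ⟨u, hu⟩ : ∃ u, actC2 u = actB2 v := by revert v; decide
    have key : ∀ v u, actC2 u = actB2 v → actC2 (actB2 u) = v := by decide
    calc c₀ * b * c₀⁻¹ * b * vec2 t x₁ x₂ v * (c₀ * b * c₀⁻¹ * b)⁻¹
        = c₀ * (b * (c₀⁻¹ * (b * vec2 t x₁ x₂ v * b⁻¹) * c₀) * b⁻¹) * c₀⁻¹ := by group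
      _ = c₀ * (b * vec2 t x₁ x₂ u * b⁻¹) * c₀⁻¹ := by rw [hb, ← hu, ← hc₀]; congr 2; group
      _ = _ := by rw [hb, hc₀, key v u hu]
  obtain ⟨β, hβ'⟩ := hsurj _ hβc
  have hn3 : vc (β + actB (actB β) + actB β) = 1 := by
    have e : c₀ * b * c₀⁻¹ = vc β * b⁻¹ := by rw [hβ']; group
    have h3 : (vc β * b⁻¹) ^ 3 = 1 := by rw [← e, conj_pow, b3, mul_one, mul_inv_cancel]
    have bi : b⁻¹ = b * b := inv_eq_of_mul_eq_one_right (by rw [← b3, pow_succ, pow_two, mul_assoc])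
    rw [hadd, hadd, ← hbact, ← hbact, ← h3]
    calc vc β * (b * (b * vc β * b⁻¹) * b⁻¹) * (b * vc β * b⁻¹)
        = vc β * (b * b) * vc β * b⁻¹ * vc β * b⁻¹ := by group
      _ = vc β * b⁻¹ * vc β * b⁻¹ * vc β * b⁻¹ := by rw [← bi]
      _ = _ := by simp only [pow_succ, pow_zero, one_mul]; group
  obtain ⟨p, hp⟩ : ∃ p, p + actB (actB (-p)) = β := by
    have hd : ∀ β : V4, β + actB (actB β) + actB β = 0 → ∃ p, p + actB (actB (-p)) = β := by decide +kernel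
    exact hd β (hzero _ hn3)
  set c := (vc p)⁻¹ * c₀ with hcdef
  have hcM : c ∈ D.M := mul_mem (inv_mem (D.hAM (hvA p))) hc₀M
  have cbc : c * b * c⁻¹ = b⁻¹ := by
    have e : c₀ * b * c₀⁻¹ = vc β * b⁻¹ := by rw [hβ']; group
    have hneg : vc (-p) = (vc p)⁻¹ := eq_inv_of_mul_eq_one_right (by rw [← hadd, add_neg_cancel]; simp [vc])
    have hbb : vc (actB (actB (-p))) = b⁻¹ * (vc p)⁻¹ * b := by
      rw [← hbact, ← hbact, hneg]
      have bi : b⁻¹ = b * b := inv_eq_of_mul_eq_one_right (by rw [← b3, pow_succ, pow_two, mul_assoc])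
      calc b * (b * (vc p)⁻¹ * b⁻¹) * b⁻¹ = (b * b) * (vc p)⁻¹ * (b * b)⁻¹ := by group
        _ = _ := by rw [← bi, inv_inv]
    calc c * b * c⁻¹ = (vc p)⁻¹ * (c₀ * b * c₀⁻¹) * vc p := by rw [hcdef]; group
      _ = (vc p)⁻¹ * (vc p * (b⁻¹ * (vc p)⁻¹ * b) * b⁻¹) * vc p := by rw [e, ← hp, hadd, hbb]
      _ = _ := by group
  have hc2act : ∀ v, c * vec2 t x₁ x₂ v * c⁻¹ = vec2 t x₁ x₂ (actC2 v) := fun v => by
    have hcx : Commute (vc p) (vec2 t x₁ x₂ (actC2 v)) := D.hcomm _ (hvA p) _ (D.vec2_mem B _).1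
    calc c * vec2 t x₁ x₂ v * c⁻¹ = (vc p)⁻¹ * (c₀ * vec2 t x₁ x₂ v * c₀⁻¹) * vc p := by rw [hcdef]; group
      _ = (vc p)⁻¹ * (vec2 t x₁ x₂ (actC2 v) * vc p) := by rw [hc₀, mul_assoc]
      _ = _ := by rw [← hcx.eq]; group
  obtain ⟨e₀, he₀⟩ := hsurj _ (D.hnorm _ hcM _ hzA)
  obtain ⟨e₁, he₁⟩ := hsurj _ (D.hnorm _ hcM _ hz1A)
  have he₀red : red e₀ = (1, 0, 0) := by
    refine B.inj ?_
    rw [← hsq, he₀, conj_pow, hz2]
    have h := hc2act (1, 0, 0)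
    rw [show actC2 (1, 0, 0) = ((1, 0, 0) : V2) by decide] at h
    simpa [vec2, ZMod.val_one] using h
  have he₁red : red e₁ = (0, 0, 1) := by
    refine B.inj ?_
    rw [← hsq, he₁, conj_pow, hx1sq]
    have h := hc2act (0, 1, 0)
    rw [show actC2 (0, 1, 0) = ((0, 0, 1) : V2) by decide] at h
    simpa [vec2, ZMod.val_one] using h
  have cz2 : c * z2 * c⁻¹ = vc (actB (actB e₁)) := by
    have bi : b⁻¹ = b * b := inv_eq_of_mul_eq_one_right (by rw [← b3, pow_succ, pow_two, mul_assoc])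
    rw [← b_z1, ← hbact, ← hbact, he₁]
    calc c * (b * z1 * b⁻¹) * c⁻¹ = (c * b * c⁻¹) * (c * z1 * c⁻¹) * (c * b * c⁻¹)⁻¹ := by group
      _ = (b * b) * (c * z1 * c⁻¹) * (b * b)⁻¹ := by rw [cbc, bi]
      _ = _ := by group
  have hcact := hconj c e₀ e₁ (actB (actB e₁)) he₀.symm he₁.symm cz2
  have hfixb : actB e₀ = e₀ := hinj (by
    rw [← hbact, he₀]
    calc b * (c * z * c⁻¹) * b⁻¹ = c * ((c⁻¹ * b * c) * z * (c⁻¹ * b * c)⁻¹) * c⁻¹ := by group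
      _ = c * (b⁻¹ * z * b) * c⁻¹ := by
          rw [show c⁻¹ * b * c = b⁻¹ from by
            calc c⁻¹ * b * c = c⁻¹ * (b⁻¹)⁻¹ * c := by rw [inv_inv]
              _ = c⁻¹ * (c * b * c⁻¹)⁻¹ * c := by rw [cbc]
              _ = b⁻¹ := by group, inv_inv]
      _ = c * z * c⁻¹ := by rw [mul_assoc b⁻¹, ← bz.eq, inv_mul_cancel_left])
  have hc2A : c * c ∈ D.A := by
    refine D.mem_A_of_trivial B (mul_mem hcM hcM) fun v => ?_
    have h2 : ∀ v, actC2 (actC2 v) = v := by decide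
    calc c * c * vec2 t x₁ x₂ v * (c * c)⁻¹ = c * (c * vec2 t x₁ x₂ v * c⁻¹) * c⁻¹ := by group
      _ = _ := by rw [hc2act, hc2act, h2]
  have hC2 : ∀ v, app4 e₀ e₁ (actB (actB e₁)) (app4 e₀ e₁ (actB (actB e₁)) v) = v := fun v => hinj (by
    rw [← hcact, ← hcact]
    calc c * (c * vc v * c⁻¹) * c⁻¹ = (c * c) * vc v * (c * c)⁻¹ := by group
      _ = vc v := by rw [D.hcomm _ hc2A _ (hvA v), mul_inv_cancel_right])
  have hac : ∀ v, (a * c) * vc v * (a * c)⁻¹ = vc (actA (app4 e₀ e₁ (actB (actB e₁)) v)) := fun v => by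
    rw [← haact, ← hcact]; group
  have hacA : (a * c) ^ 3 ∈ D.A := by
    refine D.mem_A_of_trivial B (pow_mem (mul_mem haM hcM) 3) fun v => ?_
    have h3 : ∀ v, actA2 (actC2 (actA2 (actC2 (actA2 (actC2 v))))) = v := by decide
    calc (a * c) ^ 3 * vec2 t x₁ x₂ v * ((a * c) ^ 3)⁻¹
        = a * (c * (a * (c * (a * (c * vec2 t x₁ x₂ v * c⁻¹) * a⁻¹) * c⁻¹) * a⁻¹) * c⁻¹) * a⁻¹ := by
          rw [pow_succ, pow_two]; group
      _ = _ := by rw [hc2act, ha, hc2act, ha, hc2act, ha, h3]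
  have hAC3 : ∀ v, (fun v => actA (app4 e₀ e₁ (actB (actB e₁)) v))^[3] v = v := fun v => hinj (by
    simp only [Function.iterate_succ, Function.iterate_zero, Function.comp_apply, id_eq]
    rw [← hac, ← hac, ← hac]
    calc a * c * (a * c * (a * c * vc v * (a * c)⁻¹) * (a * c)⁻¹) * (a * c)⁻¹
        = (a * c) ^ 3 * vc v * ((a * c) ^ 3)⁻¹ := by rw [pow_succ, pow_two]; group
      _ = vc v := by rw [D.hcomm _ hacA _ (hvA v), mul_inv_cancel_right])
  have heC : e₀ = (3, 0, 0) ∧ e₁ = (0, 0, 1) := by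
    exact e1_cases e₀ (by rcases e0_cases e₀ he₀red hfixb with rfl | rfl <;> simp) e₁ he₁red (hC2 _) (hAC3 _) (hAC3 _) (hAC3 _)
  obtain ⟨rfl, rfl⟩ := heC
  replace hcact : ∀ v, c * vc v * c⁻¹ = vc (actC v) := hcact
  have czc : c * z * c⁻¹ = z⁻¹ := by
    rw [← he₀]
    refine eq_inv_of_mul_eq_one_left ?_
    show vc (3, 0, 0) * z = 1
    rw [← hunit.1, ← hadd]; simp [vc, show ((3 : ZMod 4) + 1) = 0 from rfl]
  have c_sq : c * c = 1 ∨ c * c = z ^ 2 := by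
    obtain ⟨q, hq⟩ := hsurj _ hc2A
    have hbq : actB q = q := hinj (by
      rw [← hbact, hq]
      have h1 : b * c = c * b⁻¹ := by
        calc b * c = (c * b * c⁻¹)⁻¹ * c := by rw [cbc, inv_inv]
          _ = _ := by group
      have h2 : b⁻¹ * c = c * b := by rw [← cbc, inv_mul_cancel_right]
      calc b * (c * c) * b⁻¹ = (b * c) * (c * b⁻¹) := by group
        _ = c * ((b⁻¹ * c) * b⁻¹) := by rw [h1]; group
        _ = c * c := by rw [h2, mul_inv_cancel_right])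
    have hcq : actC q = q := hinj (by rw [← hcact, hq]; group)
    have hd : ∀ q : V4, actB q = q → actC q = q → q = 0 ∨ q = (2, 0, 0) := by decide +kernel
    rcases hd q hbq hcq with rfl | rfl
    · left; rw [← hq]; simp [vc]
    · right; rw [← hq]; simp [vc, show (2 : ZMod 4).val = 2 from rfl]
  have ac3 : ∃ k : ℕ, (a * c) ^ 3 = z2 ^ k := by
    obtain ⟨q, hq⟩ := hsurj _ hacA
    have hfix : actA (actC q) = q := hinj (by rw [← haact, ← hcact, hq, pow_succ, pow_two]; group)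
    have hd : ∀ q : V4, actA (actC q) = q → q.1 = 0 ∧ q.2.1 = 0 := by decide +kernel
    obtain ⟨h1, h2⟩ := hd q hfix
    exact ⟨q.2.2.val, by rw [← hq]; simp [vc, h1, h2]⟩
  let F : Gens G :=
    { z := z, a := a, b := b, c := c, z4 := z4, c01 := c01, c02 := c02, c12 := c12
      az2 := by
        show a * z2 * a⁻¹ = z * z1 ^ 3 * z2 ^ 2
        rw [← hunit.2.2, haact, show actA (0, 0, 1) = ((1, 3, 2) : V4) by decide]
        simp [vc, show (3 : ZMod 4).val = 3 from rfl, show (2 : ZMod 4).val = 2 from rfl, one4]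
      a7 := a7, b3 := b3, bab := bab, bz := bz, c_sq := c_sq, cbc := cbc, czc := czc
      cz1 := by
        show c * z1 * c⁻¹ = z2
        rw [← hunit.2.1, hcact, show actC (0, 1, 0) = ((0, 0, 1) : V4) by decide, hunit.2.2]
      ac3 := ac3 }
  refine ⟨F, hz2, hvA, hinj, hsurj, haM, hbM, hcM, le_antisymm ?_ ?_⟩
  · rw [Subgroup.closure_le]
    rintro g (rfl | rfl | rfl | rfl)
    exacts [D.hAM hzA, haM, hbM, hcM]
  · set L := Subgroup.closure ({F.z, F.a, F.b, F.c} : Set G) with hL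
    have hzL : z ∈ L := Subgroup.subset_closure (Or.inl rfl)
    have haL : a ∈ L := Subgroup.subset_closure (Or.inr (Or.inl rfl))
    have hbL : b ∈ L := Subgroup.subset_closure (Or.inr (Or.inr (Or.inl rfl)))
    have hcL : c ∈ L := Subgroup.subset_closure (Or.inr (Or.inr (Or.inr rfl)))
    have hAL : ∀ p ∈ D.A, p ∈ L := by
      intro p hp
      obtain ⟨v, rfl⟩ := hsurj p hp
      have h1 : z1 ∈ L := mul_mem (mul_mem haL hzL) (inv_mem haL)
      exact mul_mem (mul_mem (pow_mem hzL _) (pow_mem h1 _)) (pow_mem (mul_mem (mul_mem haL h1) (inv_mem haL)) _)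
    have hreach : ∀ n, ∀ f ∈ reach n, ∃ g ∈ L, g ∈ D.M ∧ g * t * g⁻¹ = vec2 t x₁ x₂ f.1 ∧
        g * x₁ * g⁻¹ = vec2 t x₁ x₂ f.2.1 ∧ g * x₂ * g⁻¹ = vec2 t x₁ x₂ f.2.2 := by
      intro n
      induction n with
      | zero =>
        intro f hf
        simp only [reach, List.mem_singleton] at hf
        subst hf
        exact ⟨1, one_mem _, one_mem _, by simp [vec2, ZMod.val_one], by simp [vec2, ZMod.val_one],
          by simp [vec2, ZMod.val_one]⟩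
      | succ n ih =>
        intro f hf
        simp only [reach, List.mem_eraseDups, List.mem_append, List.mem_flatMap, List.mem_map] at hf
        rcases hf with hf | ⟨g, hg, f', hf', rfl⟩
        · exact ih f hf
        · obtain ⟨k, hkL, hkM, k0, k1, k2⟩ := ih f' hf'
          obtain ⟨l, hlL, hlM, hl⟩ : ∃ l ∈ L, l ∈ D.M ∧ ∀ v, l * vec2 t x₁ x₂ v * l⁻¹ = vec2 t x₁ x₂ (g v) := by
            simp only [List.mem_cons, List.not_mem_nil, or_false] at hg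
            rcases hg with rfl | rfl | rfl
            exacts [⟨a, haL, haM, ha⟩, ⟨b, hbL, hbM, hb⟩, ⟨c, hcL, hcM, hc2act⟩]
          refine ⟨l * k, mul_mem hlL hkL, mul_mem hlM hkM, ?_, ?_, ?_⟩
          · show l * k * t * (l * k)⁻¹ = vec2 t x₁ x₂ (g f'.1)
            rw [← hl, ← k0]; group
          · show l * k * x₁ * (l * k)⁻¹ = vec2 t x₁ x₂ (g f'.2.1)
            rw [← hl, ← k1]; group
          · show l * k * x₂ * (l * k)⁻¹ = vec2 t x₁ x₂ (g f'.2.2)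
            rw [← hl, ← k2]; group
    intro g hg
    obtain ⟨i0, hi0⟩ := D.vec2_surj B (D.V_conj hg B.h₀)
    obtain ⟨i1, hi1⟩ := D.vec2_surj B (D.V_conj hg B.h₁)
    obtain ⟨i2, hi2⟩ := D.vec2_surj B (D.V_conj hg B.h₂)
    have hgood : ∀ v, app2 i0 i1 i2 v = 0 → v = 0 := fun v hv => by
      have h := D.vec2_conj B.h₀ B.h₁ B.h₂ hi0.symm hi1.symm hi2.symm v
      rw [hv, show vec2 t x₁ x₂ (0 : V2) = 1 by simp [vec2], mul_inv_eq_one, mul_eq_left] at h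
      exact B.inj (h.trans (by simp [vec2]))
    obtain ⟨k, hkL, hkM, k0, k1, k2⟩ := hreach 9 _ (reach_all (i0, i1, i2) hgood)
    have hAk : k⁻¹ * g ∈ D.A := by
      refine D.mem_A_of_trivial B (mul_mem (inv_mem hkM) hg) fun v => ?_
      have e1 := D.vec2_conj B.h₀ B.h₁ B.h₂ hi0.symm hi1.symm hi2.symm v
      have e2 := D.vec2_conj B.h₀ B.h₁ B.h₂ k0 k1 k2 v
      calc k⁻¹ * g * vec2 t x₁ x₂ v * (k⁻¹ * g)⁻¹ = k⁻¹ * (g * vec2 t x₁ x₂ v * g⁻¹) * k := by group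
        _ = k⁻¹ * (k * vec2 t x₁ x₂ v * k⁻¹) * k := by rw [e1, e2]
        _ = _ := by group
    have : g = k * (k⁻¹ * g) := by group
    rw [this]
    exact mul_mem hkL (hAL _ hAk)

end MData

end CfsgLib.Spor.HSType
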