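import Mathlib.GroupTheory.Sylow
import Mathlib.Data.ZMod.Basic

/-!
# Generators of the two-local subgroup `4³.GL(3,2)`

From a normal homocyclic subgroup `A` of order 64 and exponent 4 with quotient of order 168 acting faithfully
on its involutions, and a chosen involution `t` in it, we obtain `z, a, b, c` with `z² = t`, the conjugates
`z, a z a⁻¹, a² z a⁻²` a basis of `A`, `⟨a, b⟩` of order 21 and explicit actions of `a, b, c` on the basis.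
-/

set_option autoImplicit false
set_option maxRecDepth 100000

namespace CfsgLib.Spor.HSType

open Subgroup

/-- Coordinate vectors modulo four. -/
abbrev V4 : Type := ZMod 4 × ZMod 4 × ZMod 4

/-- Coordinate vectors modulo two. -/
abbrev V2 : Type := ZMod 2 × ZMod 2 × ZMod 2

/-- The map with the given images of the unit vectors, modulo four. -/
def app4 (e₀ e₁ e₂ v : V4) : V4 :=
  (v.1 * e₀.1 + v.2.1 * e₁.1 + v.2.2 * e₂.1, v.1 * e₀.2.1 + v.2.1 * e₁.2.1 + v.2.2 * e₂.2.1,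
    v.1 * e₀.2.2 + v.2.1 * e₁.2.2 + v.2.2 * e₂.2.2)

/-- The map with the given images of the unit vectors, modulo two. -/
def app2 (e₀ e₁ e₂ v : V2) : V2 :=
  (v.1 * e₀.1 + v.2.1 * e₁.1 + v.2.2 * e₂.1, v.1 * e₀.2.1 + v.2.1 * e₁.2.1 + v.2.2 * e₂.2.1,
    v.1 * e₀.2.2 + v.2.1 * e₁.2.2 + v.2.2 * e₂.2.2)

/-- Reduction modulo two. -/
def red (v : V4) : V2 := ((v.1.val : ZMod 2), (v.2.1.val : ZMod 2), (v.2.2.val : ZMod 2))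

/-- The input: the normal subgroup, the local subgroup and the involution. -/
structure MData (G : Type*) [Group G] (t : G) where
  M : Subgroup G
  A : Subgroup G
  hAM : A ≤ M
  hnorm : ∀ g ∈ M, ∀ x ∈ A, g * x * g⁻¹ ∈ A
  hcomm : ∀ x ∈ A, ∀ y ∈ A, x * y = y * x
  hexp : ∀ x ∈ A, x ^ 4 = 1
  hcard : Nat.card A = 64
  hinv : Nat.card {x : G // x ∈ A ∧ x ^ 2 = 1} = 8
  hMcard : Nat.card M = 10752
  hfaith : ∀ g ∈ M, (∀ x ∈ A, x ^ 2 = 1 → g * x = x * g) → g ∈ A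
  ht : t ∈ A
  ht2 : t ^ 2 = 1
  ht1 : t ≠ 1

namespace MData

variable {G : Type*} [Group G] {t : G} (D : MData G t)

/-- The involutions with the identity. -/
def V : Subgroup G where
  carrier := {x | x ∈ D.A ∧ x ^ 2 = 1}
  one_mem' := ⟨one_mem _, one_pow _⟩
  mul_mem' := fun {x y} hx hy => ⟨mul_mem hx.1 hy.1, by
    rw [(show Commute x y from D.hcomm x hx.1 y hy.1).mul_pow, hx.2, hy.2, one_mul]⟩
  inv_mem' := fun {x} hx => ⟨inv_mem hx.1, by rw [inv_pow, hx.2, inv_one]⟩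

theorem mem_V {x : G} : x ∈ D.V ↔ x ∈ D.A ∧ x ^ 2 = 1 := Iff.rfl

theorem card_V : Nat.card D.V = 8 := D.hinv

theorem V_conj {g x : G} (hg : g ∈ D.M) (hx : x ∈ D.V) : g * x * g⁻¹ ∈ D.V :=
  ⟨D.hnorm g hg x hx.1, by rw [conj_pow, hx.2, mul_one, mul_inv_cancel]⟩

theorem V_comm {x y : G} (hx : x ∈ D.V) (hy : y ∈ D.V) : x * y = y * x := D.hcomm x hx.1 y hy.1

theorem V_self {x : G} (hx : x ∈ D.V) : x * x = 1 := by rw [← pow_two]; exact hx.2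

/-- The product with coordinates modulo two. -/
def vec2 (x₀ x₁ x₂ : G) (v : V2) : G := x₀ ^ v.1.val * x₁ ^ v.2.1.val * x₂ ^ v.2.2.val

theorem pow_val_add {x : G} (hx : x ^ 2 = 1) (a b : ZMod 2) : x ^ (a + b).val = x ^ a.val * x ^ b.val := by
  rw [ZMod.val_add, ← pow_eq_pow_mod _ hx, pow_add]

theorem vec2_add {x₀ x₁ x₂ : G} (h₀ : x₀ ∈ D.V) (h₁ : x₁ ∈ D.V) (h₂ : x₂ ∈ D.V) (u v : V2) :
    vec2 x₀ x₁ x₂ (u + v) = vec2 x₀ x₁ x₂ u * vec2 x₀ x₁ x₂ v := by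
  simp only [vec2, Prod.fst_add, Prod.snd_add, pow_val_add h₀.2, pow_val_add h₁.2, pow_val_add h₂.2]
  have c01 : ∀ i j : ℕ, Commute (x₀ ^ i) (x₁ ^ j) := fun i j =>
    (show Commute x₀ x₁ from D.V_comm h₀ h₁).pow_pow i j
  have c02 : ∀ i j : ℕ, Commute (x₀ ^ i) (x₂ ^ j) := fun i j =>
    (show Commute x₀ x₂ from D.V_comm h₀ h₂).pow_pow i j
  have c12 : ∀ i j : ℕ, Commute (x₁ ^ i) (x₂ ^ j) := fun i j =>
    (show Commute x₁ x₂ from D.V_comm h₁ h₂).pow_pow i j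
  calc x₀ ^ u.1.val * x₀ ^ v.1.val * (x₁ ^ u.2.1.val * x₁ ^ v.2.1.val) * (x₂ ^ u.2.2.val * x₂ ^ v.2.2.val)
      = x₀ ^ u.1.val * (x₀ ^ v.1.val * x₁ ^ u.2.1.val) * ((x₁ ^ v.2.1.val * x₂ ^ u.2.2.val) * x₂ ^ v.2.2.val) := by
        group
    _ = x₀ ^ u.1.val * (x₁ ^ u.2.1.val * x₀ ^ v.1.val) * ((x₂ ^ u.2.2.val * x₁ ^ v.2.1.val) * x₂ ^ v.2.2.val) := by
        rw [(c01 _ _).eq, (c12 _ _).eq]
    _ = x₀ ^ u.1.val * x₁ ^ u.2.1.val * (x₀ ^ v.1.val * x₂ ^ u.2.2.val) * x₁ ^ v.2.1.val * x₂ ^ v.2.2.val := by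
        group
    _ = x₀ ^ u.1.val * x₁ ^ u.2.1.val * (x₂ ^ u.2.2.val * x₀ ^ v.1.val) * x₁ ^ v.2.1.val * x₂ ^ v.2.2.val := by
        rw [(c02 _ _).eq]
    _ = _ := by group

theorem zmod2_cases : ∀ a : ZMod 2, a = 0 ∨ a = 1 := by decide

theorem vec2_smul {x₀ x₁ x₂ : G} (h₀ : x₀ ∈ D.V) (h₁ : x₁ ∈ D.V) (h₂ : x₂ ∈ D.V) (a : ZMod 2) (v : V2) :
    vec2 x₀ x₁ x₂ v ^ a.val = vec2 x₀ x₁ x₂ (a * v.1, a * v.2.1, a * v.2.2) := by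
  rcases zmod2_cases a with rfl | rfl
  · simp [vec2]
  · simp [vec2, ZMod.val_one]

theorem vec2_conj {x₀ x₁ x₂ : G} (h₀ : x₀ ∈ D.V) (h₁ : x₁ ∈ D.V) (h₂ : x₂ ∈ D.V) {g : G} {e₀ e₁ e₂ : V2}
    (f₀ : g * x₀ * g⁻¹ = vec2 x₀ x₁ x₂ e₀) (f₁ : g * x₁ * g⁻¹ = vec2 x₀ x₁ x₂ e₁)
    (f₂ : g * x₂ * g⁻¹ = vec2 x₀ x₁ x₂ e₂) (v : V2) :
    g * vec2 x₀ x₁ x₂ v * g⁻¹ = vec2 x₀ x₁ x₂ (app2 e₀ e₁ e₂ v) := by
  have : g * vec2 x₀ x₁ x₂ v * g⁻¹ =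
      (g * x₀ * g⁻¹) ^ v.1.val * (g * x₁ * g⁻¹) ^ v.2.1.val * (g * x₂ * g⁻¹) ^ v.2.2.val := by
    rw [conj_pow, conj_pow, conj_pow]; simp only [vec2]; group
  rw [this, f₀, f₁, f₂, D.vec2_smul h₀ h₁ h₂, D.vec2_smul h₀ h₁ h₂, D.vec2_smul h₀ h₁ h₂,
    ← D.vec2_add h₀ h₁ h₂, ← D.vec2_add h₀ h₁ h₂]
  rfl

/-- A basis of the involutions starting at the given one. -/
structure Basis2 (x₀ x₁ x₂ : G) : Prop where
  h₀ : x₀ ∈ D.V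
  h₁ : x₁ ∈ D.V
  h₂ : x₂ ∈ D.V
  inj : Function.Injective (vec2 x₀ x₁ x₂)

variable [Finite G]

theorem exists_basis : ∃ x₁ x₂, D.Basis2 t x₁ x₂ := by
  have ht : t ∈ D.V := ⟨D.ht, D.ht2⟩
  have big : ∀ {n : ℕ} (f : Fin n → D.V), n < 8 → ∃ x : D.V, ∀ i, f i ≠ x := by
    intro n f hn
    by_contra h
    push_neg at h
    have := Nat.card_le_card_of_surjective f h
    rw [D.card_V, Nat.card_fin] at this
    omega
  obtain ⟨⟨x₁, h₁⟩, hx₁⟩ := big (fun i : Fin 2 => ![1, (⟨t, ht⟩ : D.V)] i) (by norm_num)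
  obtain ⟨⟨x₂, h₂⟩, hx₂⟩ := big (fun i : Fin 4 => ![1, (⟨t, ht⟩ : D.V), ⟨x₁, h₁⟩, ⟨t * x₁, mul_mem ht h₁⟩] i)
    (by norm_num)
  refine ⟨x₁, x₂, ht, h₁, h₂, ?_⟩
  have key : ∀ v : V2, vec2 t x₁ x₂ v = 1 → v = 0 := by
    intro v hv
    obtain ⟨a, b, c⟩ := v
    have hne : x₁ ≠ 1 ∧ x₁ ≠ t ∧ x₂ ≠ 1 ∧ x₂ ≠ t ∧ x₂ ≠ x₁ ∧ x₂ ≠ t * x₁ :=
      ⟨fun h => hx₁ 0 (Subtype.ext h.symm), fun h => hx₁ 1 (Subtype.ext h.symm),
        fun h => hx₂ 0 (Subtype.ext h.symm), fun h => hx₂ 1 (Subtype.ext h.symm),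
        fun h => hx₂ 2 (Subtype.ext h.symm), fun h => hx₂ 3 (Subtype.ext h.symm)⟩
    have it : t⁻¹ = t := inv_eq_of_mul_eq_one_right (D.V_self ht)
    have i1 : x₁⁻¹ = x₁ := inv_eq_of_mul_eq_one_right (D.V_self h₁)
    have i2 : x₂⁻¹ = x₂ := inv_eq_of_mul_eq_one_right (D.V_self h₂)
    have e1 : ((1 : ZMod 2)).val = 1 := rfl
    rcases zmod2_cases a with rfl | rfl <;>
      rcases zmod2_cases b with rfl | rfl <;>
        rcases zmod2_cases c with rfl | rfl <;>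
          simp only [vec2, e1, ZMod.val_zero, pow_zero, pow_one, one_mul, mul_one] at hv
    · rfl
    · exact absurd hv hne.2.2.1
    · exact absurd hv hne.1
    · exact absurd (by rw [eq_inv_of_mul_eq_one_right hv, i1]) hne.2.2.2.2.1
    · exact absurd hv D.ht1
    · exact absurd (by rw [eq_inv_of_mul_eq_one_right hv, it]) hne.2.2.2.1
    · exact absurd (by rw [eq_inv_of_mul_eq_one_right hv, it]) hne.2.1
    · exact absurd (by rw [eq_inv_of_mul_eq_one_right hv, mul_inv_rev, it, i1, D.V_comm h₁ ht]) hne.2.2.2.2.2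
  intro u v e
  have hd : ∀ u v : V2, u + v = 0 → u = v := by decide
  refine hd u v (key _ ?_)
  rw [D.vec2_add ht h₁ h₂, e]
  exact D.V_self (mul_mem (mul_mem (pow_mem ht _) (pow_mem h₁ _)) (pow_mem h₂ _))

omit [Finite G] in
theorem vec2_mem {x₀ x₁ x₂ : G} (B : D.Basis2 x₀ x₁ x₂) (v : V2) : vec2 x₀ x₁ x₂ v ∈ D.V :=
  mul_mem (mul_mem (pow_mem B.h₀ _) (pow_mem B.h₁ _)) (pow_mem B.h₂ _)

theorem vec2_surj {x₀ x₁ x₂ : G} (B : D.Basis2 x₀ x₁ x₂) {x : G} (hx : x ∈ D.V) :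
    ∃ v, vec2 x₀ x₁ x₂ v = x := by
  have hi : Function.Injective fun v : V2 => (⟨vec2 x₀ x₁ x₂ v, D.vec2_mem B v⟩ : D.V) :=
    fun u v e => B.inj (congrArg Subtype.val e)
  have := (Nat.bijective_iff_injective_and_card _).2 ⟨hi, by rw [D.card_V, Nat.card_eq_fintype_card]; rfl⟩
  obtain ⟨v, hv⟩ := this.2 ⟨x, hx⟩
  exact ⟨v, congrArg Subtype.val hv⟩

/-- Every invertible matrix is realised. -/
theorem exists_act {x₀ x₁ x₂ : G} (B : D.Basis2 x₀ x₁ x₂) (e₀ e₁ e₂ : V2)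
    (he : ∀ v, app2 e₀ e₁ e₂ v = 0 → v = 0) :
    ∃ g ∈ D.M, ∀ v, g * vec2 x₀ x₁ x₂ v * g⁻¹ = vec2 x₀ x₁ x₂ (app2 e₀ e₁ e₂ v) := by
  classical
  have hsur : ∀ g : D.M, ∃ f : V2 × V2 × V2, g.1 * x₀ * g.1⁻¹ = vec2 x₀ x₁ x₂ f.1 ∧
      g.1 * x₁ * g.1⁻¹ = vec2 x₀ x₁ x₂ f.2.1 ∧ g.1 * x₂ * g.1⁻¹ = vec2 x₀ x₁ x₂ f.2.2 := fun g => by
    obtain ⟨a, ha⟩ := D.vec2_surj B (D.V_conj g.2 B.h₀)
    obtain ⟨b, hb⟩ := D.vec2_surj B (D.V_conj g.2 B.h₁)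
    obtain ⟨c, hc⟩ := D.vec2_surj B (D.V_conj g.2 B.h₂)
    exact ⟨(a, b, c), ha.symm, hb.symm, hc.symm⟩
  choose f hf using hsur
  have hgood : ∀ g, ∀ v, app2 (f g).1 (f g).2.1 (f g).2.2 v = 0 → v = 0 := fun g v hv => by
    have h := D.vec2_conj B.h₀ B.h₁ B.h₂ (hf g).1 (hf g).2.1 (hf g).2.2 v
    rw [hv, show vec2 x₀ x₁ x₂ (0 : V2) = 1 by simp [vec2], mul_inv_eq_one, mul_eq_left] at h
    exact B.inj (h.trans (by simp [vec2]))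
  set A' := D.A.subgroupOf D.M
  have hcomp : ∀ g k : D.M, f g = f k → g⁻¹ * k ∈ A' := by
    intro g k e
    show (g⁻¹ * k).1 ∈ D.A
    refine D.hfaith _ (g⁻¹ * k).2 fun x hx hx2 => ?_
    obtain ⟨v, rfl⟩ := D.vec2_surj B (show x ∈ D.V from ⟨hx, hx2⟩)
    have h1 := D.vec2_conj B.h₀ B.h₁ B.h₂ (hf g).1 (hf g).2.1 (hf g).2.2 v
    have h2 := D.vec2_conj B.h₀ B.h₁ B.h₂ (hf k).1 (hf k).2.1 (hf k).2.2 v
    rw [← e, ← h1] at h2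
    show g.1⁻¹ * k.1 * vec2 x₀ x₁ x₂ v = vec2 x₀ x₁ x₂ v * (g.1⁻¹ * k.1)
    calc g.1⁻¹ * k.1 * vec2 x₀ x₁ x₂ v = g.1⁻¹ * (k.1 * vec2 x₀ x₁ x₂ v * k.1⁻¹) * k.1 := by group
      _ = g.1⁻¹ * (g.1 * vec2 x₀ x₁ x₂ v * g.1⁻¹) * k.1 := by rw [h2]
      _ = _ := by group
  let F : D.M ⧸ A' → {f : V2 × V2 × V2 // ∀ v, app2 f.1 f.2.1 f.2.2 v = 0 → v = 0} := fun q =>
    ⟨f q.out, hgood _⟩
  have hF : Function.Injective F := fun p q e => by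
    rw [← p.out_eq, ← q.out_eq]
    exact QuotientGroup.eq.2 (hcomp _ _ (congrArg Subtype.val e))
  have hcardQ : Nat.card (D.M ⧸ A') = 168 := by
    have h := A'.card_mul_index
    rw [Nat.card_congr (Subgroup.subgroupOfEquivOfLe D.hAM).toEquiv, D.hcard, D.hMcard] at h
    rw [← Subgroup.index_eq_card]
    omega
  have hT : Nat.card {f : V2 × V2 × V2 // ∀ v, app2 f.1 f.2.1 f.2.2 v = 0 → v = 0} = 168 := by
    rw [Nat.card_eq_fintype_card]; decide +kernel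
  obtain ⟨q, hq⟩ := ((Nat.bijective_iff_injective_and_card F).2 ⟨hF, hcardQ.trans hT.symm⟩).2
    ⟨(e₀, e₁, e₂), he⟩
  have hq' : f q.out = (e₀, e₁, e₂) := congrArg Subtype.val hq
  refine ⟨_, (q.out).2, fun v => ?_⟩
  have := D.vec2_conj B.h₀ B.h₁ B.h₂ (hf q.out).1 (hf q.out).2.1 (hf q.out).2.2 v
  rwa [hq'] at this

omit [Finite G] in
theorem mem_A_of_trivial {x₀ x₁ x₂ : G} (B : D.Basis2 x₀ x₁ x₂) [Finite G] {g : G} (hg : g ∈ D.M)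
    (h : ∀ v, g * vec2 x₀ x₁ x₂ v * g⁻¹ = vec2 x₀ x₁ x₂ v) : g ∈ D.A :=
  D.hfaith g hg fun x hx hx2 => by
    obtain ⟨v, rfl⟩ := D.vec2_surj B (show x ∈ D.V from ⟨hx, hx2⟩)
    exact mul_inv_eq_iff_eq_mul.1 (h v)

end MData

/-- The generators with their actions. -/
structure Gens (G : Type*) [Group G] where
  z : G
  a : G
  b : G
  c : G
  z4 : z ^ 4 = 1
  c01 : Commute z (a * z * a⁻¹)
  c02 : Commute z (a * (a * z * a⁻¹) * a⁻¹)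
  c12 : Commute (a * z * a⁻¹) (a * (a * z * a⁻¹) * a⁻¹)
  az2 : a * (a * (a * z * a⁻¹) * a⁻¹) * a⁻¹ =
    z * (a * z * a⁻¹) ^ 3 * (a * (a * z * a⁻¹) * a⁻¹) ^ 2
  a7 : a ^ 7 = 1
  b3 : b ^ 3 = 1
  bab : b * a * b⁻¹ = a ^ 2
  bz : Commute b z
  c_sq : c * c = 1 ∨ c * c = z ^ 2
  cbc : c * b * c⁻¹ = b⁻¹
  czc : c * z * c⁻¹ = z⁻¹
  cz1 : c * (a * z * a⁻¹) * c⁻¹ = a * (a * z * a⁻¹) * a⁻¹
  ac3 : ∃ k : ℕ, (a * c) ^ 3 = (a * (a * z * a⁻¹) * a⁻¹) ^ k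

namespace Gens

variable {G : Type*} [Group G] (F : Gens G)

/-- The second basis vector. -/
def z1 : G := F.a * F.z * F.a⁻¹

/-- The third basis vector. -/
def z2 : G := F.a * F.z1 * F.a⁻¹

/-- The product with coordinates modulo four. -/
def vec (v : V4) : G := F.z ^ v.1.val * F.z1 ^ v.2.1.val * F.z2 ^ v.2.2.val

end Gens

end CfsgLib.Spor.HSType
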