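import Cfsg.Agent.Lib.Spor.HSType.LocalPhi
import Cfsg.Agent.Lib.Spor.HSType.Cert.H001.All
import Cfsg.Agent.Lib.Spor.HSType.Cert.H002.All
import Cfsg.Agent.Lib.Spor.HSType.Cert.H003.All
import Cfsg.Agent.Lib.Spor.HSType.Cert.H020.All
import Cfsg.Agent.Lib.Spor.HSType.Cert.H021.All
import Cfsg.Agent.Lib.Spor.HSType.Cert.H022.All
import Cfsg.Agent.Lib.Spor.HSType.Cert.H023.All
import Cfsg.Agent.Lib.Spor.HSType.Cert.H100.All
import Cfsg.Agent.Lib.Spor.HSType.Cert.H101.All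
import Cfsg.Agent.Lib.Spor.HSType.Cert.H102.All
import Cfsg.Agent.Lib.Spor.HSType.Cert.H103.All
import Cfsg.Agent.Lib.Spor.HSType.Cert.H120.All
import Cfsg.Agent.Lib.Spor.HSType.Cert.H121.All
import Cfsg.Agent.Lib.Spor.HSType.Cert.H122.All
import Cfsg.Agent.Lib.Spor.HSType.Cert.H123.All
import Cfsg.Agent.Lib.Spor.HSType.Cert.H201.All
import Cfsg.Agent.Lib.Spor.HSType.Cert.H202.All
import Cfsg.Agent.Lib.Spor.HSType.Cert.H203.All
import Cfsg.Agent.Lib.Spor.HSType.Cert.H220.All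
import Cfsg.Agent.Lib.Spor.HSType.Cert.H221.All
import Cfsg.Agent.Lib.Spor.HSType.Cert.H222.All
import Cfsg.Agent.Lib.Spor.HSType.Cert.H223.All

/-!
# The presentation of the local data

Certificates exclude all but the extensions with `h² = (h c)² = 1` and one of two actions on the core; the second
of these becomes the first on replacing `c` and `h` by `c t` and `h t`.
-/

set_option autoImplicit false
set_option maxRecDepth 100000

namespace CfsgLib.Spor.HSType

open CfsgLib.Spor.TC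

/-- The relators of the two-local subgroup. -/
def mRels : List (List ℕ) :=
  [[0, 0, 0, 0], [2, 2, 2, 2, 2, 2, 2], [4, 4, 4], [4, 2, 5, 3, 3], [4, 0, 5, 1],
    [0, 2, 0, 3, 1, 2, 1, 3], [0, 2, 2, 0, 3, 3, 1, 2, 2, 1, 3, 3],
    [2, 0, 3, 2, 2, 0, 3, 3, 2, 1, 3, 2, 2, 1, 3, 3],
    [2, 2, 2, 0, 3, 3, 3, 2, 2, 1, 3, 3, 2, 2, 1, 3, 3, 2, 1, 3, 2, 1, 3, 2, 1, 3, 1],
    [6, 4, 7, 4], [6, 0, 7, 0], [6, 2, 0, 3, 7, 2, 2, 1, 3, 3], [6, 6], [2, 6, 2, 6, 2, 6]]

/-- The inverses of the words of the images of `v` and `s` and of the cube, for the three actions. -/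
def phWords : ℕ → List ℕ × List ℕ × List ℕ
  | 0 => ([4, 3, 7, 4, 2, 5, 3, 7, 4, 2], [2, 2, 1, 3, 3, 2, 2, 1, 3, 3], [5, 7])
  | 1 => ([4, 3, 7, 4, 2, 5, 3, 7, 4, 2, 2, 1, 3, 2, 1, 3], [3, 7, 4, 2], [2, 1, 3, 2, 1, 3, 5, 7])
  | _ => ([4, 3, 7, 4, 2, 5, 3, 7, 4, 2, 2, 1, 3, 2, 1, 3, 1, 1], [3, 7, 4, 2], [5, 7])

/-- The relators of the element `h`. -/
def hRels (ph e2 e3 : ℕ) : List (List ℕ) :=
  [[8, 4, 9, 5], [8, 0, 9, 0], [8, 8] ++ List.replicate e2 1, [8, 6, 8, 6] ++ List.replicate e3 1,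
    [8, 2, 0, 0, 3, 9] ++ (phWords ph).1, [8, 3, 5, 6, 2, 9] ++ (phWords ph).2.1,
    [8, 2, 0, 3, 8, 2, 0, 3, 8, 2, 0, 3] ++ (phWords ph).2.2]

variable {G : Type*} [Group G] {t : G}

/-- The data with the standard relations. -/
structure Pres (D : MData G t) extends MGens D where
  h : G
  hH : h * t = t * h
  sq_c : c * c = 1
  ac_one : (a * c) ^ 3 = 1
  hrels : ∀ r ∈ mRels ++ hRels 0 0 0, ev (gvH z a b c h) r = 1

theorem ev_gvH {z a b c h : G} : ∀ {w : List ℕ}, (∀ x ∈ w, x < 8) → ev (gvH z a b c h) w = ev (gvM z a b c) w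
  | [], _ => rfl
  | x :: w, hw => by
    rw [ev_cons, ev_cons, ev_gvH fun y hy => hw y (List.mem_cons_of_mem _ hy)]
    have := hw x List.mem_cons_self
    congr 1
    interval_cases x <;> rfl

theorem mRels_ev {D : MData G t} (F : MGens D) (hc : F.c * F.c = 1) (hk : (F.a * F.c) ^ 3 = 1) (h : G) :
    ∀ r ∈ mRels, ev (gvH F.z F.a F.b F.c h) r = 1 := by
  intro r hr
  have key : ∀ r ∈ mRels, ∀ x ∈ r, x < 8 := by decide +kernel
  rw [ev_gvH (key r hr)]
  exact F.rels_k0 hc hk r hr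

theorem replicate_one {z a b c h : G} (n : ℕ) :
    ev (gvH z a b c h) (List.replicate n 1) = (z ^ n)⁻¹ := by
  induction n with
  | zero => simp [ev]
  | succ n ih => rw [List.replicate_succ, ev_cons, ih, pow_succ]; simp [gvH]

variable [Finite G] {K : Ctx G t} {W : Frame K}

theorem hRels_ev {h : G} {v₁ r₁ x₀ : R4} (E : HElt W v₁ r₁ x₀ h) {ph e2 e3 : ℕ}
    (he2 : h * h = W.F.z ^ e2) (he3 : h * W.F.c * (h * W.F.c) = W.F.z ^ e3)
    (hv : ev (gvM W.F.z W.F.a W.F.b W.F.c) (phWords ph).1 = (W.F.mu v₁)⁻¹)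
    (hr : ev (gvM W.F.z W.F.a W.F.b W.F.c) (phWords ph).2.1 = (W.F.mu r₁)⁻¹)
    (hx : ev (gvM W.F.z W.F.a W.F.b W.F.c) (phWords ph).2.2 = (W.F.c * W.F.b * W.F.mu x₀)⁻¹)
    (hlt : ∀ w ∈ [(phWords ph).1, (phWords ph).2.1, (phWords ph).2.2], ∀ x ∈ w, x < 8) :
    ∀ r ∈ hRels ph e2 e3, ev (gvH W.F.z W.F.a W.F.b W.F.c h) r = 1 := by
  intro r hr'
  simp only [hRels, List.mem_cons, List.not_mem_nil, or_false] at hr'
  rcases hr' with rfl | rfl | rfl | rfl | rfl | rfl | rfl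
  · calc ev (gvH W.F.z W.F.a W.F.b W.F.c h) [8, 4, 9, 5] = (h * W.F.b) * (W.F.b * h)⁻¹ := by
          simp [ev, gvH, mul_assoc]
      _ = 1 := by rw [E.hb, mul_inv_cancel]
  · calc ev (gvH W.F.z W.F.a W.F.b W.F.c h) [8, 0, 9, 0] = (h * W.F.z * h⁻¹) * W.F.z := by
          simp [ev, gvH, mul_assoc]
      _ = 1 := by rw [E.hz, inv_mul_cancel]
  · rw [ev_append, replicate_one, ← he2]; simp [ev, gvH]
  · rw [ev_append, replicate_one, ← he3]; simp [ev, gvH, mul_assoc]
  · rw [ev_append, ev_gvH (w := (phWords ph).1) (hlt _ (by simp)), hv, ← E.hv]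
    have e : W.F.mu R4.v0 = W.F.z1 ^ 2 := by
      simp [MGens.mu, R4.v0, Gens.vec, show (2 : ZMod 4).val = 2 from rfl]
    rw [e]; simp [ev, gvH, Gens.z1, pow_two, mul_assoc]
  · rw [ev_append, ev_gvH (w := (phWords ph).2.1) (hlt _ (by simp)), hr, ← E.hs]
    simp [ev, gvH, MGens.s, mul_assoc]
  · rw [ev_append, ev_gvH (w := (phWords ph).2.2) (hlt _ (by simp)), hx, ← E.cube]
    simp [ev, gvH, Gens.z1, pow_succ, mul_assoc]

theorem phWords_ev (F : MGens W.D) :
    ∀ ph < 3, ∀ q, R4.survivors[ph]? = some q →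
      ev (gvM F.z F.a F.b F.c) (phWords ph).1 = (F.mu q.1)⁻¹ ∧
      ev (gvM F.z F.a F.b F.c) (phWords ph).2.1 = (F.mu q.2.1)⁻¹ ∧
      ev (gvM F.z F.a F.b F.c) (phWords ph).2.2 = (F.c * F.b * F.mu q.2.2)⁻¹ := by
  have v1 : (2 : ZMod 4).val = 2 := rfl
  intro ph hph q hq
  interval_cases ph <;> simp only [R4.survivors, List.getElem?_cons_zero, List.getElem?_cons_succ,
    Option.some.injEq] at hq <;> subst hq <;>
    simp [phWords, ev, gvM, MGens.mu, MGens.s, MGens.s1, R4.one, R4.v0, Gens.vec, Gens.z1, Gens.z2, v1, pow_two,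
      mul_assoc]

theorem phWords_lt : ∀ ph < 3, ∀ w ∈ [(phWords ph).1, (phWords ph).2.1, (phWords ph).2.2], ∀ x ∈ w, x < 8 := by
  decide +kernel

variable (hk : (W.F.a * W.F.c) ^ 3 = 1)
include hk

/-- Only two actions extend and both with `h² = (h c)² = 1`. -/
theorem helt_cases {h : G} {ph : ℕ} (hph : ph < 3) {q : R4 × R4 × R4} (hq : R4.survivors[ph]? = some q)
    (E : HElt W q.1 q.2.1 q.2.2 h) :
    h * h = 1 ∧ h * W.F.c * (h * W.F.c) = 1 ∧ (ph = 0 ∨ ph = 2) := by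
  obtain ⟨e2, he2m, he2⟩ : ∃ e2 : ℕ, (e2 = 0 ∨ e2 = 2) ∧ h * h = W.F.z ^ e2 := by
    rcases E.hh with e | e
    · exact ⟨0, Or.inl rfl, by rw [e, pow_zero]⟩
    · exact ⟨2, Or.inr rfl, e⟩
  obtain ⟨e3, he3m, he3⟩ := E.hhc
  suffices hs : e2 = 0 ∧ e3 = 0 ∧ (ph = 0 ∨ ph = 2) by
    rw [he2, he3, hs.1, hs.2.1, pow_zero]
    exact ⟨rfl, rfl, hs.2.2⟩
  obtain ⟨hv, hr, hx⟩ := phWords_ev W.F ph hph q hq
  have hrel : ∀ r ∈ mRels ++ hRels ph e2 e3, ev (gvH W.F.z W.F.a W.F.b W.F.c h) r = 1 := by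
    intro r hr'
    rcases List.mem_append.1 hr' with h' | h'
    · exact mRels_ev W.F W.hc hk h r h'
    · exact hRels_ev E he2 he3 hv hr hx (phWords_lt ph hph) r h'
  have hzz : ev (gvH W.F.z W.F.a W.F.b W.F.c h) [0, 0] ∉ Subgroup.closure ({W.F.a, W.F.b} : Set G) := by
    have e : ev (gvH W.F.z W.F.a W.F.b W.F.c h) [0, 0] = W.F.z ^ 2 := by simp [ev, gvH, pow_two]
    rw [e]
    intro hmem
    apply K.t_ne
    rw [← W.F.hz]
    exact W.F.eq_one_of_mem hmem (by rw [W.F.hz]; exact W.D.ht)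
  have hsubs : ∀ r ∈ ([[2], [4]] : List (List ℕ)),
      ev (gvH W.F.z W.F.a W.F.b W.F.c h) r ∈ Subgroup.closure ({W.F.a, W.F.b} : Set G) := by
    intro r hr'
    simp only [List.mem_cons, List.not_mem_nil, or_false] at hr'
    rcases hr' with rfl | rfl
    · rw [show ev (gvH W.F.z W.F.a W.F.b W.F.c h) [2] = W.F.a by simp [ev, gvH]]
      exact Subgroup.subset_closure (by simp)
    · rw [show ev (gvH W.F.z W.F.a W.F.b W.F.c h) [4] = W.F.b by simp [ev, gvH]]
      exact Subgroup.subset_closure (by simp)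
  have hall := hrel
  rcases he2m with rfl | rfl <;> interval_cases ph <;> interval_cases e3
  · exact ⟨rfl, rfl, by decide⟩
  · exact absurd (Cert.H001.cert.mem_of_sTrace Cert.H001.steps_ok Cert.H001.trace _ (gvH_inv _ _ _ _ _) rfl hall _ hsubs)
      hzz
  · exact absurd (Cert.H002.cert.mem_of_sTrace Cert.H002.steps_ok Cert.H002.trace _ (gvH_inv _ _ _ _ _) rfl hall _ hsubs)
      hzz
  · exact absurd (Cert.H003.cert.mem_of_sTrace Cert.H003.steps_ok Cert.H003.trace _ (gvH_inv _ _ _ _ _) rfl hall _ hsubs)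
      hzz
  · exact absurd (Cert.H100.cert.mem_of_sTrace Cert.H100.steps_ok Cert.H100.trace _ (gvH_inv _ _ _ _ _) rfl hall _ hsubs)
      hzz
  · exact absurd (Cert.H101.cert.mem_of_sTrace Cert.H101.steps_ok Cert.H101.trace _ (gvH_inv _ _ _ _ _) rfl hall _ hsubs)
      hzz
  · exact absurd (Cert.H102.cert.mem_of_sTrace Cert.H102.steps_ok Cert.H102.trace _ (gvH_inv _ _ _ _ _) rfl hall _ hsubs)
      hzz
  · exact absurd (Cert.H103.cert.mem_of_sTrace Cert.H103.steps_ok Cert.H103.trace _ (gvH_inv _ _ _ _ _) rfl hall _ hsubs)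
      hzz
  · exact ⟨rfl, rfl, by decide⟩
  · exact absurd (Cert.H201.cert.mem_of_sTrace Cert.H201.steps_ok Cert.H201.trace _ (gvH_inv _ _ _ _ _) rfl hall _ hsubs)
      hzz
  · exact absurd (Cert.H202.cert.mem_of_sTrace Cert.H202.steps_ok Cert.H202.trace _ (gvH_inv _ _ _ _ _) rfl hall _ hsubs)
      hzz
  · exact absurd (Cert.H203.cert.mem_of_sTrace Cert.H203.steps_ok Cert.H203.trace _ (gvH_inv _ _ _ _ _) rfl hall _ hsubs)
      hzz
  · exact absurd (Cert.H020.cert.mem_of_sTrace Cert.H020.steps_ok Cert.H020.trace _ (gvH_inv _ _ _ _ _) rfl hall _ hsubs)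
      hzz
  · exact absurd (Cert.H021.cert.mem_of_sTrace Cert.H021.steps_ok Cert.H021.trace _ (gvH_inv _ _ _ _ _) rfl hall _ hsubs)
      hzz
  · exact absurd (Cert.H022.cert.mem_of_sTrace Cert.H022.steps_ok Cert.H022.trace _ (gvH_inv _ _ _ _ _) rfl hall _ hsubs)
      hzz
  · exact absurd (Cert.H023.cert.mem_of_sTrace Cert.H023.steps_ok Cert.H023.trace _ (gvH_inv _ _ _ _ _) rfl hall _ hsubs)
      hzz
  · exact absurd (Cert.H120.cert.mem_of_sTrace Cert.H120.steps_ok Cert.H120.trace _ (gvH_inv _ _ _ _ _) rfl hall _ hsubs)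
      hzz
  · exact absurd (Cert.H121.cert.mem_of_sTrace Cert.H121.steps_ok Cert.H121.trace _ (gvH_inv _ _ _ _ _) rfl hall _ hsubs)
      hzz
  · exact absurd (Cert.H122.cert.mem_of_sTrace Cert.H122.steps_ok Cert.H122.trace _ (gvH_inv _ _ _ _ _) rfl hall _ hsubs)
      hzz
  · exact absurd (Cert.H123.cert.mem_of_sTrace Cert.H123.steps_ok Cert.H123.trace _ (gvH_inv _ _ _ _ _) rfl hall _ hsubs)
      hzz
  · exact absurd (Cert.H220.cert.mem_of_sTrace Cert.H220.steps_ok Cert.H220.trace _ (gvH_inv _ _ _ _ _) rfl hall _ hsubs)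
      hzz
  · exact absurd (Cert.H221.cert.mem_of_sTrace Cert.H221.steps_ok Cert.H221.trace _ (gvH_inv _ _ _ _ _) rfl hall _ hsubs)
      hzz
  · exact absurd (Cert.H222.cert.mem_of_sTrace Cert.H222.steps_ok Cert.H222.trace _ (gvH_inv _ _ _ _ _) rfl hall _ hsubs)
      hzz
  · exact absurd (Cert.H223.cert.mem_of_sTrace Cert.H223.steps_ok Cert.H223.trace _ (gvH_inv _ _ _ _ _) rfl hall _ hsubs)
      hzz

omit hk in
/-- Changing `c` and `h` by `t` gives the first action. -/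
theorem exists_pres_aux (hk : (W.F.a * W.F.c) ^ 3 = 1) {h : G} {q : R4 × R4 × R4}
    (hq : R4.survivors[0]? = some q) (E : HElt W q.1 q.2.1 q.2.2 h) : Nonempty (Pres W.D) := by
  obtain ⟨h2, hc2, -⟩ := helt_cases hk (by norm_num) hq E
  obtain ⟨hv, hr, hx⟩ := phWords_ev W.F 0 (by norm_num) q hq
  refine ⟨{ toMGens := W.F, h := h, hH := E.hH, sq_c := W.hc, ac_one := hk, hrels := fun r hr' => ?_ }⟩
  rcases List.mem_append.1 hr' with h' | h'
  · exact mRels_ev W.F W.hc hk h r h'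
  · exact hRels_ev E (by rw [h2, pow_zero]) (by rw [hc2, pow_zero]) hv hr hx (phWords_lt 0 (by norm_num)) r h'

omit hk in
/-- The presentation data exist. -/
theorem exists_pres (hk : (W.F.a * W.F.c) ^ 3 = 1) : Nonempty (Pres W.D) := by
  obtain ⟨h, q, hq, E⟩ := W.exists_helt hk
  simp only [R4.survivors, List.mem_cons, List.not_mem_nil, or_false] at hq
  rcases hq with rfl | rfl | rfl
  · exact exists_pres_aux hk rfl E
  · obtain ⟨-, -, h0 | h0⟩ := helt_cases hk (ph := 1) (by norm_num) rfl E <;> exact absurd h0 (by norm_num)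
  obtain ⟨hh2, hhc2, -⟩ := helt_cases hk (ph := 2) (by norm_num) rfl E
  set F := W.F with hF
  set T := F.z ^ 2 with hT
  have hmul := F.mu_mul W.hc hk
  have hTv : T = F.vec (2, 0, 0) := F.z_sq_vec
  have hTT : T * T = 1 := by rw [hT, ← pow_add, F.z4]
  have hTh : h * T = T * h := by rw [hT, F.hz]; exact E.hH
  have hTb : F.b * T = T * F.b := by rw [hT]; exact (F.bz.pow_right 2).eq
  have hTc : F.c * T = T * F.c := by
    refine mul_inv_eq_iff_eq_mul.1 ?_
    rw [hTv, F.c_vec]; exact congrArg _ (by decide)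
  have hTz1 : F.z1 * T = T * F.z1 := by
    rw [hT]; exact ((show Commute F.z1 F.z from Commute.symm F.c01).pow_right 2).eq
  have hTA : ∀ v, F.vec v * T = T * F.vec v := fun v => by rw [hTv, ← F.vec_add, ← F.vec_add, add_comm]
  have hac : ∀ v, (F.a * F.c)⁻¹ * F.vec (actA (actC v)) * (F.a * F.c) = F.vec v := fun v => by
    rw [← F.a_vec, ← F.c_vec]; group
  have hk' : (F.a * (F.c * T)) ^ 3 = 1 := by
    have e1 : (F.a * F.c)⁻¹ * F.vec (2, 0, 0) * (F.a * F.c) = F.vec (2, 2, 0) := by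
      rw [show ((2, 0, 0) : V4) = actA (actC (2, 2, 0)) by decide]; exact hac _
    have e2 : (F.a * F.c)⁻¹ * F.vec (2, 2, 0) * (F.a * F.c) = F.vec (0, 2, 0) := by
      rw [show ((2, 2, 0) : V4) = actA (actC (0, 2, 0)) by decide]; exact hac _
    calc (F.a * (F.c * T)) ^ 3 = (F.a * F.c) * (F.a * F.c) * (F.a * F.c) *
          ((F.a * F.c)⁻¹ * ((F.a * F.c)⁻¹ * F.vec (2, 0, 0) * (F.a * F.c)) * (F.a * F.c)) *
          ((F.a * F.c)⁻¹ * F.vec (2, 0, 0) * (F.a * F.c)) * F.vec (2, 0, 0) := by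
            rw [hTv]; simp only [pow_succ, pow_zero, one_mul]; group
      _ = (F.a * F.c) ^ 3 * (F.vec (0, 2, 0) * F.vec (2, 2, 0) * F.vec (2, 0, 0)) := by
          rw [e1, e2]; simp only [pow_succ, pow_zero, one_mul]; group
      _ = _ := by
          rw [hk, one_mul, ← F.vec_add, ← F.vec_add,
            show ((0, 2, 0) : V4) + (2, 2, 0) + (2, 0, 0) = 0 by decide, F.vec_zero]
  have hc' : F.c * T * (F.c * T) = 1 := by
    calc F.c * T * (F.c * T) = F.c * (T * F.c) * T := by group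
      _ = F.c * F.c * (T * T) := by rw [← hTc]; group
      _ = 1 := by rw [hTT, mul_one]; exact W.hc
  let F' : MGens W.D :=
    { toGens :=
        { F.toGens with
          c := F.c * T
          c_sq := Or.inl hc'
          cbc := by
            calc F.c * T * F.b * (F.c * T)⁻¹ = F.c * (T * F.b) * T⁻¹ * F.c⁻¹ := by group
              _ = F.c * F.b * F.c⁻¹ := by rw [← hTb]; group
              _ = _ := F.cbc
          czc := by
            have h : T * F.z = F.z * T := by rw [hT]; exact (Commute.pow_self F.z 2).eq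
            calc F.c * T * F.z * (F.c * T)⁻¹ = F.c * (T * F.z) * T⁻¹ * F.c⁻¹ := by group
              _ = F.c * F.z * F.c⁻¹ := by rw [h]; group
              _ = _ := F.czc
          cz1 := by
            calc F.c * T * F.z1 * (F.c * T)⁻¹ = F.c * (T * F.z1) * T⁻¹ * F.c⁻¹ := by group
              _ = F.c * F.z1 * F.c⁻¹ := by rw [← hTz1]; group
              _ = _ := F.cz1
          ac3 := ⟨0, by rw [pow_zero]; exact hk'⟩ }
      hz := F.hz, memA := F.memA, inj := F.inj, surj := F.surj, aM := F.aM, bM := F.bM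
      cM := mul_mem F.cM (pow_mem F.zM 2)
      gen := by
        refine le_antisymm ?_ ?_
        · rw [Subgroup.closure_le]
          rintro g (rfl | rfl | rfl | rfl)
          exacts [F.zM, F.aM, F.bM, mul_mem F.cM (pow_mem F.zM 2)]
        · refine le_trans (le_of_eq F.gen.symm) ?_
          rw [Subgroup.closure_le]
          rintro g (rfl | rfl | rfl | rfl)
          · exact Subgroup.subset_closure (Or.inl rfl)
          · exact Subgroup.subset_closure (Or.inr (Or.inl rfl))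
          · exact Subgroup.subset_closure (Or.inr (Or.inr (Or.inl rfl)))
          · have h := mul_mem
              (Subgroup.subset_closure (Or.inr (Or.inr (Or.inr rfl))) :
                F.c * T ∈ Subgroup.closure ({F.z, F.a, F.b, F.c * T} : Set G))
              (inv_mem (pow_mem (Subgroup.subset_closure (Or.inl rfl) :
                F.z ∈ Subgroup.closure ({F.z, F.a, F.b, F.c * T} : Set G)) 2))
            rw [mul_inv_cancel_right] at h
            exact h }
  let W' : Frame K := { D := W.D, hM := W.hM, hA := W.hA, hV := W.hV, F := F', hc := hc' }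
  have hs' : F'.s = F.mu (((0, 0, 0) : V4), true, false) * F.mu (((2, 0, 2) : V4), false, false) := by
    show F.a⁻¹ * F.b⁻¹ * (F.c * T) * F.a = _
    have h0 : F.vec ((0, 0, 0) : V4) = 1 := F.vec_zero
    simp only [MGens.mu, cond_true, cond_false, h0, one_mul, mul_one]
    rw [hTv, MGens.s]
    have := F.a_inv_vec (2, 0, 0)
    rw [show app4 (1, 2, 1) (1, 0, 0) (0, 1, 0) ((2, 0, 0) : V4) = (2, 0, 2) by decide] at this
    rw [← this]; group
  have hTmu : ∀ x, F.mu x * T = T * F.mu x := by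
    intro x
    have key : ∀ x : R4, R4.mul x ((2, 0, 0), false, false) = R4.mul ((2, 0, 0), false, false) x := by decide +kernel
    rw [hTv, ← F.mu_vec, ← hmul, ← hmul, key]
  have hTs : T * F'.s * T⁻¹ = F'.s := by
    rw [hs', ← hmul, ← hTmu, mul_inv_cancel_right]
  have hb1 : F'.s1 = F.mu (R4.cb (R4.mul (((0, 0, 0) : V4), true, false) (((2, 0, 2) : V4), false, false))) := by
    show F.b * F'.s * F.b⁻¹ = _
    rw [hs', ← hmul, F.mu_cb W.hc hk]
  have hvb : h * F.mu (R4.cb R4.v0) * h⁻¹ = F.mu (R4.cb (((2, 2, 0) : V4), true, true)) := by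
    have Ehv : h * F.mu R4.v0 * h⁻¹ = F.mu (((2, 2, 0) : V4), true, true) := E.hv
    have Ehb : h * F.b = F.b * h := E.hb
    rw [← F.mu_cb W.hc hk, ← F.mu_cb W.hc hk, ← Ehv]
    calc h * (F.b * F.mu R4.v0 * F.b⁻¹) * h⁻¹ = (h * F.b) * F.mu R4.v0 * (h * F.b)⁻¹ := by group
      _ = _ := by rw [Ehb]; group
  refine exists_pres_aux (W := W') hk' (h := h * T)
    (q := ((((0, 0, 0) : V4), true, true), (((0, 0, 2) : V4), false, false), R4.one)) rfl ?_
  constructor
  · show h * T * t = t * (h * T)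
    rw [← F.hz, ← hT]
    calc h * T * T = (h * T) * T := rfl
      _ = T * h * T := by rw [hTh]
      _ = T * (h * T) := by group
  · show h * T * F.b = F.b * (h * T)
    rw [mul_assoc, ← hTb, ← mul_assoc, E.hb, mul_assoc]
  · show h * T * F.z * (h * T)⁻¹ = F.z⁻¹
    have hzT : T * F.z = F.z * T := by rw [hT]; exact (Commute.pow_self F.z 2).eq
    calc h * T * F.z * (h * T)⁻¹ = h * (T * F.z) * T⁻¹ * h⁻¹ := by group
      _ = h * F.z * h⁻¹ := by rw [hzT]; group
      _ = _ := E.hz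
  · left
    calc h * T * (h * T) = h * (T * h) * T := by group
      _ = (h * h) * (T * T) := by rw [← hTh]; group
      _ = 1 := by rw [hh2, hTT, one_mul]
  · refine ⟨0, by norm_num, ?_⟩
    show h * T * (F.c * T) * (h * T * (F.c * T)) = _
    have e : h * T * (F.c * T) = h * F.c := by
      calc h * T * (F.c * T) = h * (T * F.c) * T := by group
        _ = h * F.c * (T * T) := by rw [← hTc]; group
        _ = _ := by rw [hTT, mul_one]
    rw [e, pow_zero]; exact hhc2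
  · show h * T * (F'.mu R4.v0) * (h * T)⁻¹ = F'.mu (((0, 0, 0) : V4), true, true)
    have e0 : F'.mu R4.v0 = F.mu R4.v0 := by simp only [MGens.mu, R4.v0, cond_false, mul_one]; rfl
    have e1 : F'.mu (((0, 0, 0) : V4), true, true) = F'.s * F'.s1 := by
      simp only [MGens.mu, cond_true]
      rw [show F'.vec ((0, 0, 0) : V4) = 1 from F'.vec_zero, one_mul]
    rw [e0, e1, hs', hb1, ← hmul, ← hmul]
    calc h * T * F.mu R4.v0 * (h * T)⁻¹ = h * (T * F.mu R4.v0) * T⁻¹ * h⁻¹ := by group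
      _ = h * F.mu R4.v0 * h⁻¹ := by rw [← hTmu]; group
      _ = _ := by rw [E.hv]; exact congrArg F.mu (by decide +kernel)
  · show h * T * F'.s * (h * T)⁻¹ = F'.mu (((0, 0, 2) : V4), false, false)
    calc h * T * F'.s * (h * T)⁻¹ = h * (T * F'.s * T⁻¹) * h⁻¹ := by group
      _ = (h * F.s * h⁻¹) * (T * (h * F.mu (R4.cb R4.v0) * h⁻¹)) := by
          rw [hTs, hs']
          have h0 : F.mu (((0, 0, 0) : V4), true, false) = F.s := by
            simp only [MGens.mu, cond_true, cond_false, mul_one]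
            rw [show F.vec ((0, 0, 0) : V4) = 1 from F.vec_zero, one_mul]
          have h1 : F.mu (((2, 0, 2) : V4), false, false) = T * F.mu (R4.cb R4.v0) := by
            rw [hTv, ← F.mu_vec, ← hmul]; exact congrArg F.mu (by decide +kernel)
          rw [h0, h1]
          calc h * (F.s * (T * F.mu (R4.cb R4.v0))) * h⁻¹ =
              h * F.s * h⁻¹ * ((h * T) * F.mu (R4.cb R4.v0) * h⁻¹) := by group
            _ = _ := by rw [hTh]; group
      _ = _ := by
          rw [E.hs, hvb, hTv, ← F.mu_vec, ← hmul, ← hmul]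
          exact congrArg F.mu (by decide +kernel)
  · show (h * T * F.z1) ^ 3 = F.c * T * F.b * F'.mu R4.one
    have e0 : F'.mu R4.one = 1 := F'.mu_one
    have hc3 : Commute (h * F.z1) T := Commute.mul_left hTh hTz1
    have hT3 : T ^ 3 = T := by rw [pow_succ, pow_two, hTT, one_mul]
    rw [mul_assoc h T, ← hTz1, ← mul_assoc h, hc3.mul_pow, hT3, E.cube,
      show F.mu R4.one = 1 from F.mu_one, mul_one, e0, mul_one, mul_assoc F.c, mul_assoc F.c, hTb]

end CfsgLib.Spor.HSType
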