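import Cfsg.Agent.Lib.Spor.HSType.Fusion
import Cfsg.Agent.Lib.Char.DihedralEight

/-!
# The centralizer of the second involution lies in the Higman–Sims group

The subgroups of index two of `Y` cut out a normal subgroup; possibly after one more transfer a subgroup `K` of
index eight remains, whose Sylow two-subgroup is the dihedral group of order eight, which is also the
centralizer in `K` of the first involution, and which has no subgroup of index two. So `|K| = 360` and
`|Y| = 2880`, which is the order found inside the Higman–Sims group.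
-/

set_option autoImplicit false
set_option maxRecDepth 100000

namespace CfsgLib.Spor.HSType.Setting

open Subgroup EndData CfsgLib.Spor.HSPerm

variable {G : Type*} [Group G] (A : Setting G)

theorem cosD_lt {i : ℕ} (h : i ∈ cosD) : i < 64 := by
  have : ∀ i ∈ cosD, i < 64 := by decide
  exact this i h

theorem extra_elem :
    (∀ k ∈ rotW, ordOK k 3 = true ∧ conjOK k uW uW = true) ∧
    (∀ k ∈ nineW, ordOK k 3 = true ∧ conjOK k uW uW = true) := by
  have h := extra_check
  simp only [List.all_eq_true, Bool.and_eq_true] at h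
  exact ⟨h.1, h.2.1⟩

/-- An element of odd order in the group of `Y` coming from the witnesses. -/
noncomputable def five : ↥A.Y :=
  A.lift (el fiveW) (comm_of_check (by
    have h := extra_check.2.2.1
    simp only [Bool.and_eq_true] at h
    exact h.1.2))

theorem five_order : orderOf A.five = 5 := by
  have h := extra_check.2.2.1
  simp only [Bool.and_eq_true] at h
  rw [five, ← Subgroup.orderOf_coe]
  exact (orderOf_injective A.ι A.inj _).trans (order_of_check (by norm_num) h.1.1)

/-- The rotation of a four-group. -/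
noncomputable def rot (n : Fin 2) : ↥A.Y :=
  A.lift (el (rotW.getD n.1 [])) (comm_of_check (extra_elem.1 _ (by
    rw [List.getD_eq_getElem _ _ (by rw [dih_check.2.2.2.2.2.2.1]; exact n.2)]
    exact List.getElem_mem _)).2)

theorem rot_cube (n : Fin 2) : A.rot n ^ 3 = 1 := by
  have h := (extra_elem.1 (rotW.getD n.1 []) (by
    rw [List.getD_eq_getElem _ _ (by rw [dih_check.2.2.2.2.2.2.1]; exact n.2)]
    exact List.getElem_mem _)).1
  have he := pow_orderOf_eq_one (el (rotW.getD n.1 []))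
  rw [order_of_check (by norm_num) h] at he
  exact Subtype.ext (show A.ι _ ^ 3 = 1 by rw [← map_pow, he, map_one])

/-- The dihedral group lies in each subgroup of index two of a subgroup containing it and the rotations. -/
theorem cosD_mem {K I : Subgroup ↥A.Y} (hI : I ≤ K) (hi : I.relIndex K = 2) (hK : ∀ d ∈ cosD, A.q d ∈ K)
    (hr : ∀ n, A.rot n ∈ K) {d : ℕ} (hd : d ∈ cosD) : A.q d ∈ I := by
  have hsq : ∀ g ∈ K, g ^ 2 ∈ I := fun g hg =>
    Subgroup.sq_mem_of_index_two (H := I.subgroupOf K) hi ⟨g, hg⟩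
  have hnorm : ∀ g ∈ K, ∀ w ∈ I, g * w * g⁻¹ ∈ I := fun g hg w hw =>
    (Subgroup.normal_of_index_eq_two (H := I.subgroupOf K) hi).conj_mem ⟨w, hI hw⟩ hw ⟨g, hg⟩
  have hrI : ∀ n, A.rot n ∈ I := fun n => by
    have := hsq (A.rot n ^ 2) (pow_mem (hr n) 2)
    rwa [← pow_mul, show 2 * 2 = 3 + 1 by norm_num, pow_succ, A.rot_cube, one_mul] at this
  obtain ⟨h1, h2, h3, h4, -, h6, h7, h8⟩ := dih_check
  simp only [List.all_eq_true, List.any_eq_true, beq_iff_eq, List.contains_eq_mem, decide_eq_true_eq,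
    Nat.blt_eq, List.mem_range] at h1 h2 h3 h4 h8
  have hV : ∀ V ∈ fourIdx, ∀ v ∈ V, A.q v ∈ I ∧ v < 64 := by
    intro V hVm v hv
    obtain ⟨n, hn, rfl⟩ := List.getElem_of_mem hVm
    refine ⟨?_, h8 _ hVm v hv⟩
    have hrc := rot_check
    simp only [List.all_eq_true, List.mem_range, List.any_eq_true, Bool.or_eq_true, Bool.and_eq_true,
      beq_iff_eq] at hrc
    have hn2 : n < 2 := by rw [h6] at hn; exact hn
    have hget : fourIdx.getD n [] = fourIdx[n] := List.getD_eq_getElem _ _ hn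
    rcases hrc n hn2 v (by rw [hget]; exact hv) with rfl | ⟨w, hw, hw2, hconj⟩
    · rw [A.q_zero]; exact one_mem _
    · rw [hget] at hw
      have hv64 := h8 _ hVm v hv
      have hw64 := h8 _ hVm w hw
      have e : A.rot ⟨n, hn2⟩ * A.q w * (A.rot ⟨n, hn2⟩)⁻¹ = A.q (mulI v w) := A.lift_conj hconj _ _ _
      rw [← A.q_mul hv64 hw64] at e
      have : A.q v = A.rot ⟨n, hn2⟩ * (A.q w * (A.rot ⟨n, hn2⟩)⁻¹ * (A.q w)⁻¹) := by
        rw [← mul_assoc, ← mul_assoc, e, mul_inv_cancel_right]
      rw [this]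
      refine mul_mem (hrI _) (hnorm _ (hK w ?_) _ (inv_mem (hrI _)))
      have hw' : ∀ V ∈ fourIdx, ∀ w ∈ V, w ∈ cosD := by decide +kernel
      exact hw' _ hVm w hw
  obtain ⟨V, hV', v, hv, V', hV'', v', hv', e⟩ := h4 d (h1 d hd)
  obtain ⟨hq, hv64⟩ := hV V hV' v hv
  obtain ⟨hq', hv64'⟩ := hV V' hV'' v' hv'
  rw [← e, ← A.q_mul hv64 hv64']
  exact mul_mem hq hq'

variable [Finite G]

/-- A subgroup of index eight meeting the common centralizer in the dihedral group has order 360. -/
theorem card_of_index_eight {K : Subgroup ↥A.Y} (hidx : K.index = 8)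
    (hS : ∀ i < 64, A.q i ∈ K → i ∈ cosD) (hD : ∀ d ∈ cosD, A.q d ∈ K) (hr : ∀ n, A.rot n ∈ K)
    (h5 : A.five ∈ K) : Nat.card ↥K = 360 := by
  classical
  haveI : Fact (Nat.Prime 2) := ⟨Nat.prime_two⟩
  have ht18 : (18 : ℕ) ∈ cosD := by decide
  set t : ↥K := ⟨A.q 18, hD 18 ht18⟩ with htdef
  have ht : orderOf t = 2 := by
    refine orderOf_eq_prime (Subtype.ext ?_) fun e => ?_
    · show A.q 18 ^ 2 = 1
      rw [pow_two, A.q_mul (by norm_num) (by norm_num), show mulI 18 18 = 0 by decide +kernel, A.q_zero]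
    · have h : A.q 18 = 1 := congrArg Subtype.val e
      rw [← A.q_zero] at h
      have := A.q_inj (by norm_num) (by norm_num) h
      omega
  -- the centralizer is dihedral
  have hpar : ∀ p, parIdx.getD p 0 ∈ cosD ∨ 8 ≤ p := by
    intro p
    by_cases hp : p < 8
    · left
      revert p; decide +kernel
    · exact Or.inr (by omega)
  let num : DihedralGroup 4 → ℕ
    | .r i => parIdx.getD i.val 0
    | .sr i => parIdx.getD (4 + i.val) 0
  have hnum : ∀ p, num p ∈ cosD := fun p => by
    cases p with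
    | r i => exact (hpar _).resolve_right (by have := ZMod.val_lt i; omega)
    | sr i => exact (hpar _).resolve_right (by have := ZMod.val_lt i; omega)
  have hmul : ∀ p r : DihedralGroup 4, num (p * r) = mulI (num p) (num r) := by decide +kernel
  have hinj : ∀ p r : DihedralGroup 4, num p = num r → p = r := by decide +kernel
  have hsurj : ∀ d ∈ cosD, ∃ p : DihedralGroup 4, num p = d := by decide +kernel
  have hc18 := centre_check.2.2.2
  simp only [Bool.and_eq_true, List.all_eq_true, List.mem_range] at hc18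
  let f : DihedralGroup 4 →* ↥(Subgroup.centralizer ({t} : Set ↥K)) := MonoidHom.mk'
    (fun p => ⟨⟨A.q (num p), hD _ (hnum p)⟩, mem_centralizer_singleton_iff.2 (Subtype.ext
      ((A.q_comm (by norm_num) (cosD_lt (hnum p))).2 (hc18.1 _ (cosD_lt (hnum p)))).symm)⟩)
    fun p r => Subtype.ext (Subtype.ext (by
      show A.q (num (p * r)) = A.q (num p) * A.q (num r)
      rw [hmul, A.q_mul (cosD_lt (hnum p)) (cosD_lt (hnum r))]))
  have hf : Function.Bijective f := by
    refine ⟨fun p r e => hinj p r (A.q_inj (cosD_lt (hnum p)) (cosD_lt (hnum r))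
      (congrArg (fun z : ↥(Subgroup.centralizer ({t} : Set ↥K)) => (z : ↥A.Y)) e)), fun g => ?_⟩
    have hgS : (g.1 : ↥A.Y) ∈ A.S :=
      A.mem_S_of_comm (congrArg Subtype.val (mem_centralizer_singleton_iff.1 g.2))
    obtain ⟨i, hi, ei⟩ := hgS
    obtain ⟨p, hp⟩ := hsurj i (hS i hi (ei ▸ g.1.2))
    exact ⟨p, Subtype.ext (Subtype.ext (show A.q (num p) = _ by rw [hp, ei]))⟩
  have hno2 : ∀ H : Subgroup ↥K, H.index ≠ 2 := by
    intro H hH
    have hle : H.map K.subtype ≤ K := Subgroup.map_subtype_le H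
    have hrel : (H.map K.subtype).relIndex K = 2 := by
      rw [Subgroup.relIndex, Subgroup.subgroupOf, Subgroup.comap_map_eq_self_of_injective K.subtype_injective, hH]
    have h8 : 8 ∣ Nat.card ↥H := by
      have hDle : ∀ p, (f p).1 ∈ H := fun p => by
        obtain ⟨x, hx, e⟩ := A.cosD_mem hle hrel hD hr (hnum p)
        have : x = (f p).1 := Subtype.ext e
        exact this ▸ hx
      let f' : DihedralGroup 4 →* ↥H :=
        MonoidHom.mk' (fun p => ⟨(f p).1, hDle p⟩) fun p r => Subtype.ext (congrArg (fun z : ↥(Subgroup.centralizer ({t} : Set ↥K)) => (z : ↥K)) (map_mul f p r))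
      have hf' : Function.Injective f' := fun p r e => hf.1 (Subtype.ext (congrArg (fun z : ↥H => (z : ↥K)) e))
      have := Subgroup.card_dvd_of_injective f' hf'
      rwa [DihedralGroup.nat_card] at this
    have h1 := H.card_mul_index
    have h2 := K.card_mul_index
    rw [hH] at h1
    rw [hidx] at h2
    obtain ⟨Q, hQ⟩ := A.exists_sylow
    have h64 : ¬ (128 ∣ Nat.card ↥A.Y) := by
      intro h128
      have hq := Q.not_dvd_index
      have hm := (Q : Subgroup ↥A.Y).card_mul_index
      rw [hQ, A.card_S] at hm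
      rw [hQ] at hq
      obtain ⟨k, hk⟩ := h128
      exact hq ⟨k, by omega⟩
    obtain ⟨k, hk⟩ := h8
    exact h64 ⟨k, by omega⟩
  have hk5 : 5 ∣ Nat.card ↥K := by
    have := Subgroup.orderOf_dvd_natCard K h5
    rwa [A.five_order] at this
  haveI := Fintype.ofFinite ↥K
  rcases CfsgLib.Char.card_of_centralizer_dihedral_eight' hno2 t ht (MulEquiv.ofBijective f hf).symm with h | h
  · rw [h] at hk5; norm_num at hk5
  · exact h

theorem card_S_meet {K : Subgroup ↥A.Y} (hS : ∀ i < 64, A.q i ∈ K ↔ i ∈ cosD) :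
    Nat.card ↥(K ⊓ A.S : Subgroup ↥A.Y) = 8 := by
  have hb : Function.Bijective fun d : {d // d ∈ cosD} =>
      (⟨A.q d.1, (hS _ (cosD_lt d.2)).2 d.2, A.q_mem (cosD_lt d.2)⟩ : ↥(K ⊓ A.S : Subgroup ↥A.Y)) := by
    refine ⟨fun a b e => Subtype.ext (A.q_inj (cosD_lt a.2) (cosD_lt b.2) (congrArg Subtype.val e)), ?_⟩
    rintro ⟨_, hK, i, hi, rfl⟩
    exact ⟨⟨i, (hS i hi).1 hK⟩, rfl⟩
  rw [← Nat.card_congr (Equiv.ofBijective _ hb), Nat.card_eq_fintype_card]
  decide

/-- The intersection of the subgroups of index two. -/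
noncomputable def N2 : Subgroup ↥A.Y := sInf {N | N.index = 2}

theorem N2_le {N : Subgroup ↥A.Y} (h : N.index = 2) : A.N2 ≤ N := sInf_le h

theorem sq_mem_N2 (g : ↥A.Y) : g ^ 2 ∈ A.N2 :=
  Subgroup.mem_sInf.2 fun N hN => Subgroup.sq_mem_of_index_two (H := N) hN g

theorem N2_normal : A.N2.Normal := ⟨fun n hn g => Subgroup.mem_sInf.2 fun N hN =>
  (Subgroup.normal_of_index_eq_two (H := N) hN).conj_mem n (Subgroup.mem_sInf.1 hn N hN) g⟩

theorem odd_mem_N2 {g : ↥A.Y} (h : g ^ 3 = 1 ∨ g ^ 5 = 1) : g ∈ A.N2 := by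
  rcases h with h | h
  · have : g = (g ^ 2) ^ 2 := by rw [← pow_mul, show 2 * 2 = 3 + 1 by norm_num, pow_succ, h, one_mul]
    rw [this]; exact A.sq_mem_N2 _
  · have : g = (g ^ 3) ^ 2 := by rw [← pow_mul, show 3 * 2 = 5 + 1 by norm_num, pow_succ, h, one_mul]
    rw [this]; exact A.sq_mem_N2 _

theorem cosD_mem_N2 {d : ℕ} (hd : d ∈ cosD) : A.q d ∈ A.N2 := by
  refine Subgroup.mem_sInf.2 fun N hN => A.cosD_mem (K := ⊤) le_top ?_ (fun _ _ => trivial) (fun _ => trivial) hd
  rw [Subgroup.relIndex_top_right]; exact hN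

/-- The numbers of the two cosets without involutions. -/
def cosB : List ℕ := [8, 9, 10, 11, 60, 61, 62, 63]

/-- The other coset without involutions. -/
def cosC : List ℕ := [14, 15, 26, 27, 32, 33, 36, 37]

theorem mem_N2_cases {i : ℕ} (hi : i < 64) (h : A.q i ∈ A.N2) : i ∈ cosD ∨ i ∈ cosB ∨ i ∈ cosC := by
  have ho := outside_check.1
  simp only [List.all_eq_true, List.mem_range, List.any_eq_true, Bool.or_eq_true, List.contains_eq_mem,
    decide_eq_true_eq] at ho
  rcases ho i hi with (h' | h') | ⟨d, hd, hk⟩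
  · exact Or.inl h'
  · rw [show cosB = [8, 9, 10, 11, 60, 61, 62, 63] from rfl, show cosC = [14, 15, 26, 27, 32, 33, 36, 37] from rfl]
    simp only [List.mem_cons, List.not_mem_nil, or_false] at h' ⊢
    tauto
  · exfalso
    obtain ⟨N, -, hN, hnot⟩ := A.exists_omit (mulI_lt i d) (by simpa using hk)
    refine hnot ?_
    rw [← A.q_mul hi (cosD_lt hd)]
    exact A.N2_le hN (mul_mem h (A.cosD_mem_N2 hd))

theorem not_both {i j : ℕ} (hi : i ∈ cosB) (hj : j ∈ cosC) (h : A.q i ∈ A.N2) (h' : A.q j ∈ A.N2) : False := by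
  have hlt : (∀ i ∈ cosB, i < 64) ∧ (∀ j ∈ cosC, j < 64) := by decide
  have ho := outside_check.2.2.1
  simp only [List.all_eq_true, List.any_eq_true, Bool.or_eq_true, beq_iff_eq] at ho
  have hprod : A.q (mulI i j) ∈ A.N2 := by
    rw [← A.q_mul (hlt.1 i hi) (hlt.2 j hj)]; exact mul_mem h h'
  rcases ho i hi j hj with hk | ⟨d, hd, hk⟩
  · obtain ⟨N, -, hN, hnot⟩ := A.exists_omit (mulI_lt _ _) (Or.inl hk)
    refine hnot (A.N2_le hN ?_)
    rw [← A.q_mul (mulI_lt _ _) (by norm_num), A.q_zero, mul_one]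
    exact hprod
  · obtain ⟨N, -, hN, hnot⟩ := A.exists_omit (mulI_lt _ _) (Or.inl hk)
    refine hnot (A.N2_le hN ?_)
    rw [← A.q_mul (mulI_lt _ _) (cosD_lt hd)]
    exact mul_mem hprod (A.cosD_mem_N2 hd)

theorem index_N2 : A.N2.index * Nat.card ↥(A.N2 ⊓ A.S : Subgroup ↥A.Y) = 64 := by
  haveI := A.N2_normal
  haveI : Fact (Nat.Prime 2) := ⟨Nat.prime_two⟩
  obtain ⟨Q, hQ⟩ := A.exists_sylow
  have hp : IsPGroup 2 (↥A.Y ⧸ A.N2) := by
    intro x
    obtain ⟨g, rfl⟩ := QuotientGroup.mk'_surjective A.N2 x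
    refine ⟨1, ?_⟩
    rw [pow_one, ← map_pow]
    exact (QuotientGroup.eq_one_iff _).2 (A.sq_mem_N2 g)
  have hsur : A.N2 ⊔ A.S = ⊤ := by
    rw [← Subgroup.index_eq_one]
    obtain ⟨n, hn⟩ := hp.exists_card_eq
    have h1 : (A.N2 ⊔ A.S).index ∣ 2 ^ n := by
      rw [← hn, ← Subgroup.index_eq_card]; exact Subgroup.index_dvd_of_le le_sup_left
    have h2 : (A.N2 ⊔ A.S).index ∣ A.S.index := Subgroup.index_dvd_of_le le_sup_right
    have hc : Nat.Coprime (2 ^ n) A.S.index :=
      Nat.Coprime.pow_left _ (Nat.prime_two.coprime_iff_not_dvd.2 (hQ ▸ Q.not_dvd_index))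
    exact Nat.eq_one_of_dvd_coprimes hc h1 h2
  have h := Subgroup.card_mul_index (A.N2.subgroupOf A.S)
  have e : (A.N2.subgroupOf A.S).index = A.N2.index := by
    show A.N2.relIndex A.S = _
    rw [← Subgroup.relIndex_sup_left, hsur, Subgroup.relIndex_top_right] <;> rw [sup_comm, hsur]
  rw [A.card_S, e, mul_comm] at h
  rw [← h]
  congr 1
  rw [← Subgroup.inf_subgroupOf_right A.N2 A.S]
  exact (Nat.card_congr (Subgroup.subgroupOfEquivOfLe inf_le_right).toEquiv).symm

theorem card_Y : Nat.card ↥A.Y = 2880 := by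
  classical
  haveI : Fact (Nat.Prime 2) := ⟨Nat.prime_two⟩
  haveI := A.N2_normal
  have hr : ∀ n, A.rot n ∈ A.N2 := fun n => A.odd_mem_N2 (Or.inl (A.rot_cube n))
  have h5 : A.five ∈ A.N2 := A.odd_mem_N2 (Or.inr (by rw [← A.five_order]; exact pow_orderOf_eq_one _))
  suffices h : ∃ K : Subgroup ↥A.Y, K.index = 8 ∧ (∀ i < 64, A.q i ∈ K ↔ i ∈ cosD) ∧
      (∀ n, A.rot n ∈ K) ∧ A.five ∈ K by
    obtain ⟨K, hK8, hS, hr', h5'⟩ := h
    have := A.card_of_index_eight hK8 (fun i hi h => (hS i hi).1 h) (fun d hd => (hS d (cosD_lt hd)).2 hd) hr' h5'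
    have h2 := K.card_mul_index
    rw [this, hK8] at h2
    omega
  have hidx := A.index_N2
  by_cases hex : ∃ i < 64, i ∉ cosD ∧ A.q i ∈ A.N2
  · -- one more transfer
    obtain ⟨i₀, hi₀, hiD, hiN⟩ := hex
    have hoth : ∀ i < 64, i ∉ cosD → A.q i ∈ A.N2 → ((i₀ ∈ cosB ↔ i ∈ cosB) ∧ (i₀ ∈ cosC ↔ i ∈ cosC)) := by
      intro i hi hiD' hiN'
      rcases A.mem_N2_cases hi₀ hiN with h | h | h
      · exact absurd h hiD
      · rcases A.mem_N2_cases hi hiN' with h' | h' | h'
        · exact absurd h' hiD'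
        · exact ⟨iff_of_true h h', iff_of_false (fun hC => A.not_both h hC hiN hiN) (fun hC => A.not_both h' hC hiN' hiN')⟩
        · exact (A.not_both h h' hiN hiN').elim
      · rcases A.mem_N2_cases hi hiN' with h' | h' | h'
        · exact absurd h' hiD'
        · exact (A.not_both h' h hiN' hiN).elim
        · exact ⟨iff_of_false (fun hB => A.not_both hB h hiN hiN) (fun hB => A.not_both hB h' hiN' hiN'), iff_of_true h h'⟩
    have hprodD : ∀ i j, i < 64 → j < 64 → i ∉ cosD → j ∉ cosD → A.q i ∈ A.N2 → A.q j ∈ A.N2 → mulI i j ∈ cosD := by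
      intro i j hi hj hiD' hjD hiN' hjN
      have h1 := hoth i hi hiD' hiN'
      have h2 := hoth j hj hjD hjN
      obtain ⟨-, -, -, ho4, ho5⟩ := outside_check
      simp only [List.all_eq_true, List.contains_eq_mem, decide_eq_true_eq] at ho4 ho5
      rcases A.mem_N2_cases hi hiN' with h | h | h
      · exact absurd h hiD'
      · exact ho4 i h j (h2.1.1 (h1.1.2 h))
      · exact ho5 i h j (h2.2.1 (h1.2.2 h))
    have hmem : i₀ ∈ cosB ++ cosC := by
      rcases A.mem_N2_cases hi₀ hiN with h | h | h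
      · exact absurd h hiD
      · exact List.mem_append_left _ h
      · exact List.mem_append_right _ h
    have hno := outside_check.2.1
    simp only [List.all_eq_true, Bool.and_eq_true, Bool.not_eq_true', beq_eq_false_iff_ne, List.any_eq_true,
      beq_iff_eq, List.contains_eq_mem, decide_eq_false_iff_not] at hno
    obtain ⟨⟨-, -⟩, d₀, hd₀, hsq⟩ := hno i₀ hmem
    set i₁ := mulI i₀ d₀ with hi₁
    have hi₁N : A.q i₁ ∈ A.N2 := by
      rw [hi₁, ← A.q_mul hi₀ (cosD_lt hd₀)]; exact mul_mem hiN (A.cosD_mem_N2 hd₀)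
    have hi₁D : i₁ ∉ cosD := by
      intro h
      apply hiD
      have hcl : ∀ a ∈ cosD, ∀ b ∈ cosD, ∀ i < 64, mulI i b = a → i ∈ cosD := by decide +kernel
      exact hcl i₁ h d₀ hd₀ i₀ hi₀ rfl
    obtain ⟨Q, hQ⟩ := A.exists_sylow
    set T : Sylow 2 ↥A.N2 := Classical.choice inferInstance with hTdef
    have hSN : Nat.card ↥(A.N2 ⊓ A.S : Subgroup ↥A.Y) = 16 := by
      have hb : Function.Bijective fun p : Fin 2 × {d // d ∈ cosD} =>
          (⟨A.q (mulI (if p.1 = 0 then 0 else i₁) p.2.1), by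
            rw [← A.q_mul (by split_ifs; exacts [by norm_num, mulI_lt _ _]) (cosD_lt p.2.2)]
            refine mul_mem ?_ (A.cosD_mem_N2 p.2.2)
            split_ifs
            · rw [A.q_zero]; exact one_mem _
            · exact hi₁N, A.q_mem (mulI_lt _ _)⟩ : ↥(A.N2 ⊓ A.S : Subgroup ↥A.Y)) := by
        refine ⟨?_, ?_⟩
        · rintro ⟨a, d⟩ ⟨b, d'⟩ e
          have e' := A.q_inj (mulI_lt _ _) (mulI_lt _ _) (congrArg Subtype.val e)
          have h0 : ∀ d ∈ cosD, mulI 0 d = d := by decide +kernel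
          have hout : ∀ i < 64, i ∉ cosD → ∀ d ∈ cosD, mulI i d ∉ cosD := by decide +kernel
          have hA : a = b := by
            fin_cases a <;> fin_cases b
            · rfl
            · simp only [Fin.zero_eta, if_true, Fin.mk_one, show ((1 : Fin 2) = 0) = False by simp, if_false] at e'
              rw [h0 _ d.2] at e'
              exact absurd (e' ▸ d.2) (hout _ (mulI_lt _ _) hi₁D _ d'.2)
            · simp only [Fin.zero_eta, if_true, Fin.mk_one, show ((1 : Fin 2) = 0) = False by simp, if_false] at e'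
              rw [h0 _ d'.2] at e'
              exact absurd (e'.symm ▸ d'.2) (hout _ (mulI_lt _ _) hi₁D _ d.2)
            · rfl
          subst hA
          refine Prod.ext rfl (Subtype.ext (A.q_inj (cosD_lt d.2) (cosD_lt d'.2) ?_))
          have e2 := congrArg A.q e'
          rw [← A.q_mul (by split_ifs; exacts [by norm_num, mulI_lt _ _]) (cosD_lt d.2),
            ← A.q_mul (by split_ifs; exacts [by norm_num, mulI_lt _ _]) (cosD_lt d'.2)] at e2
          exact mul_left_cancel e2
        · rintro ⟨_, hN, i, hi, rfl⟩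
          by_cases hD' : i ∈ cosD
          · refine ⟨(0, ⟨i, hD'⟩), Subtype.ext ?_⟩
            show A.q (mulI 0 i) = A.q i
            rw [← A.q_mul (by norm_num) hi, A.q_zero, one_mul]
          · -- `i` is `i₁` times an element of the dihedral group
            obtain ⟨j, hj, hji⟩ := A.S.inv_mem (A.q_mem (mulI_lt i₀ d₀))
            have hjN : A.q j ∈ A.N2 := hji ▸ inv_mem hi₁N
            have hjD : j ∉ cosD := fun h => by
              have hinv : A.q i₁ * A.q j = 1 := by rw [hji, mul_inv_cancel]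
              rw [A.q_mul (mulI_lt _ _) hj, ← A.q_zero] at hinv
              have h0 := A.q_inj (mulI_lt _ _) (by norm_num) hinv
              have hout : ∀ i < 64, i ∉ cosD → ∀ d ∈ cosD, mulI i d ≠ 0 := by decide +kernel
              exact hout _ (mulI_lt _ _) hi₁D j h h0
            refine ⟨(1, ⟨mulI j i, hprodD j i hj hi hjD hD' hjN hN⟩), Subtype.ext ?_⟩
            show A.q (mulI (if (1 : Fin 2) = 0 then 0 else i₁) (mulI j i)) = A.q i
            rw [if_neg (by decide), ← A.q_mul (mulI_lt _ _) (mulI_lt _ _), ← A.q_mul hj hi, hji]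
            group
      rw [← Nat.card_congr (Equiv.ofBijective _ hb), Nat.card_prod, Nat.card_fin, Nat.card_eq_fintype_card]
      decide
    have hN4 : A.N2.index = 4 := by rw [hSN] at hidx; omega
    -- a Sylow subgroup of `N2`
    set S' : Subgroup ↥A.N2 := A.S.subgroupOf A.N2 with hS'
    have hS'card : Nat.card ↥S' = 16 := by
      rw [hS', ← Subgroup.inf_subgroupOf_right A.S A.N2, inf_comm,
        Nat.card_congr (Subgroup.subgroupOfEquivOfLe inf_le_left).toEquiv]
      exact hSN
    have hS'p : IsPGroup 2 ↥S' := IsPGroup.of_card (n := 4) (by rw [hS'card]; norm_num)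
    have hS'i : ¬ 2 ∣ S'.index := by
      intro hdvd
      have hm := S'.card_mul_index
      have hn := A.N2.card_mul_index
      rw [hS'card] at hm
      rw [hN4] at hn
      have hq := Q.not_dvd_index
      have hm' := (Q : Subgroup ↥A.Y).card_mul_index
      rw [hQ, A.card_S] at hm'
      rw [hQ] at hq
      obtain ⟨k, hk⟩ := hdvd
      exact hq ⟨k, by rw [← hn, ← hm, hk] at hm'; omega⟩
    let R : Sylow 2 ↥A.N2 := hS'p.toSylow hS'i
    have hRS : (R : Subgroup ↥A.N2) = S' := rfl
    -- the dihedral subgroup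
    let M : Subgroup ↥A.N2 :=
      { carrier := {g | ∃ d ∈ cosD, A.q d = g.1}
        one_mem' := ⟨0, by decide, A.q_zero⟩
        mul_mem' := by
          rintro a b ⟨i, hi, ei⟩ ⟨j, hj, ej⟩
          have hcl : ∀ a ∈ cosD, ∀ b ∈ cosD, mulI a b ∈ cosD := by decide +kernel
          exact ⟨_, hcl i hi j hj, by rw [← A.q_mul (cosD_lt hi) (cosD_lt hj), ei, ej]; rfl⟩
        inv_mem' := by
          rintro a ⟨i, hi, ei⟩
          have hcl : ∀ a ∈ cosD, ∃ b ∈ cosD, mulI a b = 0 := by decide +kernel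
          obtain ⟨b, hb, eb⟩ := hcl i hi
          refine ⟨b, hb, ?_⟩
          rw [Subgroup.coe_inv, ← ei]
          exact eq_inv_of_mul_eq_one_right (by rw [A.q_mul (cosD_lt hi) (cosD_lt hb), eb, A.q_zero]) }
    have hMR : M ≤ (R : Subgroup ↥A.N2) := by
      rintro g ⟨d, hd, e⟩
      show g.1 ∈ A.S
      exact e ▸ A.q_mem (cosD_lt hd)
    have hM8 : Nat.card ↥M = 8 := by
      have hb : Function.Bijective fun d : {d // d ∈ cosD} =>
          (⟨⟨A.q d.1, A.cosD_mem_N2 d.2⟩, d.1, d.2, rfl⟩ : ↥M) := by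
        refine ⟨fun a b e => Subtype.ext (A.q_inj (cosD_lt a.2) (cosD_lt b.2)
          (congrArg (fun z : ↥M => (z : ↥A.Y)) e)), ?_⟩
        rintro ⟨g, d, hd, e⟩
        exact ⟨⟨d, hd⟩, Subtype.ext (Subtype.ext e)⟩
      rw [← Nat.card_congr (Equiv.ofBijective _ hb), Nat.card_eq_fintype_card]
      decide
    have hMrel : M.relIndex (R : Subgroup ↥A.N2) = 2 := by
      have := Subgroup.card_mul_index (M.subgroupOf (R : Subgroup ↥A.N2))
      rw [Nat.card_congr (Subgroup.subgroupOfEquivOfLe hMR).toEquiv, hM8, hRS, hS'card] at this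
      show (M.subgroupOf (R : Subgroup ↥A.N2)).index = 2
      rw [hRS]; omega
    set x : ↥A.N2 := ⟨A.q i₁, hi₁N⟩ with hx
    have hx4 : orderOf x = 2 ^ 2 := by
      have h2 : A.q i₁ * A.q i₁ = A.q 18 := by rw [A.q_mul (mulI_lt _ _) (mulI_lt _ _), hsq]
      rw [← Subgroup.orderOf_coe, show (2 : ℕ) ^ 2 = 2 ^ (1 + 1) from rfl]
      refine orderOf_eq_prime_pow ?_ ?_
      · rw [pow_one]
        show ¬ A.q i₁ ^ 2 = 1
        rw [pow_two, h2, ← A.q_zero]
        intro e
        have := A.q_inj (by norm_num) (by norm_num) e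
        omega
      · show A.q i₁ ^ 4 = 1
        rw [show (4 : ℕ) = 2 * 2 from rfl, pow_mul, pow_two (A.q i₁), h2, pow_two,
          A.q_mul (by norm_num) (by norm_num), show mulI 18 18 = 0 by decide +kernel, A.q_zero]
    have hord : ∀ y ∈ (R : Subgroup ↥A.N2), y ∉ M → 2 ^ (2 - 1) < orderOf y := by
      intro y hy hyM
      obtain ⟨i, hi, ei⟩ := (hy : y.1 ∈ A.S)
      have hiD' : i ∉ cosD := fun h => hyM ⟨i, h, ei⟩
      have hmem' : i ∈ cosB ++ cosC := by
        rcases A.mem_N2_cases hi (ei ▸ y.2) with h | h | h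
        · exact absurd h hiD'
        · exact List.mem_append_left _ h
        · exact List.mem_append_right _ h
      by_contra hle
      push_neg at hle
      norm_num at hle
      have hy2 : y ^ 2 = 1 := by
        have : orderOf y ∣ 2 := by
          have h0 := orderOf_pos y
          interval_cases orderOf y <;> norm_num
        exact orderOf_dvd_iff_pow_eq_one.1 this
      have h := congrArg Subtype.val hy2
      simp only [Subgroup.coe_pow, Subgroup.coe_one] at h
      rw [← show A.q i = y.1 from ei, pow_two, A.q_mul hi hi, ← A.q_zero] at h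
      exact (hno i hmem').1.1 (A.q_inj (mulI_lt _ _) (by norm_num) h)
    have hnconj : ∀ g : ↥A.N2, g * x * g⁻¹ ∉ M := by
      rintro g ⟨d, hd, e⟩
      have e' : g.1 * A.q i₁ * g.1⁻¹ = A.q d := by rw [e]; rfl
      have h2 : A.q d * A.q d = g.1 * A.q 18 * g.1⁻¹ := by
        rw [← e']
        calc g.1 * A.q i₁ * g.1⁻¹ * (g.1 * A.q i₁ * g.1⁻¹) = g.1 * (A.q i₁ * A.q i₁) * g.1⁻¹ := by group
          _ = _ := by rw [A.q_mul (mulI_lt _ _) (mulI_lt _ _), hsq]
      rw [A.q_mul (cosD_lt hd) (cosD_lt hd)] at h2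
      have hsqD : ∀ d ∈ cosD, mulI d d = 0 ∨ mulI d d = 18 := by decide +kernel
      rcases hsqD d hd with h0 | h0
      · rw [h0, A.q_zero, eq_comm, mul_inv_eq_one, mul_eq_left, ← A.q_zero] at h2
        have := A.q_inj (by norm_num) (by norm_num) h2
        omega
      · rw [h0, eq_mul_inv_iff_mul_eq] at h2
        obtain ⟨j, hj, ej⟩ := A.mem_S_of_comm h2.symm
        rw [← ej, mul_inv_eq_iff_eq_mul, A.q_mul hj (mulI_lt _ _), A.q_mul (cosD_lt hd) hj] at e'
        have e3 := A.q_inj (mulI_lt _ _) (mulI_lt _ _) e'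
        have hn : ∀ j < 64, ∀ i < 64, ∀ d ∈ cosD, mulI j i = mulI d j → i ∈ cosD := by decide +kernel
        exact hi₁D (hn j hj _ (mulI_lt _ _) d hd e3)
    obtain ⟨I, hI, hxI⟩ := CfsgLib.Invol.exists_index_two_notMem R M hMR hMrel hord x hx4 hnconj
    have hIle : I.map A.N2.subtype ≤ A.N2 := Subgroup.map_subtype_le I
    have hIrel : (I.map A.N2.subtype).relIndex A.N2 = 2 := by
      rw [Subgroup.relIndex, Subgroup.subgroupOf,
        Subgroup.comap_map_eq_self_of_injective A.N2.subtype_injective, hI]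
    have hsqI : ∀ g ∈ A.N2, g ^ 2 ∈ I.map A.N2.subtype := fun g hg =>
      ⟨⟨g, hg⟩ ^ 2, Subgroup.sq_mem_of_index_two hI _, rfl⟩
    have hoddI : ∀ g ∈ A.N2, g ^ 3 = 1 ∨ g ^ 5 = 1 → g ∈ I.map A.N2.subtype := by
      intro g hg h
      rcases h with h | h
      · have := hsqI (g ^ 2) (pow_mem hg 2)
        rwa [← pow_mul, show 2 * 2 = 3 + 1 by norm_num, pow_succ, h, one_mul] at this
      · have := hsqI (g ^ 3) (pow_mem hg 3)
        rwa [← pow_mul, show 3 * 2 = 5 + 1 by norm_num, pow_succ, h, one_mul] at this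
    have hDI : ∀ d ∈ cosD, A.q d ∈ I.map A.N2.subtype := fun d hd =>
      A.cosD_mem hIle hIrel (fun e he => A.cosD_mem_N2 he) hr hd
    refine ⟨I.map A.N2.subtype, ?_, fun i hi => ⟨fun h => ?_, hDI i⟩,
      fun n => hoddI _ (hr n) (Or.inl (A.rot_cube n)),
      hoddI _ h5 (Or.inr (by rw [← A.five_order]; exact pow_orderOf_eq_one _))⟩
    · rw [← Subgroup.relIndex_mul_index hIle, hIrel, hN4]
    · by_contra hiD'
      have hiN' : A.q i ∈ A.N2 := hIle h
      apply hxI
      obtain ⟨j, hj, ej⟩ := A.S.inv_mem (A.q_mem hi)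
      have hj0 : A.q (mulI j i) = 1 := by rw [← A.q_mul hj hi, ej, inv_mul_cancel]
      have hjD : j ∉ cosD := fun h' => by
        have hcl : ∀ a ∈ cosD, ∀ i < 64, mulI a i = 0 → i ∈ cosD := by decide +kernel
        exact hiD' (hcl j h' i hi (A.q_inj (mulI_lt _ _) (by norm_num) (hj0.trans A.q_zero.symm)))
      have hmem1 : mulI j i₁ ∈ cosD :=
        hprodD j i₁ hj (mulI_lt _ _) hjD hi₁D (ej ▸ inv_mem hiN') hi₁N
      have hkey : A.q i₁ ∈ I.map A.N2.subtype := by
        have : A.q i₁ = A.q i * A.q (mulI j i₁) := by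
          rw [← A.q_mul hj (mulI_lt _ _), ej]; group
          rfl
        rw [this]
        exact mul_mem h (hDI _ hmem1)
      obtain ⟨g, hg, eg⟩ := hkey
      have : g = x := Subtype.ext eg
      exact this ▸ hg
  · push_neg at hex
    have hS : ∀ i < 64, A.q i ∈ A.N2 ↔ i ∈ cosD :=
      fun i hi => ⟨fun h => by_contra fun hn => hex i hi hn h, A.cosD_mem_N2⟩
    refine ⟨A.N2, ?_, hS, hr, h5⟩
    rw [A.card_S_meet hS] at hidx
    omega

/-- The centralizer of the second involution lies in the Higman–Sims group. -/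
theorem Y_le_range : A.Y ≤ A.ι.range := by
  set X := A.ι.range.subgroupOf A.Y with hX
  have h64 : 64 ∣ Nat.card ↥X := by
    have hle : A.S ≤ X := by rintro _ ⟨i, _, rfl⟩; exact ⟨sE i, rfl⟩
    have := Subgroup.card_dvd_of_le hle
    rwa [A.card_S] at this
  have h5 : 5 ∣ Nat.card ↥X := by
    have := Subgroup.orderOf_dvd_natCard X (⟨el fiveW, rfl⟩ : A.five ∈ X)
    rwa [A.five_order] at this
  have h9 : 9 ∣ Nat.card ↥X := by
    obtain ⟨-, -, h3, h4, h5'⟩ := extra_check
    simp only [Bool.and_eq_true] at h3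
    have hlen : nineW.length = 2 := by decide +kernel
    have hmem : ∀ n : Fin 2, nineW.getD n.1 [] ∈ nineW := fun n => by
      rw [List.getD_eq_getElem _ _ (by rw [hlen]; exact n.2)]; exact List.getElem_mem _
    let e : Fin 2 → ↥X := fun n => ⟨A.lift (el (nineW.getD n.1 [])) (comm_of_check (extra_elem.2 _ (hmem n)).2), _, rfl⟩
    have ho : ∀ n, orderOf (e n) = 3 := fun n => by
      rw [← Subgroup.orderOf_coe, ← Subgroup.orderOf_coe]
      exact (orderOf_injective A.ι A.inj _).trans (order_of_check (by norm_num) (extra_elem.2 _ (hmem n)).1)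
    set C := Subgroup.centralizer ({e 0} : Set ↥X) with hC
    have h1C : e 1 ∈ C := mem_centralizer_singleton_iff.2 (Subtype.ext (Subtype.ext (by
      show A.ι _ * A.ι _ = A.ι _ * A.ι _
      rw [← map_mul, ← map_mul]
      exact congrArg A.ι (comm_of_check (k := nineW.getD 0 []) h3.2).symm)))
    set Z := Subgroup.zpowers (⟨e 0, mem_centralizer_singleton_iff.2 rfl⟩ : ↥C) with hZ
    haveI : Z.Normal := ⟨fun z hz c => by
      obtain ⟨k, rfl⟩ := hz
      have hcomm : Commute c (⟨e 0, mem_centralizer_singleton_iff.2 rfl⟩ : ↥C) :=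
        Subtype.ext (mem_centralizer_singleton_iff.1 c.2)
      rw [(hcomm.zpow_right k).eq, mul_inv_cancel_right]
      exact Subgroup.zpow_mem_zpowers _ k⟩
    have hz : Nat.card ↥Z = 3 := by rw [hZ, Nat.card_zpowers, Subgroup.orderOf_mk, ho]
    have hq : orderOf (QuotientGroup.mk' Z ⟨e 1, h1C⟩) = 3 := by
      haveI : Fact (Nat.Prime 3) := ⟨Nat.prime_three⟩
      refine orderOf_eq_prime ?_ fun hone => ?_
      · rw [← map_pow, show (⟨e 1, h1C⟩ : ↥C) ^ 3 = 1 from Subtype.ext (by
          rw [Subgroup.coe_pow, Subgroup.coe_one, ← ho 1]; exact pow_orderOf_eq_one _), map_one]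
      · rw [QuotientGroup.mk'_apply, QuotientGroup.eq_one_iff, hZ, ← mem_powers_iff_mem_zpowers] at hone
        obtain ⟨k, hk⟩ := hone
        have hk' : e 0 ^ k = e 1 := congrArg Subtype.val hk
        rw [pow_eq_pow_mod k (show e 0 ^ 3 = 1 by rw [← ho 0]; exact pow_orderOf_eq_one _)] at hk'
        have hk3 := Nat.mod_lt k (show 3 > 0 by norm_num)
        have hval : ∀ m, e 0 ^ m = e 1 → el (nineW.getD 0 []) ^ m = el (nineW.getD 1 []) := fun m hm => by
          refine A.inj ?_
          rw [map_pow]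
          exact congrArg (fun z : ↥X => ((z : ↥A.Y) : G)) hm
        have hok : ∀ n : Fin 2, elOK (nineW.getD n.1 []) = true := fun n => by
          have := (extra_elem.2 _ (hmem n)).1
          simp only [ordOK, Bool.and_eq_true] at this
          exact this.1.1
        interval_cases hm : k % 3
        · have h := hval 0 hk'
          rw [pow_zero] at h
          have := ho 1
          rw [← hk', pow_zero, orderOf_one] at this
          norm_num at this
        · have h := hval 1 hk'
          rw [pow_one] at h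
          have h' := onBase_of_eq (does_el (hok 1)) (does_el (hok 0)) h.symm
          simp only [Fin.val_zero, Fin.val_one] at h'
          rw [h'] at h4
          exact Bool.noConfusion h4
        · have h := hval 2 hk'
          have h' := onBase_of_eq (does_el (hok 1)) ((does_el (hok 0)).pow 2) h.symm
          simp only [Fin.val_zero, Fin.val_one] at h'
          rw [h'] at h5'
          exact Bool.noConfusion h5'
    have h3q : 3 ∣ Z.index := by
      rw [Subgroup.index_eq_card, ← hq]; exact orderOf_dvd_natCard _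
    have := Z.card_mul_index
    rw [hz] at this
    obtain ⟨m, hm⟩ := h3q
    refine Dvd.dvd.trans ⟨m, by rw [← this, hm]; ring⟩ (Subgroup.card_subgroup_dvd_card C)
  have h2880 : 2880 ∣ Nat.card ↥X := by
    have h45 : 45 ∣ Nat.card ↥X := (show Nat.Coprime 9 5 by norm_num).mul_dvd_of_dvd_of_dvd h9 h5
    exact (show Nat.Coprime 64 45 by norm_num).mul_dvd_of_dvd_of_dvd h64 h45
  have htop : X = ⊤ := by
    refine Subgroup.eq_top_of_le_card _ ?_
    rw [A.card_Y]
    exact Nat.le_of_dvd Nat.card_pos h2880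
  exact Subgroup.subgroupOf_eq_top.1 htop

end CfsgLib.Spor.HSType.Setting
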