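import Cfsg.Agent.Lib.Spor.TC.Signed
import Cfsg.Agent.Lib.Spor.HSType.MExist
import Mathlib.Tactic.IntervalCases

/-!
# Words in the generators

The letters `0, 2, 4, 6` stand for `z, a, b, c` and `8` for a further element; odd letters are the inverses
and the number of letters is the empty letter.
-/

set_option autoImplicit false

namespace CfsgLib.Spor.HSType

open CfsgLib.Spor.TC

variable {G : Type*} [Group G]

/-- The values of the letters of the four generators. -/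
def gvM (z a b c : G) : ℕ → G
  | 0 => z | 1 => z⁻¹ | 2 => a | 3 => a⁻¹ | 4 => b | 5 => b⁻¹ | 6 => c | 7 => c⁻¹
  | _ => 1

/-- The values of the letters with the further element. -/
def gvH (z a b c h : G) : ℕ → G
  | 0 => z | 1 => z⁻¹ | 2 => a | 3 => a⁻¹ | 4 => b | 5 => b⁻¹ | 6 => c | 7 => c⁻¹
  | 8 => h | 9 => h⁻¹
  | _ => 1

theorem gvM_inv (z a b c : G) : ∀ x, gvM z a b c (invLetter 8 x) = (gvM z a b c x)⁻¹ := by
  intro x
  by_cases hx : x < 8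
  · interval_cases x <;> simp [gvM, invLetter, Nat.ble, Nat.xor, Nat.bitwise]
  · obtain ⟨y, rfl⟩ : ∃ y, x = 8 + y := ⟨x - 8, by omega⟩
    have h : invLetter 8 (8 + y) = 8 + y := by
      simp [invLetter, Nat.ble_eq_true_of_le (Nat.le_add_right 8 y)]
    rw [h, Nat.add_comm 8 y]
    simp [gvM]

theorem gvH_inv (z a b c h : G) : ∀ x, gvH z a b c h (invLetter 10 x) = (gvH z a b c h x)⁻¹ := by
  intro x
  by_cases hx : x < 10
  · interval_cases x <;> simp [gvH, invLetter, Nat.ble, Nat.xor, Nat.bitwise]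
  · obtain ⟨y, rfl⟩ : ∃ y, x = 10 + y := ⟨x - 10, by omega⟩
    have h : invLetter 10 (10 + y) = 10 + y := by
      simp [invLetter, Nat.ble_eq_true_of_le (Nat.le_add_right 10 y)]
    rw [h, Nat.add_comm 10 y]
    simp [gvH]

namespace Gens

variable (F : Gens G)

theorem vec_unit : F.vec (1, 0, 0) = F.z ∧ F.vec (0, 1, 0) = F.z1 ∧ F.vec (0, 0, 1) = F.z2 := by
  simp [vec, show (1 : ZMod 4).val = 1 from rfl]

theorem a_vec (v : V4) : F.a * F.vec v * F.a⁻¹ = F.vec (actA v) := by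
  refine F.vec_conj (e₀ := (0, 1, 0)) (e₁ := (0, 0, 1)) (e₂ := (1, 3, 2)) ?_ ?_ ?_ v
  · exact F.vec_unit.2.1.symm
  · exact F.vec_unit.2.2.symm
  · rw [show F.a * F.z2 * F.a⁻¹ = F.z * F.z1 ^ 3 * F.z2 ^ 2 from F.az2]
    simp [vec, show (1 : ZMod 4).val = 1 from rfl, show (3 : ZMod 4).val = 3 from rfl,
      show (2 : ZMod 4).val = 2 from rfl]

theorem b_z1 : F.b * F.z1 * F.b⁻¹ = F.z2 := by
  have hz : F.b * F.z * F.b⁻¹ = F.z := by rw [F.bz.eq, mul_inv_cancel_right]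
  calc F.b * F.z1 * F.b⁻¹ = (F.b * F.a * F.b⁻¹) * (F.b * F.z * F.b⁻¹) * (F.b * F.a * F.b⁻¹)⁻¹ := by
        rw [z1]; group
    _ = F.z2 := by rw [F.bab, hz, z2, z1, pow_two]; group

theorem b_vec (v : V4) : F.b * F.vec v * F.b⁻¹ = F.vec (actB v) := by
  refine F.vec_conj (e₀ := (1, 0, 0)) (e₁ := (0, 0, 1)) (e₂ := (2, 3, 3)) ?_ ?_ ?_ v
  · rw [F.bz.eq, mul_inv_cancel_right, F.vec_unit.1]
  · rw [F.b_z1, F.vec_unit.2.2]
  · calc F.b * F.z2 * F.b⁻¹ = (F.b * F.a * F.b⁻¹) * (F.b * F.z1 * F.b⁻¹) * (F.b * F.a * F.b⁻¹)⁻¹ := by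
          rw [z2]; group
      _ = F.a * (F.a * F.z2 * F.a⁻¹) * F.a⁻¹ := by rw [F.bab, F.b_z1, pow_two]; group
      _ = _ := by rw [← F.vec_unit.2.2, F.a_vec, F.a_vec]; congr 1

theorem c_vec (v : V4) : F.c * F.vec v * F.c⁻¹ = F.vec (actC v) := by
  have hcz : F.c * F.z * F.c⁻¹ = F.vec (3, 0, 0) := by
    rw [F.czc]
    refine inv_eq_of_mul_eq_one_right ?_
    rw [← F.vec_unit.1, ← F.vec_add]; simp [vec, show ((1 : ZMod 4) + 3) = 0 from rfl]
  have hcz1 : F.c * F.z1 * F.c⁻¹ = F.z2 := F.cz1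
  refine F.vec_conj (e₀ := (3, 0, 0)) (e₁ := (0, 0, 1)) (e₂ := (0, 1, 0)) hcz ?_ ?_ v
  · rw [hcz1, F.vec_unit.2.2]
  · have hcb : F.c * F.b * F.c⁻¹ = F.b⁻¹ := F.cbc
    calc F.c * F.z2 * F.c⁻¹ = (F.c * F.b * F.c⁻¹) * (F.c * F.z1 * F.c⁻¹) * (F.c * F.b * F.c⁻¹)⁻¹ := by
          rw [← F.b_z1]; group
      _ = F.z1 := by rw [hcb, hcz1, ← F.b_z1]; group
      _ = _ := F.vec_unit.2.1.symm

theorem z_sq_vec : F.z ^ 2 = F.vec (2, 0, 0) := by
  simp [vec, show (2 : ZMod 4).val = 2 from rfl]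

end Gens

end CfsgLib.Spor.HSType
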